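import Mathlib
import Cfsg.Prelude.Def_LieRecognition
import Cfsg.Agent.LieRecognition.RankOneBasic
import Cfsg.Agent.S1119
import Cfsg.Agent.S1120
import Cfsg.Agent.S1121
import Cfsg.Agent.S1122
import Cfsg.Agent.S1128
set_option linter.all false

set_option autoImplicit false

/-!
Reduction step (I1) for S1136: in the rank-one set-up (faithful, 2-rank at least 2) every normal
subgroup `L` containing the involutions contains `Q`, has odd index, is doubly transitive and
satisfies the rank-one set-up with the same `E`, `K`; the subgroup generated by the involutions is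
simple.
-/

namespace Cfsg.Agent.SuzukiRankOne.Reduction

open MulAction

open Cfsg.Agent.LieRecognition.RankOneBasic (exists_smul_t_smul t_smul_ne)

section general

variable {G Ω : Type*} [Group G] [MulAction G Ω] {a : Ω} {t : G} {Q : Subgroup G}

/-- `D`, the two-point stabiliser. -/
abbrev twoPt (G : Type*) {Ω : Type*} [Group G] [MulAction G Ω] (a b : Ω) : Subgroup G :=
  stabilizer G a ⊓ stabilizer G b

/-- Two distinct commuting involutions of `G` have conjugates inside any subgroup containing a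
Sylow 2-subgroup. -/
theorem exists_two_involutions_mem [Finite G] (P : Sylow 2 G) (H : Subgroup G)
    (hP : (P : Subgroup G) ≤ H)
    (h2 : ∃ x y : G, x ≠ 1 ∧ y ≠ 1 ∧ x ≠ y ∧ x * x = 1 ∧ y * y = 1 ∧ x * y = y * x) :
    ∃ x y : G, x ∈ H ∧ y ∈ H ∧ x ≠ 1 ∧ y ≠ 1 ∧ x ≠ y ∧ x * x = 1 ∧ y * y = 1 ∧ x * y = y * x := by
  obtain ⟨x, y, hx1, hy1, hxy, hx2, hy2, hc⟩ := h2
  have hp : Fact (Nat.Prime 2) := ⟨Nat.prime_two⟩
  have hox : orderOf x = 2 := orderOf_eq_prime (by rw [pow_two]; exact hx2) hx1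
  have hoy : orderOf y = 2 := orderOf_eq_prime (by rw [pow_two]; exact hy2) hy1
  have hX : IsPGroup 2 (Subgroup.zpowers x) :=
    IsPGroup.of_card (n := 1) (by rw [Nat.card_zpowers, hox, pow_one])
  have hY : IsPGroup 2 (Subgroup.zpowers y) :=
    IsPGroup.of_card (n := 1) (by rw [Nat.card_zpowers, hoy, pow_one])
  have hn : Subgroup.zpowers x ≤ Subgroup.normalizer (Subgroup.zpowers y : Set G) := by
    rw [Subgroup.zpowers_le]
    apply Subgroup.centralizer_le_normalizer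
    rw [Subgroup.mem_centralizer_iff]
    intro z hz
    obtain ⟨n, rfl⟩ := Subgroup.mem_zpowers_iff.mp hz
    exact ((Commute.zpow_right (show Commute x y from hc) n)).symm.eq
  have hXY : IsPGroup 2 (Subgroup.zpowers x ⊔ Subgroup.zpowers y : Subgroup G) :=
    IsPGroup.to_sup_of_normal_right' hX hY hn
  obtain ⟨P1, hP1⟩ := hXY.exists_le_sylow
  obtain ⟨g, hg⟩ := MulAction.exists_smul_eq G P1 P
  have hmem : ∀ z ∈ (P1 : Subgroup G), g * z * g⁻¹ ∈ H := by
    intro z hz
    apply hP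
    rw [← hg]
    exact ⟨z, hz, rfl⟩
  have hxm : x ∈ (P1 : Subgroup G) := hP1 (Subgroup.mem_sup_left (Subgroup.mem_zpowers x))
  have hym : y ∈ (P1 : Subgroup G) := hP1 (Subgroup.mem_sup_right (Subgroup.mem_zpowers y))
  refine ⟨g * x * g⁻¹, g * y * g⁻¹, hmem x hxm, hmem y hym, ?_, ?_, ?_, ?_, ?_, ?_⟩
  · intro h; exact hx1 (by simpa using h)
  · intro h; exact hy1 (by simpa using h)
  · intro h; exact hxy (by simpa using h)
  · rw [show g * x * g⁻¹ * (g * x * g⁻¹) = g * (x * x) * g⁻¹ by group, hx2]; group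
  · rw [show g * y * g⁻¹ * (g * y * g⁻¹) = g * (y * y) * g⁻¹ by group, hy2]; group
  · rw [show g * x * g⁻¹ * (g * y * g⁻¹) = g * (x * y) * g⁻¹ by group, hc]; group

/-- `Q` contains two distinct commuting involutions. -/
theorem exists_two_involutions_Q [Finite G] (hS : Cfsg.IsRankOneSetup G Ω a t Q)
    (h2 : ∃ x y : G, x ≠ 1 ∧ y ≠ 1 ∧ x ≠ y ∧ x * x = 1 ∧ y * y = 1 ∧ x * y = y * x) :
    ∃ x y : G, x ∈ Q ∧ y ∈ Q ∧ x ≠ 1 ∧ y ≠ 1 ∧ x ≠ y ∧ x * x = 1 ∧ y * y = 1 ∧ x * y = y * x := by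
  obtain ⟨-, -, -, ⟨P, hP⟩, -⟩ := Cfsg.Agent.S1119.result hS
  exact exists_two_involutions_mem P Q hP h2

/-- `K ≠ 1`. -/
theorem exists_inverted_ne_one [Finite G] (hS : Cfsg.IsRankOneSetup G Ω a t Q)
    (h2 : ∃ x y : G, x ≠ 1 ∧ y ≠ 1 ∧ x ≠ y ∧ x * x = 1 ∧ y * y = 1 ∧ x * y = y * x) :
    ∃ k ∈ Cfsg.invertedBy (stabilizer G a ⊓ stabilizer G (t • a)) t, k ≠ 1 := by
  obtain ⟨hcard, -⟩ := Cfsg.Agent.S1122.result hS
  obtain ⟨x, y, hxm, hym, hx1, hy1, hxy, hx2, hy2, -⟩ := exists_two_involutions_Q hS h2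
  have hI : 1 < Nat.card (Cfsg.involutionsIn (stabilizer G a : Set G)) := by
    rw [Finite.one_lt_card_iff_nontrivial]
    exact ⟨⟨⟨x, hS.le hxm, hx1, hx2⟩, ⟨y, hS.le hym, hy1, hy2⟩,
      fun h => hxy (congrArg Subtype.val h)⟩⟩
  rw [← hcard, Finite.one_lt_card_iff_nontrivial] at hI
  by_contra hcon
  push Not at hcon
  obtain ⟨u, v, huv⟩ := hI
  exact huv (Subtype.ext ((hcon u u.2).trans (hcon v v.2).symm))

/-- An element inverted by the involution `t` is a product of two involutions (or `1`). -/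
theorem mem_of_inverted (ht : t * t = 1) {D : Subgroup G} {L : Subgroup G}
    (hinv : ∀ x : G, x * x = 1 → x ∈ L) {k : G} (hk : k ∈ Cfsg.invertedBy D t) : k ∈ L := by
  have h1 : (t * k) * (t * k) = 1 := by
    have h2 : t * k * t⁻¹ = k⁻¹ := hk.2
    have h3 : t⁻¹ = t := inv_eq_of_mul_eq_one_right ht
    rw [h3] at h2
    calc (t * k) * (t * k) = (t * k * t) * k := by group
      _ = 1 := by rw [h2]; group
  have h4 : k = t * (t * k) := by rw [← mul_assoc, ht, one_mul]
  rw [h4]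
  exact L.mul_mem (hinv t ht) (hinv _ h1)

/-- A normal subgroup containing all involutions contains `Q`. -/
theorem Q_le [Finite G] [FaithfulSMul G Ω] (hS : Cfsg.IsRankOneSetup G Ω a t Q)
    (h2 : ∃ x y : G, x ≠ 1 ∧ y ≠ 1 ∧ x ≠ y ∧ x * x = 1 ∧ y * y = 1 ∧ x * y = y * x)
    {L : Subgroup G} (hL : L.Normal) (hinv : ∀ x : G, x * x = 1 → x ∈ L) : Q ≤ L := by
  obtain ⟨k, hk, hk1⟩ := exists_inverted_ne_one hS h2
  have hfp := Cfsg.Agent.S1128.result hS h2 k hk hk1
  have hkL : k ∈ L := mem_of_inverted hS.mul_self hinv hk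
  have hst : k ∈ stabilizer G a := (Subgroup.mem_inf.mp hk.1).1
  let φ : Q → Q := fun x => ⟨(x : G)⁻¹ * (k * x * k⁻¹), Q.mul_mem (inv_mem x.2)
    (hS.conj_mem k hst x x.2)⟩
  have hinj : Function.Injective φ := by
    intro x y hxy
    have h1 : (x : G)⁻¹ * (k * x * k⁻¹) = (y : G)⁻¹ * (k * y * k⁻¹) := congrArg Subtype.val hxy
    have h3 : (y : G) * (x : G)⁻¹ ∈ Q ⊓ Subgroup.centralizer {k} := by
      refine Subgroup.mem_inf.mpr ⟨Q.mul_mem y.2 (inv_mem x.2), ?_⟩
      rw [Subgroup.mem_centralizer_iff]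
      intro z hz
      rw [Set.mem_singleton_iff] at hz
      subst hz
      have h4 : (y : G) * ((x : G)⁻¹ * (z * x * z⁻¹)) * (z * (x : G)⁻¹) =
          (y : G) * ((y : G)⁻¹ * (z * y * z⁻¹)) * (z * (x : G)⁻¹) := by rw [h1]
      have h5 : (y : G) * ((x : G)⁻¹ * (z * x * z⁻¹)) * (z * (x : G)⁻¹) = y * (x : G)⁻¹ * z := by
        group
      have h6 : (y : G) * ((y : G)⁻¹ * (z * y * z⁻¹)) * (z * (x : G)⁻¹) = z * (y * (x : G)⁻¹) := by
        group
      rw [h5, h6] at h4
      exact h4.symm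
    rw [hfp, Subgroup.mem_bot] at h3
    exact Subtype.ext (mul_inv_eq_one.mp h3).symm
  have hsurj := Finite.surjective_of_injective hinj
  intro q hq
  obtain ⟨x, hx⟩ := hsurj ⟨q, hq⟩
  have h1 : (x : G)⁻¹ * (k * x * k⁻¹) = q := congrArg Subtype.val hx
  rw [← h1, show (x : G)⁻¹ * (k * x * k⁻¹) = ((x : G)⁻¹ * k * ((x : G)⁻¹)⁻¹) * k⁻¹ by group]
  exact L.mul_mem (hL.conj_mem k hkL _) (inv_mem hkL)

/-- A subgroup containing `Q` and `t` is doubly transitive. -/
theorem two_transitive_of_le (hS : Cfsg.IsRankOneSetup G Ω a t Q) {L : Subgroup G} (hQ : Q ≤ L)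
    (ht : t ∈ L) : IsMultiplyPretransitive L Ω 2 := by
  have key : ∀ b b' : Ω, b ≠ b' → ∃ g ∈ L, g • a = b ∧ g • (t • a) = b' := by
    intro b b' hbb
    by_cases hb : b = a
    · subst hb
      obtain ⟨x, hx, hxb⟩ := exists_smul_t_smul hS hbb.symm
      exact ⟨x, hQ hx, mem_stabilizer_iff.mp (hS.le hx), hxb⟩
    · obtain ⟨x, hx, hxb⟩ := exists_smul_t_smul hS hb
      have hc : (x * t)⁻¹ • b' ≠ a := by
        intro h
        have : b' = (x * t) • a := by rw [← h, smul_inv_smul]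
        rw [mul_smul, hxb] at this
        exact hbb this.symm
      obtain ⟨y, hy, hyc⟩ := exists_smul_t_smul hS hc
      refine ⟨x * t * y, L.mul_mem (L.mul_mem (hQ hx) ht) (hQ hy), ?_, ?_⟩
      · rw [mul_smul, mem_stabilizer_iff.mp (hS.le hy), mul_smul, hxb]
      · rw [mul_smul, hyc, smul_inv_smul]
  rw [is_two_pretransitive_iff]
  intro b b' c c' hb hc
  obtain ⟨g, hg, hgb, hgb'⟩ := key b b' hb
  obtain ⟨h, hh, hhc, hhc'⟩ := key c c' hc
  refine ⟨⟨h * g⁻¹, L.mul_mem hh (inv_mem hg)⟩, ?_, ?_⟩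
  · change (h * g⁻¹) • b = c
    rw [mul_smul, ← hgb, inv_smul_smul, hhc]
  · change (h * g⁻¹) • b' = c'
    rw [mul_smul, ← hgb', inv_smul_smul, hhc']

theorem mem_stabilizer_subgroup {L : Subgroup G} {x : Ω} (g : L) :
    g ∈ stabilizer L x ↔ (g : G) ∈ stabilizer G x := by
  rw [mem_stabilizer_iff, mem_stabilizer_iff]
  rfl

theorem stabilizer_subgroup (L : Subgroup G) (x : Ω) :
    stabilizer L x = (stabilizer G x).subgroupOf L := by
  ext g
  rw [mem_stabilizer_subgroup, Subgroup.mem_subgroupOf]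

/-- The rank-one set-up passes to every subgroup containing `Q` and `t`. -/
theorem setup_of_le [Finite G] (hS : Cfsg.IsRankOneSetup G Ω a t Q) {L : Subgroup G} (hQ : Q ≤ L)
    (ht : t ∈ L) : Cfsg.IsRankOneSetup L Ω a ⟨t, ht⟩ (Q.subgroupOf L) := by
  have hta : ((⟨t, ht⟩ : L) • a : Ω) = t • a := rfl
  have hD : (stabilizer L a ⊓ stabilizer L ((⟨t, ht⟩ : L) • a)) =
      (stabilizer G a ⊓ stabilizer G (t • a)).subgroupOf L := by
    rw [hta, stabilizer_subgroup, stabilizer_subgroup]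
    rfl
  refine
    { two_transitive := two_transitive_of_le hS hQ ht
      mul_self := Subtype.ext hS.mul_self
      ne_one := fun h => hS.ne_one (congrArg Subtype.val h)
      not_mem := ?_
      le := ?_
      conj_mem := ?_
      inf_eq_bot := ?_
      sup_eq := ?_
      even_card := ?_
      odd_card := ?_ }
  · rw [mem_stabilizer_subgroup]; exact hS.not_mem
  · intro x hx
    rw [mem_stabilizer_subgroup]
    exact hS.le (Subgroup.mem_subgroupOf.mp hx)
  · intro h hh x hx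
    rw [mem_stabilizer_subgroup] at hh
    rw [Subgroup.mem_subgroupOf] at hx ⊢
    exact hS.conj_mem _ hh _ hx
  · rw [Subgroup.eq_bot_iff_forall]
    intro x hx
    rw [Subgroup.mem_inf, hta, mem_stabilizer_subgroup, Subgroup.mem_subgroupOf] at hx
    have h1 : (x : G) ∈ Q ⊓ stabilizer G (t • a) := Subgroup.mem_inf.mpr hx
    rw [hS.inf_eq_bot, Subgroup.mem_bot] at h1
    exact Subtype.ext h1
  · rw [hD]
    apply le_antisymm
    · refine sup_le ?_ ?_
      · intro x hx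
        rw [mem_stabilizer_subgroup]
        exact hS.le (Subgroup.mem_subgroupOf.mp hx)
      · intro x hx
        rw [mem_stabilizer_subgroup]
        exact (Subgroup.mem_inf.mp (Subgroup.mem_subgroupOf.mp hx)).1
    · intro x hx
      rw [mem_stabilizer_subgroup] at hx
      obtain ⟨q, hq, d, hd, hqd⟩ :=
        Cfsg.Agent.LieRecognition.RankOneBasic.exists_mul_of_mem_stabilizer hS hx
      have hdL : d ∈ L := by
        have : d = q⁻¹ * x := by rw [hqd]; group
        rw [this]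
        exact L.mul_mem (inv_mem (hQ hq)) x.2
      have hx' : x = (⟨q, hQ hq⟩ : L) * ⟨d, hdL⟩ := Subtype.ext hqd
      rw [hx']
      exact Subgroup.mul_mem _ (Subgroup.mem_sup_left (Subgroup.mem_subgroupOf.mpr hq))
        (Subgroup.mem_sup_right (Subgroup.mem_subgroupOf.mpr hd))
  · rw [Nat.card_congr (Subgroup.subgroupOfEquivOfLe hQ).toEquiv]
    exact hS.even_card
  · rw [hD]
    have h1 : Nat.card ((stabilizer G a ⊓ stabilizer G (t • a)).subgroupOf L) ∣
        Nat.card ↥(stabilizer G a ⊓ stabilizer G (t • a)) := by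
      have h2 := Nat.card_congr
        (Subgroup.equivMapOfInjective ((stabilizer G a ⊓ stabilizer G (t • a)).subgroupOf L)
          L.subtype L.subtype_injective).toEquiv
      rw [h2]
      apply Subgroup.card_dvd_of_le
      intro x hx
      obtain ⟨y, hy, rfl⟩ := hx
      exact Subgroup.mem_subgroupOf.mp hy
    exact hS.odd_card.of_dvd_nat h1

/-- `involutionsIn` of the point stabiliser of `L`. -/
theorem mem_involutionsIn_subgroup {L : Subgroup G} (x : L) :
    x ∈ Cfsg.involutionsIn (stabilizer L a : Set L) ↔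
      (x : G) ∈ Cfsg.involutionsIn (stabilizer G a : Set G) := by
  constructor
  · rintro ⟨h1, h2, h3⟩
    exact ⟨h1, fun h => h2 (Subtype.ext h), congrArg Subtype.val h3⟩
  · rintro ⟨h1, h2, h3⟩
    exact ⟨h1, fun h => h2 (congrArg Subtype.val h), Subtype.ext h3⟩

/-- `invertedBy` inside `L`. -/
theorem mem_invertedBy_subgroup {L : Subgroup G} (ht : t ∈ L) (x : L) :
    x ∈ Cfsg.invertedBy (stabilizer L a ⊓ stabilizer L ((⟨t, ht⟩ : L) • a)) ⟨t, ht⟩ ↔
      (x : G) ∈ Cfsg.invertedBy (stabilizer G a ⊓ stabilizer G (t • a)) t := by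
  constructor
  · rintro ⟨h1, h3⟩
    exact ⟨h1, congrArg Subtype.val h3⟩
  · rintro ⟨h1, h3⟩
    exact ⟨h1, Subtype.ext h3⟩

/-- A subgroup containing `Q` has odd index. -/
theorem odd_index_of_le [Finite G] (hS : Cfsg.IsRankOneSetup G Ω a t Q) {L : Subgroup G}
    (hQ : Q ≤ L) : Odd L.index := by
  obtain ⟨-, -, -, ⟨P, hP⟩, -⟩ := Cfsg.Agent.S1119.result hS
  have hp : Fact (Nat.Prime 2) := ⟨Nat.prime_two⟩
  have h1 : L.index ∣ (P : Subgroup G).index := Subgroup.index_dvd_of_le (hP.trans hQ)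
  have h2 : ¬ 2 ∣ (P : Subgroup G).index := P.not_dvd_index
  rw [← Nat.not_even_iff_odd, even_iff_two_dvd]
  exact fun h => h2 (h.trans h1)

/-- In a faithful rank-one set-up the normal core of the point stabiliser is trivial. -/
theorem normalCore_eq_bot [FaithfulSMul G Ω] (hS : Cfsg.IsRankOneSetup G Ω a t Q) :
    (stabilizer G a).normalCore = ⊥ := by
  rw [Subgroup.eq_bot_iff_forall]
  intro n hn
  apply FaithfulSMul.eq_of_smul_eq_smul (α := Ω)
  intro b
  obtain ⟨g, hg⟩ := Cfsg.Agent.LieRecognition.RankOneBasic.exists_smul_eq' hS a b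
  have h1 : g⁻¹ * n * g ∈ stabilizer G a := by
    have := (Subgroup.normalCore_normal (stabilizer G a)).conj_mem n hn g⁻¹
    rw [inv_inv] at this
    exact Subgroup.normalCore_le _ this
  rw [mem_stabilizer_iff, mul_smul, mul_smul, hg] at h1
  rw [one_smul]
  have h2 := congrArg (fun z => g • z) h1
  simpa [hg] using h2

/-- A nontrivial normal subgroup of `G` contains every involution. -/
theorem involution_mem_of_normal [Finite G] [FaithfulSMul G Ω]
    (hS : Cfsg.IsRankOneSetup G Ω a t Q)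
    (h2 : ∃ x y : G, x ≠ 1 ∧ y ≠ 1 ∧ x ≠ y ∧ x * x = 1 ∧ y * y = 1 ∧ x * y = y * x)
    {N : Subgroup G} (hN : N.Normal) (hN1 : N ≠ ⊥) {x : G} (hx : x * x = 1) : x ∈ N := by
  by_cases hx1 : x = 1
  · rw [hx1]; exact N.one_mem
  have heven : Even (Nat.card N) := by
    rw [← Nat.not_odd_iff_even]
    intro hodd
    apply hN1
    have h3 : N ≤ Cfsg.pPrimeCore 2 G := le_sSup ⟨hN, hodd.coprime_two_right⟩
    rw [Cfsg.Agent.S1120.result hS h2, normalCore_eq_bot hS] at h3
    exact le_bot_iff.mp h3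
  have hp : Fact (Nat.Prime 2) := ⟨Nat.prime_two⟩
  obtain ⟨u, hu⟩ := exists_prime_orderOf_dvd_card' (G := N) 2 (even_iff_two_dvd.mp heven)
  have hu1 : (u : G) ≠ 1 := by
    intro h
    have : u = 1 := Subtype.ext h
    rw [this, orderOf_one] at hu
    exact absurd hu (by norm_num)
  have hu2 : (u : G) * u = 1 := by
    have := pow_orderOf_eq_one u
    rw [hu, pow_two] at this
    exact congrArg Subtype.val this
  obtain ⟨g, hg⟩ := (Cfsg.Agent.S1121.result hS).2 u x hu1 hu2 hx1 hx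
  rw [← hg]
  exact hN.conj_mem u u.2 g

end general

section involutions

/-- The subgroup generated by the involutions. -/
def invClosure (G : Type*) [Group G] : Subgroup G := Subgroup.closure {x : G | x ≠ 1 ∧ x * x = 1}

theorem mem_invClosure {G : Type*} [Group G] {x : G} (hx : x * x = 1) : x ∈ invClosure G := by
  by_cases h : x = 1
  · rw [h]; exact Subgroup.one_mem _
  · exact Subgroup.subset_closure ⟨h, hx⟩

theorem invClosure_normal (G : Type*) [Group G] : (invClosure G).Normal := by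
  constructor
  intro n hn g
  refine Subgroup.closure_induction (p := fun y _ => g * y * g⁻¹ ∈ invClosure G) ?_ ?_ ?_ ?_ hn
  · rintro y ⟨-, hy⟩
    apply mem_invClosure
    rw [show g * y * g⁻¹ * (g * y * g⁻¹) = g * (y * y) * g⁻¹ by group, hy]
    group
  · rw [mul_one, mul_inv_cancel]
    exact Subgroup.one_mem _
  · intro y z _ _ h1 h2
    rw [show g * (y * z) * g⁻¹ = (g * y * g⁻¹) * (g * z * g⁻¹) by group]
    exact Subgroup.mul_mem _ h1 h2
  · intro y _ h1
    rw [show g * y⁻¹ * g⁻¹ = (g * y * g⁻¹)⁻¹ by group]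
    exact Subgroup.inv_mem _ h1

theorem closure_involutions_invClosure (G : Type*) [Group G] :
    invClosure (invClosure G) = ⊤ := by
  rw [eq_top_iff]
  rintro ⟨x, hx⟩ -
  refine Subgroup.closure_induction (p := fun y hy => (⟨y, hy⟩ : invClosure G) ∈ invClosure (invClosure G))
    ?_ ?_ ?_ ?_ hx
  · rintro y ⟨hy1, hy2⟩
    exact mem_invClosure (Subtype.ext hy2)
  · exact Subgroup.one_mem _
  · intro y z hy hz h1 h2
    exact Subgroup.mul_mem _ h1 h2
  · intro y hy h1
    exact Subgroup.inv_mem _ h1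

end involutions

section main

variable {G Ω : Type*} [Group G] [MulAction G Ω] {a : Ω} {t : G} {Q : Subgroup G}

theorem Q_le_invClosure [Finite G] [FaithfulSMul G Ω] (hS : Cfsg.IsRankOneSetup G Ω a t Q)
    (h2 : ∃ x y : G, x ≠ 1 ∧ y ≠ 1 ∧ x ≠ y ∧ x * x = 1 ∧ y * y = 1 ∧ x * y = y * x) :
    Q ≤ invClosure G := Q_le hS h2 (invClosure_normal G) (fun _ hx => mem_invClosure hx)

theorem t_mem_invClosure (hS : Cfsg.IsRankOneSetup G Ω a t Q) : t ∈ invClosure G :=
  mem_invClosure hS.mul_self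

theorem two_rank_invClosure
    (h2 : ∃ x y : G, x ≠ 1 ∧ y ≠ 1 ∧ x ≠ y ∧ x * x = 1 ∧ y * y = 1 ∧ x * y = y * x) :
    ∃ x y : invClosure G, x ≠ 1 ∧ y ≠ 1 ∧ x ≠ y ∧ x * x = 1 ∧ y * y = 1 ∧ x * y = y * x := by
  obtain ⟨x, y, hx1, hy1, hxy, hx2, hy2, hc⟩ := h2
  exact ⟨⟨x, mem_invClosure hx2⟩, ⟨y, mem_invClosure hy2⟩, fun h => hx1 (congrArg Subtype.val h),
    fun h => hy1 (congrArg Subtype.val h), fun h => hxy (congrArg Subtype.val h),
    Subtype.ext hx2, Subtype.ext hy2, Subtype.ext hc⟩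

theorem setup_invClosure [Finite G] [FaithfulSMul G Ω] (hS : Cfsg.IsRankOneSetup G Ω a t Q)
    (h2 : ∃ x y : G, x ≠ 1 ∧ y ≠ 1 ∧ x ≠ y ∧ x * x = 1 ∧ y * y = 1 ∧ x * y = y * x) :
    Cfsg.IsRankOneSetup (invClosure G) Ω a ⟨t, t_mem_invClosure hS⟩ (Q.subgroupOf (invClosure G)) :=
  setup_of_le hS (Q_le_invClosure hS h2) _

/-- If `G` is generated by involutions, it is simple. -/
theorem isSimpleGroup_of_invClosure_eq_top [Finite G] [FaithfulSMul G Ω]
    (hS : Cfsg.IsRankOneSetup G Ω a t Q)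
    (h2 : ∃ x y : G, x ≠ 1 ∧ y ≠ 1 ∧ x ≠ y ∧ x * x = 1 ∧ y * y = 1 ∧ x * y = y * x)
    (htop : invClosure G = ⊤) : IsSimpleGroup G := by
  have hnt : Nontrivial G := ⟨⟨t, 1, hS.ne_one⟩⟩
  refine { eq_bot_or_eq_top_of_normal := fun N hN => ?_ }
  by_cases hN1 : N = ⊥
  · exact Or.inl hN1
  · right
    rw [eq_top_iff, ← htop]
    refine (Subgroup.closure_le _).mpr ?_
    rintro x ⟨-, hx⟩
    exact involution_mem_of_normal hS h2 hN hN1 hx

/-- **Reduction (I1)**: it is enough to identify the simple rank-one groups generated by their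
involutions. -/
theorem reduction [Finite G] [FaithfulSMul G Ω] (hS : Cfsg.IsRankOneSetup G Ω a t Q)
    (h2 : ∃ x y : G, x ≠ 1 ∧ y ≠ 1 ∧ x ≠ y ∧ x * x = 1 ∧ y * y = 1 ∧ x * y = y * x)
    (P : Subgroup G → Prop)
    (hP : ∀ (L : Subgroup G) (htL : t ∈ L), Q ≤ L → IsSimpleGroup L → invClosure L = ⊤ →
      FaithfulSMul L Ω →
      Cfsg.IsRankOneSetup L Ω a ⟨t, htL⟩ (Q.subgroupOf L) →
      (∃ x y : L, x ≠ 1 ∧ y ≠ 1 ∧ x ≠ y ∧ x * x = 1 ∧ y * y = 1 ∧ x * y = y * x) → P L) :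
    ∃ L : Subgroup G, L.Normal ∧ Odd L.index ∧ P L := by
  have hQ := Q_le_invClosure hS h2
  have hSL := setup_invClosure hS h2
  have h2L := two_rank_invClosure h2
  have htop := closure_involutions_invClosure G
  have hfaith : FaithfulSMul (invClosure G) Ω := inferInstance
  refine ⟨invClosure G, invClosure_normal G, odd_index_of_le hS hQ, ?_⟩
  exact hP (invClosure G) (t_mem_invClosure hS) hQ
    (isSimpleGroup_of_invClosure_eq_top hSL h2L htop) htop hfaith hSL h2L

end main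

end Cfsg.Agent.SuzukiRankOne.Reduction
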