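import Mathlib
import Cfsg.Prelude.Def_Blocks
import Cfsg.Prelude.Def_Solvable
import Cfsg.Prelude.Def_Local
import Cfsg.Agent.Lib.Cores
import Cfsg.Agent.Lib.PSolvable
import Cfsg.Agent.OddOrderCharacters.InducedSum
import Cfsg.Agent.Blocks.BlockPart
import Cfsg.Agent.Blocks.Deflate
import Cfsg.Agent.Blocks.PrincipalKernel
import Cfsg.Agent.Blocks.PrincipalSection
import Cfsg.Agent.S0915
import Cfsg.Agent.S0923
import Cfsg.Agent.S0941
set_option linter.all false

/-!
# Averages over `O_{p'}(C(x))` when the centralizer `C(x)` is `p`-solvable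

* `principalBlock_eq` : the principal block of a `p`-solvable group consists of the irreducible
  characters with the `p'`-core in the kernel.
* `sum_core_eq_zero` : for `χ` outside the principal block the sum of `χ (x n)` over
  `n ∈ O_{p'}(C(x))` vanishes.
* `sum_sq_principalBlock` : the sum of `|ζ x|²` over the principal block is `|C(x) : O_{p'}(C(x))|`.
-/

set_option autoImplicit false

open Cfsg
open scoped ComplexConjugate

namespace Cfsg.Agent.SuzukiRankOne.M1Average

open Cfsg.Agent.Blocks Cfsg.Agent.Blocks.Basic Cfsg.Agent.Blocks.Local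

/-- The principal block of a `p`-solvable group. -/
theorem principalBlock_eq {K : Type*} [Group K] [Finite K] {p : ℕ} [Fact p.Prime]
    {M : Ideal AlgInt} (hM : IsPModular p M) (hsolv : IsPSolvable p K) :
    principalBlock M K =
      {χ : IrrCharacter K | ∀ n ∈ pPrimeCore p K, (χ : K → ℂ) n = (χ : K → ℂ) 1} := by
  classical
  have hMp := isPrime_of_isPModular hM
  have := Fintype.ofFinite K
  have hN : (pPrimeCore p K).Normal := Lib.Cores.pPrimeCore_normal p
  have hcop : ¬ p ∣ Nat.card (pPrimeCore p K) :=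
    (Nat.Prime.coprime_iff_not_dvd Fact.out).1 (Lib.Cores.pPrimeCore_coprime (G := K) p).symm
  ext χ
  constructor
  · intro hχ n hn
    exact PrincipalKernel.principalBlock_apply_eq hM hcop hχ hn
  · intro hχ
    have hsum : ∑ n : pPrimeCore p K, (χ : K → ℂ) n ≠ 0 := by
      have h0 : ∀ n : pPrimeCore p K, (χ : K → ℂ) n = (χ : K → ℂ) 1 := fun n => hχ _ n.2
      rw [Finset.sum_congr rfl fun n _ => h0 n, Finset.sum_const, nsmul_eq_mul]
      exact mul_ne_zero (by exact_mod_cast (Finset.card_pos.2 ⟨1, Finset.mem_univ _⟩).ne')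
        (irr_one_ne_zero χ.2)
    obtain ⟨χ', hχ'⟩ := Deflate.exists_deflation (pPrimeCore p K) (χ : K → ℂ) χ.2 hsum
    have h1 : SameBlock M (fun _ : K ⧸ pPrimeCore p K => (1 : ℂ)) (χ' : K ⧸ pPrimeCore p K → ℂ) :=
      S0915.result p M hM
        (Lib.PSolvable.IsPSolvable_of_surjective p hsolv (QuotientGroup.mk' (pPrimeCore p K))
          (QuotientGroup.mk'_surjective _))
        (Lib.Cores.pPrimeCore_quotient_pPrimeCore p) ⟨fun _ => 1, isIrrCharacter_one⟩ χ'
    have h2 := S0941.sameBlock_inflate (pPrimeCore p K) h1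
    rw [← hχ'] at h2
    exact h2

open Classical in
/-- the coefficient of the principal block idempotent of a `p`-solvable group -/
theorem blockCoeff_eq {K : Type*} [Group K] [Finite K] {p : ℕ} [Fact p.Prime]
    {M : Ideal AlgInt} (hM : IsPModular p M) (hsolv : IsPSolvable p K) (k : K) :
    blockCoeff (principalBlock M K) k =
      if k ∈ pPrimeCore p K then (Nat.card (pPrimeCore p K) : ℂ)⁻¹ else 0 := by
  have := Fintype.ofFinite K
  have : Finite (IrrCharacter K) := Characters.Core.finite_irr
  have := Fintype.ofFinite (IrrCharacter K)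
  have hN : (pPrimeCore p K).Normal := Lib.Cores.pPrimeCore_normal p
  have h1 := OddOrderCharacters.InducedSum.sum_above (pPrimeCore p K) k
  have h2 : ∑ᶠ χ ∈ principalBlock M K, (χ : K → ℂ) 1 * conj ((χ : K → ℂ) k) =
      conj (∑ χ : IrrCharacter K, (if ∀ a ∈ pPrimeCore p K, χ.1 a = χ.1 1 then
        χ.1 1 * χ.1 k else 0)) := by
    rw [map_sum, finsum_mem_eq_toFinset_sum, ← Finset.sum_filter_add_sum_filter_not Finset.univ
      (fun χ : IrrCharacter K => ∀ a ∈ pPrimeCore p K, χ.1 a = χ.1 1)]
    rw [Finset.sum_eq_zero (s := Finset.univ.filter (fun χ : IrrCharacter K =>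
      ¬ ∀ a ∈ pPrimeCore p K, χ.1 a = χ.1 1)), add_zero]
    · refine Finset.sum_congr ?_ ?_
      · ext χ
        rw [Set.mem_toFinset, principalBlock_eq hM hsolv]
        simp
      · intro χ hχ
        rw [if_pos (by simpa using hχ), map_mul]
        obtain ⟨n, -, hn⟩ := irr_one_eq_natCast χ.2
        rw [hn]
        simp
    · intro χ hχ
      rw [if_neg (by simpa using hχ), map_zero]
  rw [blockCoeff_def, h2, h1]
  have hK : (Nat.card K : ℂ) = Nat.card (pPrimeCore p K) * (pPrimeCore p K).index := by
    exact_mod_cast (pPrimeCore p K).card_mul_index.symm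
  have hi : ((pPrimeCore p K).index : ℂ) ≠ 0 := by
    exact_mod_cast (pPrimeCore p K).index_ne_zero_of_finite
  have hc : (Nat.card (pPrimeCore p K) : ℂ) ≠ 0 := by exact_mod_cast Nat.card_pos.ne'
  split_ifs with hk
  · rw [hK, Complex.conj_natCast]
    field_simp
  · simp

variable {G : Type*} [Group G] [Finite G] {p : ℕ} [Fact p.Prime] {M : Ideal AlgInt}

/-- Sums over `O_{p'}(C(x))` as a subgroup of the centralizer and of the group. -/
theorem sum_centralizerPPrimeCore {A : Type*} [AddCommMonoid A] (p : ℕ) (x : G)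
    [Fintype (centralizerPPrimeCore p x)] [Fintype (Subgroup.centralizer ({x} : Set G))]
    [DecidablePred (· ∈ pPrimeCore p (Subgroup.centralizer ({x} : Set G)))] (f : G → A) :
    ∑ n : centralizerPPrimeCore p x, f n =
      ∑ k : Subgroup.centralizer ({x} : Set G) with
        k ∈ pPrimeCore p (Subgroup.centralizer ({x} : Set G)), f k := by
  symm
  refine Finset.sum_bij (fun k hk => ⟨(k : G), ⟨k, by simpa using hk, rfl⟩⟩) ?_ ?_ ?_ ?_
  · intros; exact Finset.mem_univ _
  · intro a _ b _ h
    exact Subtype.ext (congrArg (fun z : centralizerPPrimeCore p x => (z : G)) h)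
  · rintro ⟨_, k, hk, rfl⟩ _
    exact ⟨k, by simpa using hk, rfl⟩
  · intros; rfl

open Classical in
theorem sum_core_aux (hM : IsPModular p M) (x : G) (hx : ∃ k : ℕ, orderOf x = p ^ k)
    {K : Subgroup G} (hK : K = Subgroup.centralizer ({x} : Set G)) [Fintype K]
    (hsolv : IsPSolvable p K) (χ : IrrCharacter G) (hχ : χ ∉ principalBlock M G) :
    ∑ k : K with k ∈ pPrimeCore p K, (χ : G → ℂ) (x * k) = 0 := by
  have hMp := isPrime_of_isPModular hM
  have hnot : ¬ IsInducedBlock M K (principalBlock M K) (blockOf M (χ : G → ℂ)) := by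
    intro h
    have h1 : IsInducedBlock M K (principalBlock M K) (principalBlock M G) := by
      have h0 := (PrincipalSection.mem_principalBlock_iff_induced hM x hx hK
        ⟨fun _ => 1, isIrrCharacter_one⟩).1 PrincipalSection.one_mem_principalBlock
      exact h0
    apply hχ
    intro g
    have h2 := h.2.2 _ PrincipalSection.one_mem_principalBlock χ (mem_blockOf_self χ) g
    have h3 := h1.2.2 _ PrincipalSection.one_mem_principalBlock _
      PrincipalSection.one_mem_principalBlock g
    have h4 := memLocalIdeal_sub h2 h3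
    rw [sub_sub_sub_cancel_left] at h4
    exact h4
  have hone : ¬ p ∣ orderOf (1 : K) := by
    rw [orderOf_one]
    exact (Fact.out : p.Prime).one_lt.not_ge ∘ Nat.le_of_dvd one_pos
  have h1 : blockPart (principalBlock M K) (fun c : K => (χ : G → ℂ) (x * (c : G))) 1 = 0 := by
    subst hK
    exact S0923.result p M hM x hx (blockOf M (χ : G → ℂ)) (isPBlock_blockOf χ) χ
      (mem_blockOf_self χ) (principalBlock M _) PrincipalSection.isPBlock_principalBlock hnot 1
      hone
  have hcl : IsClassFunction K (fun c : K => (χ : G → ℂ) (x * (c : G))) := by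
    intro g h
    have hh : (h : G) * x = x * h :=
      Subgroup.mem_centralizer_singleton_iff.1 (hK.le h.2)
    have h3 : x * ((h * g * h⁻¹ : K) : G) = (h : G) * (x * g) * (h : G)⁻¹ := by
      push_cast
      rw [← mul_assoc, ← mul_assoc, ← mul_assoc, hh]
    change (χ : G → ℂ) (x * ((h * g * h⁻¹ : K) : G)) = _
    rw [h3, irr_conj χ.2]
  rw [BlockPart.blockPart_eq_sum _ hcl] at h1
  have h2 : ∀ k : K, blockCoeff (principalBlock M K) k * (χ : G → ℂ) (x * ((k * 1 : K) : G)) =
      if k ∈ pPrimeCore p K then (Nat.card (pPrimeCore p K) : ℂ)⁻¹ * (χ : G → ℂ) (x * (k : G))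
        else 0 := by
    intro k
    rw [blockCoeff_eq hM hsolv, mul_one]
    split_ifs <;> simp
  rw [Finset.sum_congr rfl fun k _ => h2 k, ← Finset.sum_filter, ← Finset.mul_sum] at h1
  have hc : (Nat.card (pPrimeCore p K) : ℂ)⁻¹ ≠ 0 :=
    inv_ne_zero (by exact_mod_cast Nat.card_pos.ne')
  exact (mul_eq_zero.1 h1).resolve_left hc

/-- The averages over `O_{p'}(C(x))` vanish outside of the principal block. -/
theorem sum_core_eq_zero (hM : IsPModular p M) (x : G) (hx : ∃ k : ℕ, orderOf x = p ^ k)
    [Fintype (centralizerPPrimeCore p x)]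
    (hsolv : IsPSolvable p (Subgroup.centralizer ({x} : Set G))) (χ : IrrCharacter G)
    (hχ : χ ∉ principalBlock M G) :
    ∑ n : centralizerPPrimeCore p x, (χ : G → ℂ) (x * n) = 0 := by
  classical
  have hF := Fintype.ofFinite (Subgroup.centralizer ({x} : Set G))
  rw [sum_centralizerPPrimeCore p x (fun n => (χ : G → ℂ) (x * n))]
  exact sum_core_aux hM x hx rfl hsolv χ hχ

/-- The sum of the squares of the absolute values at `x` over the principal block. -/
theorem sum_sq_principalBlock (hM : IsPModular p M) (x : G) (hx : ∃ k : ℕ, orderOf x = p ^ k)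
    (hsolv : IsPSolvable p (Subgroup.centralizer ({x} : Set G))) :
    ∑ᶠ ζ ∈ principalBlock M G, (ζ : G → ℂ) x * conj ((ζ : G → ℂ) x) =
      ((pPrimeCore p (Subgroup.centralizer ({x} : Set G))).index : ℂ) := by
  classical
  have h1 := PrincipalSection.sum_principalBlock_section hM x hx
    (H := Subgroup.centralizer ({x} : Set G)) rfl 1 1
    (by rw [orderOf_one]; exact (Fact.out : p.Prime).one_lt.not_ge ∘ Nat.le_of_dvd one_pos)
    (by rw [orderOf_one]; exact (Fact.out : p.Prime).one_lt.not_ge ∘ Nat.le_of_dvd one_pos)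
  simp only [OneMemClass.coe_one, mul_one] at h1
  rw [h1]
  set K := Subgroup.centralizer ({x} : Set G) with hK
  have h2 := blockCoeff_eq hM hsolv 1
  rw [if_pos (one_mem _), blockCoeff_def] at h2
  have hKc : (Nat.card K : ℂ) = Nat.card (pPrimeCore p K) * (pPrimeCore p K).index := by
    exact_mod_cast (pPrimeCore p K).card_mul_index.symm
  have hc : (Nat.card (pPrimeCore p K) : ℂ) ≠ 0 := by exact_mod_cast Nat.card_pos.ne'
  have hcK : (Nat.card K : ℂ) ≠ 0 := by exact_mod_cast Nat.card_pos.ne'
  have h3 := congrArg (fun z => (Nat.card K : ℂ) * z) h2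
  simp only [mul_inv_cancel_left₀ hcK] at h3
  rw [h3, hKc]
  field_simp

end Cfsg.Agent.SuzukiRankOne.M1Average
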