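import Mathlib
import Cfsg.Prelude.Def_LieRecognition
import Cfsg.Agent.LieRecognition.HigmanData
import Cfsg.Agent.LieRecognition.HigmanSinger
import Cfsg.Agent.LieRecognition.RankOneForm
import Cfsg.Agent.S1119
import Cfsg.Agent.S1122
import Cfsg.Agent.S1128
set_option linter.all false

/-!
Singer data in the rank-one set-up: the set `E` of elements `x` of `Q` with `x² = 1` is the additive
group of a finite field `F` of characteristic two whose unit group acts on `Q` as the group `K` of
elements of `D` inverted by `t`.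
-/

set_option autoImplicit false
set_option linter.style.haveILetI false

namespace Cfsg.Agent.SuzukiRankOne.SingerField

open Cfsg.Agent.LieRecognition.HigmanSinger Cfsg.Agent.LieRecognition.HigmanData

universe u v

/-- Abstract version: a commutative group `K` acting on a finite group `P`, regularly on the
involutions of `P`, which are central. -/
theorem exists_singer {P : Type u} {K : Type v} [Group P] [Finite P] [Group K]
    [MulDistribMulAction K P] (hcomm : ∀ a b : K, a * b = b * a) (s : P) (hs1 : s ≠ 1)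
    (hs2 : s * s = 1) (hcen : ∀ x y : P, x * x = 1 → x * y = y * x)
    (hreg : ∀ x : P, x ≠ 1 → x * x = 1 → ∃ k : K, k • s = x)
    (hinj : ∀ k l : K, k • s = l • s → k = l) :
    ∃ (F : Type) (_ : Field F) (_ : Fintype F) (_ : CharP F 2) (φ : Fˣ ≃* K)
      (_ : MulDistribMulAction Fˣ P) (δ : F → P),
      (∀ (c : Fˣ) (x : P), c • x = φ c • x) ∧ SingerData F P δ ∧ δ 1 = s := by
  classical
  let Om : Subgroup P :=
    { carrier := {x | x * x = 1}
      mul_mem' := by
        intro x y hx hy
        have hx : x * x = 1 := hx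
        have hy : y * y = 1 := hy
        show x * y * (x * y) = 1
        rw [mul_assoc, ← mul_assoc y, ← hcen x y hx, mul_assoc x, hy, mul_one, hx]
      one_mem' := by show (1 : P) * 1 = 1; rw [one_mul]
      inv_mem' := by
        intro x hx
        have hx : x * x = 1 := hx
        show x⁻¹ * x⁻¹ = 1
        rw [← mul_inv_rev, hx, inv_one] }
  have hOm : ∀ x : P, x ∈ Om ↔ x * x = 1 := fun x => Iff.rfl
  letI cg : CommGroup Om :=
    { (inferInstance : Group Om) with
      mul_comm := fun a b => Subtype.ext (hcen a.1 b.1 a.2) }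
  let E := Additive Om
  letI acg : AddCommGroup E := @Additive.addCommGroup _ cg
  let val : E → P := fun x => Subtype.val (p := fun w => w ∈ Om) (Additive.toMul x)
  have hvalc : ∀ x : E, val x * val x = 1 := fun x =>
    Subtype.property (p := fun w => w ∈ Om) (Additive.toMul x)
  have hval : ∀ x y : E, val x = val y → x = y := by
    intro x y h
    apply Additive.toMul.injective
    exact Subtype.ext h
  have hks : ∀ (k : K) (w : P), w * w = 1 → (k • w) * (k • w) = 1 := by
    intro k w hw
    rw [← smul_mul', hw, smul_one]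
  let actE : DistribMulAction K E :=
    { smul := fun k x => Additive.ofMul ⟨k • (val x), hks k _ (hvalc x)⟩
      one_smul := fun x => by
        apply hval
        change (1 : K) • (val x) = val x
        rw [one_smul]
      mul_smul := fun k l x => by
        apply hval
        change (k * l) • (val x) = k • (l • (val x))
        rw [mul_smul]
      smul_zero := fun k => by
        apply hval
        change k • (1 : P) = 1
        rw [smul_one]
      smul_add := fun k x y => by
        apply hval
        change k • (val x * val y) = (k • val x) * (k • val y)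
        rw [smul_mul'] }
  have hact : ∀ (k : K) (x : E), val (k • x) = k • val x := fun k x => rfl
  let e0 : E := Additive.ofMul ⟨s, hs2⟩
  have he0 : e0 ≠ 0 := by
    intro h
    exact hs1 (congrArg val h)
  have hne : ∀ x : E, x ≠ 0 → val x ≠ 1 := fun x hx h => hx (hval x 0 h)
  have hregE : ∀ x : E, x ≠ 0 → ∃ k : K, k • e0 = x := by
    intro x hx
    obtain ⟨k, hk⟩ := hreg (val x) (hne x hx) (hvalc x)
    exact ⟨k, hval _ _ hk⟩
  have hinjE : ∀ k l : K, k • e0 = l • e0 → k = l := fun k l h => hinj k l (congrArg val h)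
  letI fld : Field E := rfield e0 he0 hcomm hregE hinjE
  have hmul : ∀ (k : K) (y : E), (k • e0) * y = k • y := fun k y => rmul_smul e0 he0 hregE hinjE k y
  have hone : (1 : E) = e0 := rfl
  have hadd : ∀ x y : E, val (x + y) = val x * val y := fun x y => rfl
  have hex : ∀ c : Eˣ, ∃ k : K, k • e0 = (c : E) := fun c => hregE _ c.ne_zero
  choose κ hκ using hex
  have hκ1 : κ 1 = 1 := hinjE _ _ (by rw [hκ, one_smul]; rfl)
  have hκm : ∀ c d, κ (c * d) = κ c * κ d := fun c d => hinjE _ _ (by
    rw [hκ, mul_smul, hκ d, ← hmul, hκ c, Units.val_mul])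
  have hke : ∀ k : K, k • e0 ≠ 0 := fun k h => he0 ((smul_eq_zero_iff_eq k).mp h)
  let κE : Eˣ ≃* K :=
    MulEquiv.ofBijective (MonoidHom.mk' κ hκm) ⟨by
      intro c d hcd
      have hcd : κ c = κ d := hcd
      apply Units.ext
      rw [← hκ c, ← hκ d, hcd], by
      intro k
      refine ⟨Units.mk0 (k • e0) (hke k), ?_⟩
      apply hinjE
      exact hκ (Units.mk0 (k • e0) (hke k))⟩
  have hκE : ∀ c, κE c = κ c := fun c => rfl
  have hfinE : Finite E := inferInstanceAs (Finite Om)
  have hchar : CharP E 2 := by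
    have h2 : (1 : E) + 1 = 0 := by
      apply hval
      exact hs2
    exact CharTwo.of_one_ne_zero_of_two_eq_zero one_ne_zero (by rw [← one_add_one_eq_two]; exact h2)
  letI : Fintype E := Fintype.ofFinite E
  haveI : Fact (Nat.Prime 2) := ⟨Nat.prime_two⟩
  obtain ⟨n, hp2, hn⟩ := FiniteField.card E 2
  let F : Type := GaloisField 2 n
  letI : Fintype F := Fintype.ofFinite F
  haveI : CharP F 2 := inferInstanceAs (CharP (GaloisField 2 n) 2)
  have hcardF : Fintype.card F = Fintype.card E := by
    rw [hn, ← Nat.card_eq_fintype_card]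
    exact GaloisField.card 2 n n.ne_zero
  let eq : F ≃+* E := FiniteField.ringEquivOfCardEq hcardF
  let φ : Fˣ ≃* K := (Units.mapEquiv (eq : F ≃* E)).trans κE
  letI actP : MulDistribMulAction Fˣ P := MulDistribMulAction.compHom P φ.toMonoidHom
  refine ⟨F, inferInstance, inferInstance, inferInstance, φ, actP, fun x => val (eq x),
    fun c x => rfl, ⟨?_, ?_, ?_, ?_, ?_⟩, ?_⟩
  · intro a b
    show val (eq (a + b)) = _
    rw [map_add, hadd]
  · intro a b hab
    exact eq.injective (hval _ _ hab)
  · intro x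
    constructor
    · intro hx
      refine ⟨eq.symm (Additive.ofMul ⟨x, hx⟩), ?_⟩
      show val (eq (eq.symm _)) = x
      rw [RingEquiv.apply_symm_apply]
      rfl
    · rintro ⟨a, rfl⟩
      exact hvalc _
  · intro c a
    show (κ (Units.mapEquiv (eq : F ≃* E) c)) • val (eq a) = val (eq ((c : F) * a))
    rw [map_mul]
    have h1 : eq (c : F) = ((Units.mapEquiv (eq : F ≃* E) c : Eˣ) : E) := rfl
    rw [h1, ← hκ (Units.mapEquiv (eq : F ≃* E) c), hmul, hact]
  · intro a x
    exact hcen _ _ (hvalc _)
  · show val (eq 1) = s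
    rw [map_one]
    rfl

section rankOne

open MulAction

variable {G Ω : Type*} [Group G] [MulAction G Ω] {a : Ω} {t : G} {Q : Subgroup G}

/-- `F` is a field whose additive group parametrises (through `δ`) the elements of `Q` of order
dividing two and whose unit group parametrises (through `κ`) the elements of the two-point stabiliser
`D` inverted by `t`; the unit group acts on `Q` through `κ` and conjugation. -/
structure Torus (a : Ω) (t : G) (Q : Subgroup G) (F : Type) [Field F] [MulDistribMulAction Fˣ Q]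
    (κ : Fˣ →* G) (δ : F → Q) : Prop where
  inj : Function.Injective κ
  mem_iff : ∀ g : G, g ∈ Cfsg.invertedBy (stabilizer G a ⊓ stabilizer G (t • a)) t ↔ ∃ c, κ c = g
  smul : ∀ (c : Fˣ) (x : Q), ((c • x : Q) : G) = κ c * x * (κ c)⁻¹
  singer : SingerData F Q δ

/-- Existence of the Singer data in the rank-one set-up.  `C` is the subgroup given by S1131, `hcen` is
the first part of S1130. -/
theorem exists_torus [Finite G] [FaithfulSMul G Ω] (hS : Cfsg.IsRankOneSetup G Ω a t Q)
    (hcen : ∀ s ∈ Cfsg.involutionsIn (stabilizer G a : Set G), s ∈ Q ∧ ∀ x ∈ Q, s * x = x * s)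
    (C : Subgroup G)
    (hC : (C : Set G) = Cfsg.invertedBy (stabilizer G a ⊓ stabilizer G (t • a)) t)
    (hCc : IsCyclic C) (s : G) (hs : s ∈ Cfsg.involutionsIn (stabilizer G a : Set G)) :
    ∃ (F : Type) (_ : Field F) (_ : Fintype F) (_ : CharP F 2) (κ : Fˣ →* G)
      (_ : MulDistribMulAction Fˣ Q) (δ : F → Q),
      Torus a t Q F κ δ ∧ (δ 1 : G) = s := by
  classical
  have hCD : ∀ c ∈ C, c ∈ stabilizer G a ⊓ stabilizer G (t • a) := fun c hc => by
    have h1 : c ∈ Cfsg.invertedBy (stabilizer G a ⊓ stabilizer G (t • a)) t := hC ▸ hc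
    exact h1.1
  have hCQ : ∀ (c : C) (x : Q), (c : G) * x * (c : G)⁻¹ ∈ Q := fun c x =>
    hS.conj_mem _ (Subgroup.mem_inf.mp (hCD c c.2)).1 x x.2
  letI act : MulDistribMulAction C Q :=
    { smul := fun c x => ⟨(c : G) * x * (c : G)⁻¹, hCQ c x⟩
      one_smul := fun x => by
        apply Subtype.ext
        show ((1 : C) : G) * x * ((1 : C) : G)⁻¹ = x
        simp
      mul_smul := fun c d x => by
        apply Subtype.ext
        show ((c * d : C) : G) * x * ((c * d : C) : G)⁻¹ = (c : G) * ((d : G) * x * (d : G)⁻¹) * (c : G)⁻¹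
        rw [Subgroup.coe_mul]
        group
      smul_mul := fun c x y => by
        apply Subtype.ext
        show (c : G) * ((x * y : Q) : G) * (c : G)⁻¹ =
          ((c : G) * x * (c : G)⁻¹) * ((c : G) * y * (c : G)⁻¹)
        rw [Subgroup.coe_mul]
        group
      smul_one := fun c => by
        apply Subtype.ext
        show (c : G) * ((1 : Q) : G) * (c : G)⁻¹ = 1
        simp }
  have hact : ∀ (c : C) (x : Q), ((c • x : Q) : G) = c * x * (c : G)⁻¹ := fun c x => rfl
  have hcomm : ∀ c d : C, c * d = d * c := by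
    intro a b
    obtain ⟨g, hg⟩ := hCc.exists_generator
    obtain ⟨i, hi⟩ := Subgroup.mem_zpowers_iff.mp (hg a)
    obtain ⟨j, hj⟩ := Subgroup.mem_zpowers_iff.mp (hg b)
    rw [← hi, ← hj, ← zpow_add, ← zpow_add, add_comm]
  have hinvQ : ∀ x : Q, x ≠ 1 → x * x = 1 →
      (x : G) ∈ Cfsg.involutionsIn (stabilizer G a : Set G) := fun x hx1 hx2 =>
    ⟨hS.le x.2, fun h => hx1 (Subtype.ext h), congrArg Subtype.val hx2⟩
  obtain ⟨hcardK, htrans⟩ := S1122.result hS
  have hsQ : s ∈ Q := (hcen s hs).1
  let s' : Q := ⟨s, hsQ⟩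
  -- transitivity
  have hreg : ∀ x : Q, x ≠ 1 → x * x = 1 → ∃ k : C, k • s' = x := by
    intro x hx1 hx2
    obtain ⟨k, hk, hkx⟩ := htrans s hs x (hinvQ x hx1 hx2)
    have hkC : k ∈ C := by
      have : k ∈ (C : Set G) := by rw [hC]; exact hk
      exact this
    refine ⟨⟨k, hkC⟩⁻¹, ?_⟩
    apply Subtype.ext
    rw [hact]
    show (k⁻¹ : G) * s * (k⁻¹)⁻¹ = x
    rw [inv_inv, hkx]
  -- injectivity by counting
  have hinj : ∀ k l : C, k • s' = l • s' → k = l := by
    have hinvmem : ∀ k : C, ((k • s' : Q) : G) ∈ Cfsg.involutionsIn (stabilizer G a : Set G) := by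
      intro k
      have h1 : (s' : Q) ≠ 1 := fun h => hs.2.1 (congrArg Subtype.val h)
      have h2 : s' * s' = 1 := Subtype.ext hs.2.2
      refine hinvQ _ (fun h => h1 ?_) ?_
      · rw [← smul_one k] at h
        exact smul_left_cancel k h
      · rw [← smul_mul', h2, smul_one]
    let m : C → Cfsg.involutionsIn (stabilizer G a : Set G) := fun k => ⟨_, hinvmem k⟩
    have hm : Function.Surjective m := by
      rintro ⟨x, hx⟩
      have hxQ : x ∈ Q := (hcen x hx).1
      obtain ⟨k, hk⟩ := hreg ⟨x, hxQ⟩ (fun h => hx.2.1 (congrArg Subtype.val h)) (Subtype.ext hx.2.2)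
      exact ⟨k, Subtype.ext (congrArg (fun z : Q => (z : G)) hk)⟩
    have hcard : Nat.card C = Nat.card (Cfsg.involutionsIn (stabilizer G a : Set G)) := by
      rw [← hcardK, ← hC]
      rfl
    have hbij : Function.Bijective m :=
      Function.Surjective.bijective_of_nat_card_le hm hcard.le
    intro k l hkl
    exact hbij.1 (Subtype.ext (congrArg (fun z : Q => (z : G)) hkl))
  obtain ⟨F, iF, iFt, iFc, φ, iA, δ, hsm, hsing, hδ1⟩ :=
    exists_singer hcomm s' (fun h => hs.2.1 (congrArg Subtype.val h)) (Subtype.ext hs.2.2)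
      (fun x y hx => by
        by_cases hx1 : x = 1
        · rw [hx1, one_mul, mul_one]
        · exact Subtype.ext ((hcen x (hinvQ x hx1 hx)).2 y y.2)) hreg hinj
  refine ⟨F, iF, iFt, iFc, C.subtype.comp φ.toMonoidHom, iA, δ, ⟨?_, ?_, ?_, hsing⟩, ?_⟩
  · intro c d hcd
    exact φ.injective (Subtype.ext hcd)
  · intro g
    rw [← hC]
    constructor
    · intro hg
      exact ⟨φ.symm ⟨g, hg⟩, by
        show ((φ (φ.symm ⟨g, hg⟩) : C) : G) = g
        rw [MulEquiv.apply_symm_apply]⟩
    · rintro ⟨c, rfl⟩
      exact (φ c).2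
  · intro c x
    rw [hsm]
    rfl
  · rw [hδ1]

end rankOne

end Cfsg.Agent.SuzukiRankOne.SingerField
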