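import Mathlib
import Cfsg.Prelude.Def_LieRecognition
import Cfsg.Agent.LieRecognition.RankOneForm
import Cfsg.Agent.S1119
import Cfsg.Agent.S1123
import Cfsg.Agent.S1124
import Cfsg.Agent.SuzukiRankOne.SingerField
import Cfsg.Agent.S1128
import Cfsg.Agent.LieRecognition.RankOneAbstract
import Cfsg.Agent.LieRecognition.SzMatrix
import Cfsg.Agent.SuzukiRankOne.PSUModel
import Cfsg.Agent.SuzukiRankOne.RankOneIso
set_option linter.all false

-- part: SuzukiRankOne/Generate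
section
/-!
In the rank-one set-up the subgroup `⟨Q, t⟩` is normal and contains all elements of `D` inverted by
`t`; so it is everything if `G` is simple.
-/

set_option autoImplicit false

namespace Cfsg.Agent.SuzukiRankOne.Generate

open MulAction
open Cfsg.Agent.LieRecognition.RankOneForm

variable {G Ω : Type*} [Group G] [MulAction G Ω] {a : Ω} {t : G} {Q : Subgroup G}

/-- the elements of `D` inverted by `t` lie in `⟨Q, t⟩` -/
theorem inverted_mem_closure [Finite G] (hS : Cfsg.IsRankOneSetup G Ω a t Q) {k : G}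
    (hk : k ∈ Cfsg.invertedBy (stabilizer G a ⊓ stabilizer G (t • a)) t) :
    k ∈ Subgroup.closure ((Q : Set G) ∪ {t}) := by
  obtain ⟨⟨s, r⟩, ⟨hs, hr, hsr⟩, -⟩ := Cfsg.Agent.S1123.result hS
  simp only at hs hr hsr
  have tinv := tt_inv hS
  have hQ : ∀ x ∈ Q, x ∈ Subgroup.closure ((Q : Set G) ∪ {t}) := fun x hx =>
    Subgroup.subset_closure (Or.inl hx)
  have htL : t ∈ Subgroup.closure ((Q : Set G) ∪ {t}) := Subgroup.subset_closure (Or.inr rfl)
  have htk : t * k * t = k⁻¹ := by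
    have := hk.2
    rwa [tinv] at this
  have htk' : t * k⁻¹ * t = k := by
    have : t * k⁻¹ * t = (t * k * t)⁻¹ := by rw [mul_inv_rev, mul_inv_rev, tinv, mul_assoc]
    rw [this, htk, inv_inv]
  -- `s ∈ Q`
  have hsQ : s ∈ Q := by
    -- `s` is conjugate into ... ; use `s = t r⁻¹ t r t`
    obtain ⟨q, hq, d, hd, hqd⟩ := S1119.exists_mul hS hs.1
    -- `d² ∈ Q ∩ D = 1`
    have hdQ : ∀ x ∈ Q, d * x * d⁻¹ ∈ Q := fun x hx => conj_Q hS hd hx
    have h1 : d * d = (q * (d * q * d⁻¹))⁻¹ * (s * s) := by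
      rw [← hqd]; group
    rw [hs.2.2, mul_one] at h1
    have h2 : d * d ∈ Q := by
      rw [h1]
      exact inv_mem (mul_mem hq (hdQ q hq))
    have h3 : d * d ∈ Q ⊓ stabilizer G (t • a) :=
      Subgroup.mem_inf.mpr ⟨h2, mul_mem (Subgroup.mem_inf.mp hd).2 (Subgroup.mem_inf.mp hd).2⟩
    rw [hS.inf_eq_bot, Subgroup.mem_bot] at h3
    have h4 : d = 1 := by
      have h8 : orderOf (⟨d, hd⟩ : ↥(stabilizer G a ⊓ stabilizer G (t • a))) ∣
          Nat.card ↥(stabilizer G a ⊓ stabilizer G (t • a)) := orderOf_dvd_natCard _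
      have h9 : orderOf (⟨d, hd⟩ : ↥(stabilizer G a ⊓ stabilizer G (t • a))) ∣ 2 := by
        apply orderOf_dvd_of_pow_eq_one
        rw [pow_two]
        exact Subtype.ext h3
      have h10 := hS.odd_card.of_dvd_nat h8
      rcases (Nat.dvd_prime Nat.prime_two).mp h9 with h | h
      · exact congrArg Subtype.val (orderOf_eq_one_iff.mp h)
      · rw [h] at h10
        exact absurd h10 (by decide)
    rw [← hqd, h4, mul_one]
    exact hq
  have h1 : k * k = (k * r * k⁻¹) * (t * (k⁻¹ * s * k) * t) * (k * r * k⁻¹)⁻¹ * t := by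
    have h2 : t * (k⁻¹ * s * k) * t = k * (t * s * t) * k⁻¹ := by
      calc t * (k⁻¹ * s * k) * t = (t * k⁻¹ * t) * (t * s * t) * (t * k * t) := by
            simp only [mul_assoc]
            rw [ttx hS, ttx hS]
        _ = _ := by rw [htk, htk']
    have h3 : k * t * k⁻¹ * t = k * k := by
      calc k * t * k⁻¹ * t = k * (t * k⁻¹ * t) := by simp only [mul_assoc]
        _ = _ := by rw [htk']
    rw [h2, hsr, ← h3]
    group
  have hk2 : k * k ∈ Subgroup.closure ((Q : Set G) ∪ {t}) := by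
    have hkr : k * r * k⁻¹ ∈ Q := conj_Q hS hk.1 hr
    have hks : k⁻¹ * s * k ∈ Q := by
      have := conj_Q hS (inv_mem hk.1) hsQ
      rwa [inv_inv] at this
    rw [h1]
    exact mul_mem (mul_mem (mul_mem (hQ _ hkr) (mul_mem (mul_mem htL (hQ _ hks)) htL))
      (inv_mem (hQ _ hkr))) htL
  -- `k` is a power of `k²`
  have hodd : Odd (orderOf k) := by
    have h8 : orderOf (⟨k, hk.1⟩ : ↥(stabilizer G a ⊓ stabilizer G (t • a))) ∣
        Nat.card ↥(stabilizer G a ⊓ stabilizer G (t • a)) := orderOf_dvd_natCard _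
    rw [Subgroup.orderOf_mk] at h8
    exact hS.odd_card.of_dvd_nat h8
  obtain ⟨m, hm⟩ := hodd
  have h5 : k = (k * k) ^ (m + 1) := by
    rw [← pow_two, ← pow_mul]
    have : 2 * (m + 1) = orderOf k + 1 := by rw [hm]; ring
    rw [this, pow_succ, pow_orderOf_eq_one, one_mul]
  rw [h5]
  exact pow_mem hk2 _

/-- `D = V K` -/
theorem exists_mul_of_mem_D [Finite G] (hS : Cfsg.IsRankOneSetup G Ω a t Q) {d : G}
    (hd : d ∈ stabilizer G a ⊓ stabilizer G (t • a)) :
    ∃ v ∈ stabilizer G a ⊓ stabilizer G (t • a), v * t = t * v ∧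
      ∃ k ∈ Cfsg.invertedBy (stabilizer G a ⊓ stabilizer G (t • a)) t, d = v * k := by
  have ht2 : orderOf t = 2 := orderOf_eq_prime (by rw [pow_two]; exact hS.mul_self) hS.ne_one
  have tinv := tt_inv hS
  obtain ⟨h3, -, -⟩ := Cfsg.Agent.S1124.result t ht2 (stabilizer G a ⊓ stabilizer G (t • a)) hS.odd_card
    (fun x hx => by rw [tinv]; exact conj_mem_D hS hx)
  obtain ⟨⟨v, k⟩, ⟨hv, hk, hvk⟩, -⟩ := h3 _ hd
  exact ⟨v, hv.1, (Subgroup.mem_centralizer_iff.mp hv.2 t rfl).symm, k, hk, hvk⟩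

/-- `⟨Q, t⟩` is normal. -/
theorem closure_normal [Finite G] (hS : Cfsg.IsRankOneSetup G Ω a t Q) :
    (Subgroup.closure ((Q : Set G) ∪ {t})).Normal := by
  have tinv := tt_inv hS
  set L := Subgroup.closure ((Q : Set G) ∪ {t}) with hL
  have hQ : ∀ x ∈ Q, x ∈ L := fun x hx => Subgroup.subset_closure (Or.inl hx)
  have htL : t ∈ L := Subgroup.subset_closure (Or.inr rfl)
  -- `D` normalises
  have hD : ∀ d ∈ stabilizer G a ⊓ stabilizer G (t • a), ∀ x ∈ L, d * x * d⁻¹ ∈ L := by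
    intro d hd x hx
    induction hx using Subgroup.closure_induction with
    | mem x hx =>
      rcases hx with hx | hx
      · exact hQ _ (conj_Q hS hd hx)
      · obtain ⟨v, hv, hvt, k, hk, rfl⟩ := exists_mul_of_mem_D hS hd
        have hx : x = t := hx
        subst hx
        have hkL := inverted_mem_closure hS hk
        have htk : x * k * x = k⁻¹ := by
          have := hk.2
          rwa [tinv] at this
        -- `k t k⁻¹ = k k t`
        have h1 : k * x * k⁻¹ = k * k * x := by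
          rw [← htk]
          simp only [mul_assoc]
          rw [ttx hS]
        have h2 : v * k * x * (v * k)⁻¹ = (v * k * v⁻¹) * (v * k * v⁻¹) * x := by
          have h3 : v⁻¹ * x = x * v⁻¹ := by
            rw [inv_mul_eq_iff_eq_mul, ← mul_assoc, hvt, mul_assoc, mul_inv_cancel, mul_one]
          calc v * k * x * (v * k)⁻¹ = v * (k * x * k⁻¹) * v⁻¹ := by group
            _ = v * (k * k * x) * v⁻¹ := by rw [h1]
            _ = v * k * k * (x * v⁻¹) := by simp only [mul_assoc]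
            _ = v * k * k * (v⁻¹ * x) := by rw [h3]
            _ = _ := by group
        rw [h2]
        -- `v k v⁻¹` is again inverted by `t`
        have h4 : v * k * v⁻¹ ∈ Cfsg.invertedBy (stabilizer G a ⊓ stabilizer G (x • a)) x := by
          refine ⟨mul_mem (mul_mem hv hk.1) (inv_mem hv), ?_⟩
          have h3 : v⁻¹ * x = x * v⁻¹ := by
            rw [inv_mul_eq_iff_eq_mul, ← mul_assoc, hvt, mul_assoc, mul_inv_cancel, mul_one]
          calc x * (v * k * v⁻¹) * x⁻¹ = (x * v) * k * (v⁻¹ * x) := by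
                rw [tinv]; simp only [mul_assoc]
            _ = (v * x) * k * (x * v⁻¹) := by rw [h3, hvt]
            _ = v * (x * k * x) * v⁻¹ := by simp only [mul_assoc]
            _ = v * k⁻¹ * v⁻¹ := by rw [htk]
            _ = (v * k * v⁻¹)⁻¹ := by group
        have h5 := inverted_mem_closure hS h4
        exact mul_mem (mul_mem h5 h5) htL
    | one => rw [mul_one, mul_inv_cancel]; exact one_mem _
    | mul x y _ _ hx hy =>
      have : d * (x * y) * d⁻¹ = (d * x * d⁻¹) * (d * y * d⁻¹) := by group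
      rw [this]
      exact mul_mem hx hy
    | inv x _ hx =>
      have : d * x⁻¹ * d⁻¹ = (d * x * d⁻¹)⁻¹ := by group
      rw [this]
      exact inv_mem hx
  refine ⟨fun x hx g => ?_⟩
  -- every `g` is in `L D` or `L D t L`
  have hst : ∀ g ∈ stabilizer G a, ∀ x ∈ L, g * x * g⁻¹ ∈ L := by
    intro g hg x hx
    obtain ⟨q, hq, d, hd, rfl⟩ := S1119.exists_mul hS hg
    have : q * d * x * (q * d)⁻¹ = q * (d * x * d⁻¹) * q⁻¹ := by group
    rw [this]
    exact mul_mem (mul_mem (hQ q hq) (hD d hd x hx)) (inv_mem (hQ q hq))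
  by_cases hg : g ∈ stabilizer G a
  · exact hst g hg x hx
  · obtain ⟨⟨u, f⟩, ⟨hu, hf, he⟩, -⟩ := S1119.canonical hS g hg
    simp only at hu hf he
    have h6 : g * x * g⁻¹ = u * (t * f * x * (t * f)⁻¹) * u⁻¹ := by
      rw [he]; group
    rw [h6]
    exact hst u hu _ (mul_mem (mul_mem (mul_mem htL (hQ f hf)) hx)
      (inv_mem (mul_mem htL (hQ f hf))))

theorem closure_eq_top [Finite G] [IsSimpleGroup G] (hS : Cfsg.IsRankOneSetup G Ω a t Q) :
    Subgroup.closure ((Q : Set G) ∪ {t}) = ⊤ := by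
  rcases (closure_normal hS).eq_bot_or_eq_top with h | h
  · exfalso
    have h1 : t ∈ Subgroup.closure ((Q : Set G) ∪ {t}) := Subgroup.subset_closure (Or.inr rfl)
    rw [h, Subgroup.mem_bot] at h1
    exact hS.ne_one h1
  · exact h

end Cfsg.Agent.SuzukiRankOne.Generate
end

-- part: SuzukiRankOne/StructFun
section
/-!
The structure functions of a rank-one set-up: `t x t = g(x) h(x) t f(x)` for `x ∈ Q`, `x ≠ 1`, as the
relation `Form` and as functions `gQ, fQ : Q → Q`, `hD : Q → G`, with their identities, also in the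
presence of the Singer data (`Torus`).
-/

set_option autoImplicit false

namespace Cfsg.Agent.SuzukiRankOne.StructFun

open MulAction
open Cfsg.Agent.LieRecognition.RankOneForm Cfsg.Agent.SuzukiRankOne.SingerField

variable {G Ω : Type*} [Group G] [MulAction G Ω] {a : Ω} {t : G} {Q : Subgroup G}

/-- `t x t = g h t f` with `g, f ∈ Q`, `h ∈ D`. -/
structure Form (a : Ω) (t : G) (Q : Subgroup G) (x g h f : G) : Prop where
  hg : g ∈ Q
  hh : h ∈ stabilizer G a ⊓ stabilizer G (t • a)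
  hf : f ∈ Q
  eq : t * x * t = g * h * t * f

theorem Form.unique (hS : Cfsg.IsRankOneSetup G Ω a t Q) {x g h f g' h' f' : G}
    (F : Form a t Q x g h f) (F' : Form a t Q x g' h' f') : g = g' ∧ h = h' ∧ f = f' :=
  canonical_unique hS F.hg F.hh F.hf F'.hg F'.hh F'.hf (F.eq.symm.trans F'.eq)

theorem exists_form (hS : Cfsg.IsRankOneSetup G Ω a t Q) {x : G} (hx : x ∈ Q) (hx1 : x ≠ 1) :
    ∃ g h f, Form a t Q x g h f := by
  have h1 : t * x * t ∉ stabilizer G a := fun h => hx1 (eq_one_of_conj_mem hS hx h)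
  obtain ⟨⟨u, f⟩, ⟨hu, hf, he⟩, -⟩ := S1119.canonical hS _ h1
  obtain ⟨g, hg, d, hd, hgd⟩ := S1119.exists_mul hS hu
  refine ⟨g, d, f, hg, hd, hf, ?_⟩
  rw [he, hgd]

theorem Form.of_one (hS : Cfsg.IsRankOneSetup G Ω a t Q) {g h f : G} (F : Form a t Q 1 g h f) :
    False := by
  have h1 := F.eq
  rw [mul_one, hS.mul_self] at h1
  have h2 : t = (g * h)⁻¹ * f⁻¹ := by
    have h3 : (g * h)⁻¹ * 1 * f⁻¹ = (g * h)⁻¹ * (g * h * t * f) * f⁻¹ := by rw [h1]
    have h4 : (g * h)⁻¹ * (g * h * t * f) * f⁻¹ = t := by group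
    rw [h4] at h3
    rw [← h3, mul_one]
  apply hS.not_mem
  rw [h2]
  exact mul_mem (inv_mem (mul_mem (hS.le F.hg) F.hh.1)) (inv_mem (hS.le F.hf))

theorem Form.inv (hS : Cfsg.IsRankOneSetup G Ω a t Q) {x g h f : G} (F : Form a t Q x g h f) :
    Form a t Q x⁻¹ f⁻¹ (t * h⁻¹ * t) g⁻¹ := by
  have tinv := tt_inv hS
  refine ⟨inv_mem F.hf, conj_mem_D hS (inv_mem F.hh), inv_mem F.hg, ?_⟩
  have e2 : t * x⁻¹ * t = (t * x * t)⁻¹ := by
    rw [mul_inv_rev, mul_inv_rev, tinv, mul_assoc]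
  rw [e2, F.eq, mul_inv_rev, mul_inv_rev, mul_inv_rev, tinv]
  simp only [mul_assoc]
  rw [ttx hS]

/-- the form of `f` -/
theorem Form.swap (hS : Cfsg.IsRankOneSetup G Ω a t Q) {x g h f : G} (hx : x ∈ Q)
    (F : Form a t Q x g h f) : Form a t Q f (h⁻¹ * g⁻¹ * h) h⁻¹ x := by
  refine ⟨?_, inv_mem F.hh, hx, ?_⟩
  · have := conj_Q hS (inv_mem F.hh) (inv_mem F.hg)
    rwa [inv_inv] at this
  · have e2 : t * f = h⁻¹ * g⁻¹ * (t * x * t) := by rw [F.eq]; group
    rw [e2]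
    simp only [mul_assoc]
    rw [hS.mul_self]
    simp

/-- the form of `g` -/
theorem Form.swapg (hS : Cfsg.IsRankOneSetup G Ω a t Q) {x g h f : G} (hx : x ∈ Q)
    (F : Form a t Q x g h f) :
    Form a t Q g x h⁻¹ ((t * h * t) * f⁻¹ * (t * h * t)⁻¹) := by
  have h1 := (F.inv hS)
  have h2 := h1.swap hS (inv_mem hx)
  have h3 := h2.inv hS
  have tinv := tt_inv hS
  have e1 : t * (t * h⁻¹ * t)⁻¹⁻¹ * t = h⁻¹ := by
    rw [inv_inv]
    simp only [mul_assoc]
    rw [ttx hS, hS.mul_self, mul_one]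
  have e2 : ((t * h⁻¹ * t)⁻¹ * f⁻¹⁻¹ * (t * h⁻¹ * t))⁻¹ = (t * h * t) * f⁻¹ * (t * h * t)⁻¹ := by
    have e3 : t * h⁻¹ * t = (t * h * t)⁻¹ := by
      rw [mul_inv_rev, mul_inv_rev, tinv, mul_assoc]
    rw [e3]
    group
  rw [e1, e2, inv_inv, inv_inv] at h3
  exact h3

/-- the form of a conjugate by an element of `D` -/
theorem Form.conj (hS : Cfsg.IsRankOneSetup G Ω a t Q) {x g h f c : G}
    (hc : c ∈ stabilizer G a ⊓ stabilizer G (t • a)) (F : Form a t Q x g h f) :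
    Form a t Q (c⁻¹ * x * c) ((t * c * t)⁻¹ * g * (t * c * t)) ((t * c * t)⁻¹ * h * c)
      ((t * c * t)⁻¹ * f * (t * c * t)) := by
  have tinv := tt_inv hS
  have hct := conj_mem_D hS hc
  have hcg := conj_Q hS (inv_mem hct) F.hg
  have hcf := conj_Q hS (inv_mem hct) F.hf
  rw [inv_inv] at hcg hcf
  refine ⟨hcg, mul_mem (mul_mem (inv_mem hct) F.hh) hc, hcf, ?_⟩
  have e2 : t * (c⁻¹ * x * c) * t = (t * c * t)⁻¹ * (t * x * t) * (t * c * t) := by
    rw [mul_inv_rev, mul_inv_rev, tinv]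
    simp only [mul_assoc]
    rw [ttx hS, ttx hS]
  rw [e2, F.eq]
  simp only [mul_inv_rev, tinv, mul_assoc, ttx hS, mul_inv_cancel_left]

/-- the form of a product -/
theorem Form.mul (hS : Cfsg.IsRankOneSetup G Ω a t Q) {x gx hx fx y gy hy fy gz hz fz : G}
    (Fx : Form a t Q x gx hx fx) (Fy : Form a t Q y gy hy fy)
    (Fz : Form a t Q (fx * gy) gz hz fz) :
    Form a t Q (x * y) (gx * (hx * gz * hx⁻¹)) (hx * hz * hy)
      ((t * hy * t)⁻¹ * fz * (t * hy * t) * fy) := by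
  have tinv := tt_inv hS
  have hyt := conj_mem_D hS Fy.hh
  have hc := conj_Q hS (inv_mem hyt) Fz.hf
  rw [inv_inv] at hc
  refine ⟨mul_mem Fx.hg (conj_Q hS Fx.hh Fz.hg), mul_mem (mul_mem Fx.hh Fz.hh) Fy.hh,
    mul_mem hc Fy.hf, ?_⟩
  have exy : t * (x * y) * t = (t * x * t) * (t * y * t) := by
    simp only [mul_assoc]
    rw [ttx hS]
  rw [exy, Fx.eq, Fy.eq]
  calc gx * hx * t * fx * (gy * hy * t * fy)
      = gx * hx * (t * (fx * gy) * t) * (t * hy * t) * fy := by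
        simp only [mul_assoc]
        rw [ttx hS]
    _ = gx * hx * (gz * hz * t * fz) * (t * hy * t) * fy := by rw [Fz.eq]
    _ = _ := by
        simp only [mul_inv_rev, tinv, mul_assoc, ttx hS, mul_inv_cancel_left,
          inv_mul_cancel_left]

/-- `f(x) g(y) ≠ 1` if `x y ≠ 1` -/
theorem Form.mul_ne_one (hS : Cfsg.IsRankOneSetup G Ω a t Q) {x gx hx fx y gy hy fy : G}
    (hxQ : x ∈ Q) (hyQ : y ∈ Q) (Fx : Form a t Q x gx hx fx) (Fy : Form a t Q y gy hy fy)
    (hxy : x * y ≠ 1) : fx * gy ≠ 1 := by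
  intro hz
  apply hxy
  apply eq_one_of_conj_mem hS (mul_mem hxQ hyQ)
  have exy : t * (x * y) * t = (t * x * t) * (t * y * t) := by
    simp only [mul_assoc]
    rw [ttx hS]
  have : t * (x * y) * t = gx * hx * (t * hy * t) * fy := by
    rw [exy, Fx.eq, Fy.eq]
    calc gx * hx * t * fx * (gy * hy * t * fy) = gx * hx * t * (fx * gy) * (hy * t * fy) := by group
      _ = gx * hx * (t * hy * t) * fy := by rw [hz]; group
  rw [this]
  exact mul_mem (mul_mem (mul_mem (hS.le Fx.hg) Fx.hh.1) (conj_mem_D hS Fy.hh).1) (hS.le Fy.hf)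

theorem Form.f_ne_one (hS : Cfsg.IsRankOneSetup G Ω a t Q) {x g h f : G} (hx : x ∈ Q)
    (F : Form a t Q x g h f) : f ≠ 1 := by
  rintro rfl
  exact (F.swap hS hx).of_one hS

theorem Form.g_ne_one (hS : Cfsg.IsRankOneSetup G Ω a t Q) {x g h f : G} (hx : x ∈ Q)
    (F : Form a t Q x g h f) : g ≠ 1 := by
  rintro rfl
  exact (F.swapg hS hx).of_one hS

/-! ### The functions -/

open Classical in
/-- the function `g` -/
noncomputable def gQ (hS : Cfsg.IsRankOneSetup G Ω a t Q) (x : Q) : Q :=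
  if hx : (x : G) ≠ 1 then ⟨(exists_form hS x.2 hx).choose,
    (exists_form hS x.2 hx).choose_spec.choose_spec.choose_spec.hg⟩ else 1

open Classical in
/-- the function `h` -/
noncomputable def hD (hS : Cfsg.IsRankOneSetup G Ω a t Q) (x : Q) : G :=
  if hx : (x : G) ≠ 1 then (exists_form hS x.2 hx).choose_spec.choose else 1

open Classical in
/-- the function `f` -/
noncomputable def fQ (hS : Cfsg.IsRankOneSetup G Ω a t Q) (x : Q) : Q :=
  if hx : (x : G) ≠ 1 then ⟨(exists_form hS x.2 hx).choose_spec.choose_spec.choose,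
    (exists_form hS x.2 hx).choose_spec.choose_spec.choose_spec.hf⟩ else 1

theorem form (hS : Cfsg.IsRankOneSetup G Ω a t Q) {x : Q} (hx : x ≠ 1) :
    Form a t Q (x : G) (gQ hS x) (hD hS x) (fQ hS x) := by
  have hx' : (x : G) ≠ 1 := fun h => hx (Subtype.ext h)
  unfold gQ hD fQ
  rw [dif_pos hx', dif_pos hx', dif_pos hx']
  exact (exists_form hS x.2 hx').choose_spec.choose_spec.choose_spec

theorem form_iff (hS : Cfsg.IsRankOneSetup G Ω a t Q) {x g f : Q} {h : G}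
    (F : Form a t Q (x : G) g h f) : gQ hS x = g ∧ hD hS x = h ∧ fQ hS x = f := by
  have hx : x ≠ 1 := by
    rintro rfl
    exact F.of_one hS
  obtain ⟨h1, h2, h3⟩ := (form hS hx).unique hS F
  exact ⟨Subtype.ext h1, h2, Subtype.ext h3⟩

theorem fQ_ne_one (hS : Cfsg.IsRankOneSetup G Ω a t Q) {x : Q} (hx : x ≠ 1) : fQ hS x ≠ 1 :=
  fun h => (form hS hx).f_ne_one hS x.2 (congrArg Subtype.val h)

theorem gQ_ne_one (hS : Cfsg.IsRankOneSetup G Ω a t Q) {x : Q} (hx : x ≠ 1) : gQ hS x ≠ 1 :=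
  fun h => (form hS hx).g_ne_one hS x.2 (congrArg Subtype.val h)

theorem hD_mem (hS : Cfsg.IsRankOneSetup G Ω a t Q) {x : Q} (hx : x ≠ 1) :
    hD hS x ∈ stabilizer G a ⊓ stabilizer G (t • a) := (form hS hx).hh

theorem fQ_fQ (hS : Cfsg.IsRankOneSetup G Ω a t Q) {x : Q} (hx : x ≠ 1) :
    fQ hS (fQ hS x) = x ∧ hD hS (fQ hS x) = (hD hS x)⁻¹ := by
  obtain ⟨-, h2, h3⟩ := (form hS (fQ_ne_one hS hx)).unique hS ((form hS hx).swap hS x.2)
  exact ⟨Subtype.ext h3, h2⟩

theorem gQ_gQ (hS : Cfsg.IsRankOneSetup G Ω a t Q) {x : Q} (hx : x ≠ 1) :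
    gQ hS (gQ hS x) = x ∧ hD hS (gQ hS x) = (hD hS x)⁻¹ := by
  obtain ⟨h1, h2, -⟩ := (form hS (gQ_ne_one hS hx)).unique hS ((form hS hx).swapg hS x.2)
  exact ⟨Subtype.ext h1, h2⟩

theorem fQ_inv (hS : Cfsg.IsRankOneSetup G Ω a t Q) {x : Q} (hx : x ≠ 1) :
    fQ hS x⁻¹ = (gQ hS x)⁻¹ ∧ gQ hS x⁻¹ = (fQ hS x)⁻¹ ∧ hD hS x⁻¹ = t * (hD hS x)⁻¹ * t := by
  obtain ⟨h1, h2, h3⟩ := (form hS (inv_ne_one.mpr hx)).unique hS ((form hS hx).inv hS)
  exact ⟨Subtype.ext h3, Subtype.ext h1, h2⟩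

section torus

variable {F : Type} [Field F] [MulDistribMulAction Fˣ Q] {κ : Fˣ →* G} {δ : F → Q}

theorem kappa_mem (T : Torus a t Q F κ δ) (c : Fˣ) :
    κ c ∈ stabilizer G a ⊓ stabilizer G (t • a) := ((T.mem_iff _).mpr ⟨c, rfl⟩).1

theorem t_kappa_t (hS : Cfsg.IsRankOneSetup G Ω a t Q) (T : Torus a t Q F κ δ) (c : Fˣ) :
    t * κ c * t = (κ c)⁻¹ := by
  have h1 := ((T.mem_iff _).mpr ⟨c, rfl⟩).2
  rwa [tt_inv hS] at h1

theorem Form.smul (hS : Cfsg.IsRankOneSetup G Ω a t Q) (T : Torus a t Q F κ δ) {x g f : Q} {h : G}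
    (Fx : Form a t Q (x : G) g h f) (c : Fˣ) :
    Form a t Q ((c • x : Q) : G) ((c⁻¹ • g : Q) : G) ((κ c)⁻¹ * h * (κ c)⁻¹) ((c⁻¹ • f : Q) : G) := by
  have h1 := Fx.conj hS (inv_mem (kappa_mem T c))
  have h2 : t * (κ c)⁻¹ * t = κ c := by
    have := t_kappa_t hS T c⁻¹
    rw [map_inv, inv_inv] at this
    exact this
  rw [h2, inv_inv] at h1
  rw [T.smul, T.smul, T.smul, map_inv, inv_inv]
  exact h1

theorem fQ_smul (hS : Cfsg.IsRankOneSetup G Ω a t Q) (T : Torus a t Q F κ δ) {x : Q} (hx : x ≠ 1)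
    (c : Fˣ) : fQ hS (c • x) = c⁻¹ • fQ hS x ∧ gQ hS (c • x) = c⁻¹ • gQ hS x ∧
      hD hS (c • x) = (κ c)⁻¹ * hD hS x * (κ c)⁻¹ := by
  obtain ⟨h1, h2, h3⟩ := form_iff hS ((form hS hx).smul hS T c)
  exact ⟨h3, h1, h2⟩

end torus

end Cfsg.Agent.SuzukiRankOne.StructFun
end

-- part: SuzukiRankOne/SzF
section
/-!
The structure functions of a rank-one set-up on the elements `c • r`, `δ c` and their products, where
`t (δ 1) t = r⁻¹ t r`; in particular in the case `r² = δ 1` (Suzuki groups).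
-/

set_option autoImplicit false

namespace Cfsg.Agent.SuzukiRankOne.SzF

open MulAction
open Cfsg.Agent.LieRecognition.RankOneForm Cfsg.Agent.SuzukiRankOne.SingerField
open Cfsg.Agent.SuzukiRankOne.StructFun
open Cfsg.Agent.LieRecognition.HigmanData

variable {G Ω : Type*} [Group G] [MulAction G Ω] {a : Ω} {t : G} {Q : Subgroup G}
variable {F : Type} [Field F] [MulDistribMulAction Fˣ Q] {κ : Fˣ →* G} {δ : F → Q}

/-- The standing hypothesis: Singer data with `t (δ 1) t = r⁻¹ t r`, `r ∈ Q`. -/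
structure Base (a : Ω) (t : G) (Q : Subgroup G) (F : Type) [Field F] [MulDistribMulAction Fˣ Q]
    (κ : Fˣ →* G) (δ : F → Q) (r : Q) : Prop where
  setup : Cfsg.IsRankOneSetup G Ω a t Q
  torus : Torus a t Q F κ δ
  eq : t * (δ 1 : G) * t = (r : G)⁻¹ * t * r

variable {r : Q}

theorem delta_zero (T : Torus a t Q F κ δ) : δ 0 = 1 := by
  have h := T.singer.add 0 0
  rw [add_zero] at h
  exact (left_eq_mul.mp h)

theorem delta_mul_self (T : Torus a t Q F κ δ) (u : F) : δ u * δ u = 1 :=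
  (T.singer.inv _).mpr ⟨u, rfl⟩

theorem delta_inv (T : Torus a t Q F κ δ) (u : F) : (δ u)⁻¹ = δ u :=
  inv_eq_of_mul_eq_one_left (delta_mul_self T u)

theorem delta_ne_one (T : Torus a t Q F κ δ) {u : F} (hu : u ≠ 0) : δ u ≠ 1 := by
  intro h
  rw [← delta_zero T] at h
  exact hu (T.singer.inj h)

theorem smul_one_delta (T : Torus a t Q F κ δ) (c : Fˣ) : c • δ 1 = δ (c : F) := by
  rw [T.singer.smul, mul_one]

/-- conjugation by `κ c` -/
theorem kappa_conj (T : Torus a t Q F κ δ) (c : Fˣ) (x : Q) :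
    κ c * (x : G) * (κ c)⁻¹ = ((c • x : Q) : G) := (T.smul c x).symm

theorem kappa_conj' (T : Torus a t Q F κ δ) (c : Fˣ) (x : Q) :
    (κ c)⁻¹ * (x : G) * κ c = ((c⁻¹ • x : Q) : G) := by
  rw [T.smul, map_inv, inv_inv]

/-- the form of `δ 1` -/
theorem Base.form_one (B : Base a t Q F κ δ r) : Form a t Q (δ 1 : G) ((r⁻¹ : Q) : G) 1 (r : G) :=
  ⟨(r⁻¹).2, one_mem _, r.2, by rw [B.eq, mul_one]; rfl⟩

/-- the form of `r` -/
theorem Base.form_r (B : Base a t Q F κ δ r) : Form a t Q (r : G) (r : G) 1 (δ 1 : G) := by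
  have h := B.form_one.swap B.setup (δ 1).2
  have e : (1 : G)⁻¹ * ((r⁻¹ : Q) : G)⁻¹ * 1 = r := by simp
  rw [e, inv_one] at h
  exact h

/-- the form of `r⁻¹` -/
theorem Base.form_r_inv (B : Base a t Q F κ δ r) :
    Form a t Q ((r⁻¹ : Q) : G) (δ 1 : G) 1 ((r⁻¹ : Q) : G) := by
  have h := B.form_r.inv B.setup
  have e : t * (1 : G)⁻¹ * t = 1 := by rw [inv_one, mul_one, B.setup.mul_self]
  rw [e] at h
  have e2 : (δ 1 : G)⁻¹ = δ 1 := by
    rw [← Subgroup.coe_inv, delta_inv B.torus]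
  rw [e2] at h
  exact h

theorem Base.r_ne_one (B : Base a t Q F κ δ r) : r ≠ 1 := by
  intro h
  have h1 := B.form_r
  rw [h] at h1
  exact h1.of_one B.setup

theorem Base.form_delta (B : Base a t Q F κ δ r) (c : Fˣ) :
    Form a t Q (δ (c : F) : G) ((c⁻¹ • r⁻¹ : Q) : G) (κ (c * c)⁻¹) ((c⁻¹ • r : Q) : G) := by
  have h := B.form_one.smul B.setup B.torus c
  rw [smul_one_delta B.torus, mul_one, ← mul_inv_rev, ← map_mul, ← map_inv] at h
  exact h

theorem Base.form_smul_r (B : Base a t Q F κ δ r) (c : Fˣ) :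
    Form a t Q ((c • r : Q) : G) ((c⁻¹ • r : Q) : G) (κ (c * c)⁻¹) (δ ((c⁻¹ : Fˣ) : F) : G) := by
  have h := B.form_r.smul B.setup B.torus c
  rw [smul_one_delta B.torus, mul_one, ← mul_inv_rev, ← map_mul, ← map_inv] at h
  exact h

theorem Base.form_smul_r_inv (B : Base a t Q F κ δ r) (c : Fˣ) :
    Form a t Q ((c • r⁻¹ : Q) : G) (δ ((c⁻¹ : Fˣ) : F) : G) (κ (c * c)⁻¹) ((c⁻¹ • r⁻¹ : Q) : G) := by
  have h := B.form_r_inv.smul B.setup B.torus c
  rw [smul_one_delta B.torus, mul_one, ← mul_inv_rev, ← map_mul, ← map_inv] at h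
  exact h

/-- **(A1)** the form of the bracket `(b • r) (c • r)⁻¹`, `d = b + c ≠ 0`. -/
theorem Base.form_bracket (B : Base a t Q F κ δ r) {b c d : Fˣ} (hd : (d : F) = b + c) :
    Form a t Q ((b • r * (c • r)⁻¹ : Q) : G) ((b⁻¹ • r * ((c * b⁻¹ * d⁻¹) • r)⁻¹ : Q) : G)
      (κ (d * d)⁻¹) (((b * c⁻¹ * d⁻¹) • r * (c⁻¹ • r)⁻¹ : Q) : G) := by
  have T := B.torus
  have hS := B.setup
  have Fx := B.form_smul_r b
  have Fy := B.form_smul_r_inv c
  have hz : ((b⁻¹ : Fˣ) : F) + ((c⁻¹ : Fˣ) : F) = ((d * b⁻¹ * c⁻¹ : Fˣ) : F) := by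
    rw [Units.val_mul, Units.val_mul, hd]
    have h1 : (b : F) ≠ 0 := b.ne_zero
    have h2 : (c : F) ≠ 0 := c.ne_zero
    simp only [Units.val_inv_eq_inv_val]
    field_simp
    ring
  have hzz : (δ ((b⁻¹ : Fˣ) : F) : G) * (δ ((c⁻¹ : Fˣ) : F) : G) =
      (δ ((d * b⁻¹ * c⁻¹ : Fˣ) : F) : G) := by
    rw [← hz, T.singer.add]
    rfl
  have Fz := B.form_delta (d * b⁻¹ * c⁻¹)
  rw [← hzz] at Fz
  have h := Fx.mul hS Fy Fz
  have e1 : (c • r⁻¹ : Q) = (c • r)⁻¹ := smul_inv' c r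
  have ex : ((b • r : Q) : G) * ((c • r⁻¹ : Q) : G) = ((b • r * (c • r)⁻¹ : Q) : G) := by
    rw [e1]; rfl
  have eg : ((b⁻¹ • r : Q) : G) * (κ (b * b)⁻¹ * (((d * b⁻¹ * c⁻¹)⁻¹ • r⁻¹ : Q) : G) * (κ (b * b)⁻¹)⁻¹) =
      ((b⁻¹ • r * ((c * b⁻¹ * d⁻¹) • r)⁻¹ : Q) : G) := by
    have e3 : (b * b)⁻¹ * (d * b⁻¹ * c⁻¹)⁻¹ = c * b⁻¹ * d⁻¹ := by
      rw [mul_inv_rev, mul_inv_rev, mul_inv_rev, inv_inv, inv_inv]
      calc b⁻¹ * b⁻¹ * (c * (b * d⁻¹)) = c * b⁻¹ * d⁻¹ * (b⁻¹ * b) := by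
            simp only [mul_assoc, mul_comm, mul_left_comm]
        _ = _ := by rw [inv_mul_cancel, mul_one]
    rw [kappa_conj T, ← mul_smul, ← Subgroup.coe_mul, smul_inv', e3]
  have eh : κ (b * b)⁻¹ * κ ((d * b⁻¹ * c⁻¹) * (d * b⁻¹ * c⁻¹))⁻¹ * κ (c * c)⁻¹ = κ (d * d)⁻¹ := by
    rw [← map_mul, ← map_mul]
    congr 1
    rw [← mul_inv_rev, ← mul_inv_rev]
    congr 1
    calc c * c * (d * b⁻¹ * c⁻¹ * (d * b⁻¹ * c⁻¹) * (b * b))
        = d * d * ((c * c⁻¹) * (c * c⁻¹)) * ((b⁻¹ * b) * (b⁻¹ * b)) := by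
          simp only [mul_assoc, mul_comm, mul_left_comm]
      _ = d * d := by simp
  have et : t * κ (c * c)⁻¹ * t = κ (c * c) := by
    have := t_kappa_t hS T (c * c)⁻¹
    rw [this, map_inv, inv_inv]
  have ef : (t * κ (c * c)⁻¹ * t)⁻¹ * (((d * b⁻¹ * c⁻¹)⁻¹ • r : Q) : G) * (t * κ (c * c)⁻¹ * t) *
      ((c⁻¹ • r⁻¹ : Q) : G) = (((b * c⁻¹ * d⁻¹) • r * (c⁻¹ • r)⁻¹ : Q) : G) := by
    have e3 : (c * c)⁻¹ * (d * b⁻¹ * c⁻¹)⁻¹ = b * c⁻¹ * d⁻¹ := by
      rw [mul_inv_rev, mul_inv_rev, mul_inv_rev, inv_inv, inv_inv]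
      calc c⁻¹ * c⁻¹ * (c * (b * d⁻¹)) = b * c⁻¹ * d⁻¹ * (c⁻¹ * c) := by
            simp only [mul_assoc, mul_comm, mul_left_comm]
        _ = _ := by rw [inv_mul_cancel, mul_one]
    rw [et, kappa_conj' T, ← mul_smul, ← Subgroup.coe_mul, smul_inv' c⁻¹ r, e3]
  rw [ex, eg, eh, ef] at h
  exact h

/-! ### The case `r² = δ 1` -/

omit [Field F] [MulDistribMulAction Fˣ Q] in
/-- uniqueness of the solution of (A3) -/
theorem unique_solution {P : Type*} [Group P] {K : Type*} [Group K] [MulDistribMulAction K P] (w : K)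
    (hw : ∀ x : P, w • x = x → x = 1) {x y z : P} (hx : w • x = x * z) (hy : w • y = y * z) :
    x = y := by
  have h : w • (x * y⁻¹) = x * y⁻¹ := by
    rw [smul_mul', smul_inv', hx, hy]
    group
  exact mul_inv_eq_one.mp (hw _ h)

section sz

variable (hr : r * r = δ 1)
include hr

theorem r_inv (T : Torus a t Q F κ δ) : r⁻¹ = r * δ 1 := by
  rw [inv_eq_iff_mul_eq_one, ← mul_assoc, hr, delta_mul_self T]

theorem r_mul_delta_ne_one (T : Torus a t Q F κ δ) (u : F) : r * δ u ≠ 1 := by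
  intro h
  have h1 : r * δ u * (r * δ u) = 1 := by rw [h, one_mul]
  have h2 : r * δ u * (r * δ u) = δ 1 := by
    rw [mul_assoc, ← mul_assoc (δ u), T.singer.central u r, mul_assoc r, delta_mul_self T, mul_one, hr]
  rw [h2] at h1
  exact delta_ne_one T one_ne_zero h1

theorem sq_r_mul_delta (T : Torus a t Q F κ δ) (u : F) : r * δ u * (r * δ u) = δ 1 := by
  rw [mul_assoc, ← mul_assoc (δ u), T.singer.central u r, mul_assoc r, delta_mul_self T, mul_one, hr]

theorem inv_r_mul_delta [CharP F 2] (T : Torus a t Q F κ δ) (u : F) :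
    (r * δ u)⁻¹ = r * δ (u + 1) := by
  rw [mul_inv_rev, delta_inv T, r_inv hr T, ← mul_assoc, T.singer.central, mul_assoc,
    ← T.singer.add]

end sz

/-- the function `F(u) = f(r δ u)` -/
noncomputable def FF (B : Base a t Q F κ δ r) (u : F) : Q := fQ B.setup (r * δ u)

/-- the function `H(u) = h(r δ u)` -/
noncomputable def HH (B : Base a t Q F κ δ r) (u : F) : G := hD B.setup (r * δ u)

theorem Base.FF_zero (B : Base a t Q F κ δ r) : FF B 0 = δ 1 ∧ HH B 0 = 1 := by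
  unfold FF HH
  rw [delta_zero B.torus, mul_one]
  obtain ⟨-, h2, h3⟩ := form_iff B.setup B.form_r
  exact ⟨h3, h2⟩

section sz2

variable (hr : r * r = δ 1)
include hr

theorem Base.FF_one (B : Base a t Q F κ δ r) : FF B 1 = r⁻¹ ∧ HH B 1 = 1 := by
  unfold FF HH
  rw [← r_inv hr B.torus]
  obtain ⟨-, h2, h3⟩ := form_iff B.setup B.form_r_inv
  exact ⟨h3, h2⟩

/-- **(A2)** -/
theorem Base.FF_step [CharP F 2] (B : Base a t Q F κ δ r) (u : Fˣ) :
    u • FF B u = FF B (u + 1) * r ∧ HH B u = κ u * HH B (u + 1) * (κ u)⁻¹ := by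
  have T := B.torus
  have hS := B.setup
  have Fx := B.form_r
  have Fy := B.form_delta u
  have hz : δ 1 * (u⁻¹ • r⁻¹) = u⁻¹ • (r * δ ((u : F) + 1)) := by
    have e : r * δ ((u : F) + 1) = δ (u : F) * r⁻¹ := by
      rw [T.singer.add, r_inv hr T, ← mul_assoc, ← T.singer.central (u : F) r, mul_assoc]
    rw [e, smul_mul', ← smul_one_delta T u, smul_smul, inv_mul_cancel, one_smul]
  have hne : r * δ ((u : F) + 1) ≠ 1 := r_mul_delta_ne_one hr T _
  have Fz := (form hS hne).smul hS T u⁻¹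
  rw [← hz] at Fz
  have h := Fx.mul hS Fy Fz
  have hxy : (r : G) * (δ (u : F) : G) = ((r * δ (u : F) : Q) : G) := rfl
  rw [hxy] at h
  have et : t * κ (u * u)⁻¹ * t = κ (u * u) := by
    have := t_kappa_t hS T (u * u)⁻¹
    rw [this, map_inv, inv_inv]
  have ef : (t * κ (u * u)⁻¹ * t)⁻¹ * ((u⁻¹⁻¹ • fQ hS (r * δ ((u : F) + 1)) : Q) : G) *
      (t * κ (u * u)⁻¹ * t) * ((u⁻¹ • r : Q) : G) =
      ((u⁻¹ • (fQ hS (r * δ ((u : F) + 1)) * r) : Q) : G) := by
    rw [et, kappa_conj' T, ← mul_smul, smul_mul', ← Subgroup.coe_mul, inv_inv]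
    congr 3
    rw [mul_inv_rev, mul_assoc, inv_mul_cancel, mul_one]
  have eg : (r : G) * (1 * ((u⁻¹⁻¹ • gQ hS (r * δ ((u : F) + 1)) : Q) : G) * 1⁻¹) =
      ((r * (u • gQ hS (r * δ ((u : F) + 1))) : Q) : G) := by
    rw [one_mul, inv_one, mul_one, inv_inv, Subgroup.coe_mul]
  have eh : 1 * ((κ u⁻¹)⁻¹ * hD hS (r * δ ((u : F) + 1)) * (κ u⁻¹)⁻¹) * κ (u * u)⁻¹ =
      κ u * hD hS (r * δ ((u : F) + 1)) * (κ u)⁻¹ := by
    simp only [map_inv, map_mul, inv_inv]
    group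
  rw [ef, eg, eh] at h
  obtain ⟨-, h2, h3⟩ := form_iff hS h
  refine ⟨?_, h2⟩
  show u • fQ hS (r * δ (u : F)) = _
  rw [h3, smul_smul, mul_inv_cancel, one_smul]
  rfl

/-- **(A3)** -/
theorem Base.FF_eq [CharP F 2] (B : Base a t Q F κ δ r) (u v : Fˣ) (huv : (v : F) = u + 1) :
    (u * v) • FF B u = FF B u * r * (v • r) := by
  have h1 := (B.FF_step hr u).1
  have h2 := (B.FF_step hr v).1
  have h3 : (v : F) + 1 = u := by
    rw [huv, add_assoc, CharTwo.add_self_eq_zero, add_zero]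
  rw [h3] at h2
  rw [← huv] at h1
  rw [mul_comm, mul_smul, h1, smul_mul', h2]

/-- the equation `u² + u = 1` has no solution -/
theorem Base.mul_ne_one [CharP F 2] (B : Base a t Q F κ δ r) (u v : Fˣ) (huv : (v : F) = u + 1) :
    u * v ≠ 1 := by
  intro h
  have T := B.torus
  have h1 := B.FF_eq hr u v huv
  rw [h, one_smul, mul_assoc] at h1
  have h2 : r * (v • r) = 1 := (left_eq_mul.mp h1)
  have h3 : v • r = r⁻¹ := (inv_eq_of_mul_eq_one_right h2).symm
  have h4 : v • (r * r) = r⁻¹ * r⁻¹ := by rw [smul_mul', h3]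
  rw [← mul_inv_rev, hr, delta_inv T, T.singer.smul] at h4
  have h5 := T.singer.inj h4
  rw [mul_one] at h5
  rw [h5] at huv
  have : (u : F) = 0 := by
    have := huv.symm
    exact (add_eq_right.mp this)
  exact u.ne_zero this

/-- **(A4)** `h(r δ u) ∈ K`. -/
theorem Base.HH_mem [CharP F 2] [Finite G] (B : Base a t Q F κ δ r)
    (hn : ∀ d ∈ stabilizer G a ⊓ stabilizer G (t • a), ∀ c : Fˣ, ∃ c' : Fˣ, d * κ c * d⁻¹ = κ c')
    (u : F) : ∃ b : Fˣ, HH B u = κ b := by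
  have T := B.torus
  have hS := B.setup
  by_cases hu : u = 0
  · exact ⟨1, by rw [hu, B.FF_zero.2, map_one]⟩
  let u' : Fˣ := Units.mk0 u hu
  have hu' : (u' : F) = u := rfl
  have h1 := (B.FF_step hr u').2
  rw [hu'] at h1
  have hne := r_mul_delta_ne_one hr T u
  have h2 : HH B (u + 1) = t * (HH B u)⁻¹ * t := by
    unfold HH
    rw [← inv_r_mul_delta hr T, (fQ_inv hS hne).2.2]
  have hHD : HH B u ∈ stabilizer G a ⊓ stabilizer G (t • a) := hD_mem hS hne
  have ht2 : orderOf t = 2 := orderOf_eq_prime (by rw [pow_two]; exact hS.mul_self) hS.ne_one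
  have tinv := tt_inv hS
  obtain ⟨h3, -, -⟩ := Cfsg.Agent.S1124.result t ht2 (stabilizer G a ⊓ stabilizer G (t • a)) hS.odd_card
    (fun x hx => by rw [tinv]; exact conj_mem_D hS hx)
  obtain ⟨⟨v, k⟩, ⟨hv, hk, hvk⟩, -⟩ := h3 _ hHD
  simp only at hv hk hvk
  obtain ⟨b, rfl⟩ := (T.mem_iff k).mp hk
  have hvt : v * t = t * v := (Subgroup.mem_centralizer_iff.mp hv.2 t rfl).symm
  have hvt' : t * v⁻¹ * t = v⁻¹ := by
    rw [← mul_right_inj v, ← mul_assoc, ← mul_assoc, hvt, mul_assoc t, mul_inv_cancel, mul_one,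
      hS.mul_self]
  have h4 : t * (HH B u)⁻¹ * t = κ b * v⁻¹ := by
    have h5 : t * (κ b)⁻¹ * t = κ b := by
      have := t_kappa_t hS T b⁻¹
      rw [map_inv, inv_inv] at this
      exact this
    calc t * (HH B u)⁻¹ * t = (t * (κ b)⁻¹ * t) * (t * v⁻¹ * t) := by
          rw [hvk, mul_inv_rev]
          simp only [mul_assoc]
          rw [ttx hS]
      _ = _ := by rw [h5, hvt']
  rw [h2, h4] at h1
  obtain ⟨c', hc'⟩ := hn v hv.1 (u' * b)
  -- compare the `V`-parts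
  have h6 : HH B u = v⁻¹ * κ (c' * u'⁻¹) := by
    rw [h1, map_mul, map_inv, ← hc', map_mul]
    group
  have h7 := h3 _ hHD
  obtain ⟨p, -, hp⟩ := h7
  have e1 := hp (v, κ b) ⟨hv, hk, hvk⟩
  have e2 := hp (v⁻¹, κ (c' * u'⁻¹)) ⟨inv_mem hv, (T.mem_iff _).mpr ⟨_, rfl⟩, h6⟩
  have e3 : v = v⁻¹ := congrArg Prod.fst (e1.trans e2.symm)
  have e4 : v * v = 1 := by
    nth_rw 2 [e3]
    exact mul_inv_cancel v
  have e5 : v = 1 := by
    have h8 : orderOf (⟨v, hv.1⟩ : ↥(stabilizer G a ⊓ stabilizer G (t • a))) ∣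
        Nat.card ↥(stabilizer G a ⊓ stabilizer G (t • a)) := orderOf_dvd_natCard _
    have h9 : orderOf (⟨v, hv.1⟩ : ↥(stabilizer G a ⊓ stabilizer G (t • a))) ∣ 2 := by
      apply orderOf_dvd_of_pow_eq_one
      rw [pow_two]
      exact Subtype.ext e4
    have h10 := hS.odd_card.of_dvd_nat h8
    rcases (Nat.dvd_prime Nat.prime_two).mp h9 with h | h
    · exact congrArg Subtype.val (orderOf_eq_one_iff.mp h)
    · rw [h] at h10
      exact absurd h10 (by decide)
  rw [e5, one_mul] at hvk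
  exact ⟨b, hvk⟩

end sz2

/-! ### Fixed points and counting -/

theorem smul_fpf [Finite G] [FaithfulSMul G Ω] (B : Base a t Q F κ δ r)
    (h2 : ∃ x y : G, x ≠ 1 ∧ y ≠ 1 ∧ x ≠ y ∧ x * x = 1 ∧ y * y = 1 ∧ x * y = y * x)
    {c : Fˣ} {x : Q} (h : c • x = x) : c = 1 ∨ x = 1 := by
  by_cases hc : c = 1
  · exact Or.inl hc
  right
  have T := B.torus
  have h1 : κ c ≠ 1 := fun h => hc (T.inj (by rw [h, map_one]))
  have h3 := Cfsg.Agent.S1128.result B.setup h2 (κ c) ((T.mem_iff _).mpr ⟨c, rfl⟩) h1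
  have h4 : (x : G) ∈ Q ⊓ Subgroup.centralizer {κ c} := by
    refine Subgroup.mem_inf.mpr ⟨x.2, ?_⟩
    rw [Subgroup.mem_centralizer_iff]
    rintro y rfl
    have h5 := T.smul c x
    rw [h] at h5
    rw [eq_mul_inv_iff_mul_eq] at h5
    exact h5.symm
  rw [h3] at h4
  exact Subtype.ext (Subgroup.mem_bot.mp h4)

section count

variable (hr : r * r = δ 1)
include hr

/-- If `|Q| = q²`, then `Q` consists of the `δ u` and the `c • (r δ u)`. -/
theorem Base.cases_of_card [Finite G] [Finite F] (B : Base a t Q F κ δ r)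
    (hcard : Nat.card Q = Nat.card F ^ 2) (x : Q) :
    (∃ u, x = δ u) ∨ ∃ (c : Fˣ) (u : F), x = c • (r * δ u) := by
  classical
  have T := B.torus
  by_contra hcon
  push Not at hcon
  obtain ⟨hc1, hc2⟩ := hcon
  let m : Option (F ⊕ (Fˣ × F)) → Q := fun o => match o with
    | none => x
    | some (Sum.inl u) => δ u
    | some (Sum.inr (c, u)) => c • (r * δ u)
  have hsq : ∀ (c : Fˣ) (u : F), (c • (r * δ u)) * (c • (r * δ u)) = δ (c : F) := by
    intro c u
    rw [← smul_mul', sq_r_mul_delta hr T, smul_one_delta T]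
  have hm : Function.Injective m := by
    rintro (_ | u | ⟨c, u⟩) (_ | v | ⟨d, v⟩) h
    · rfl
    · exact absurd h (hc1 v)
    · exact absurd h (hc2 d v)
    · exact absurd h.symm (hc1 u)
    · have h : δ u = δ v := h
      rw [T.singer.inj h]
    · exfalso
      have h : δ u = d • (r * δ v) := h
      have h3 := hsq d v
      rw [← h, delta_mul_self T] at h3
      exact delta_ne_one T d.ne_zero h3.symm
    · exact absurd h.symm (hc2 c u)
    · exfalso
      have h : c • (r * δ u) = δ v := h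
      have h3 := hsq c u
      rw [h, delta_mul_self T] at h3
      exact delta_ne_one T c.ne_zero h3.symm
    · have h : c • (r * δ u) = d • (r * δ v) := h
      have h3 := hsq c u
      rw [h, hsq d v] at h3
      have h4 : d = c := Units.ext (T.singer.inj h3)
      subst h4
      have h5 := smul_left_cancel d h
      have h6 := T.singer.inj (mul_left_cancel h5)
      rw [h6]
  have h1 := Nat.card_le_card_of_injective m hm
  have hF : 0 < Nat.card F := Nat.card_pos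
  rw [hcard, Finite.card_option, Nat.card_sum, Nat.card_prod, Nat.card_units] at h1
  obtain ⟨n, hn⟩ := Nat.exists_eq_succ_of_ne_zero hF.ne'
  rw [hn, Nat.succ_sub_one] at h1
  have : n.succ + n * n.succ = n.succ ^ 2 := by
    rw [Nat.succ_eq_add_one]; ring
  omega

/-- If `|Q| = q²` and `r² = δ 1` then all values of `h` are in `K`. -/
theorem Base.hD_mem_of_card [Finite G] [Finite F] [CharP F 2] (B : Base a t Q F κ δ r)
    (hn : ∀ d ∈ stabilizer G a ⊓ stabilizer G (t • a), ∀ c : Fˣ, ∃ c' : Fˣ, d * κ c * d⁻¹ = κ c')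
    (hcard : Nat.card Q = Nat.card F ^ 2) (x : Q) (hx : x ≠ 1) : ∃ b : Fˣ, hD B.setup x = κ b := by
  have T := B.torus
  rcases B.cases_of_card hr hcard x with ⟨u, rfl⟩ | ⟨c, u, rfl⟩
  · have hu : u ≠ 0 := by
      rintro rfl
      exact hx (delta_zero T)
    obtain ⟨-, h2, -⟩ := form_iff B.setup (B.form_delta (Units.mk0 u hu))
    exact ⟨_, h2⟩
  · obtain ⟨b, hb⟩ := B.HH_mem hr hn u
    unfold HH at hb
    obtain ⟨-, -, h3⟩ := fQ_smul B.setup T (r_mul_delta_ne_one hr T u) c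
    refine ⟨c⁻¹ * b * c⁻¹, ?_⟩
    rw [h3, hb]
    simp only [map_mul, map_inv]

end count

end Cfsg.Agent.SuzukiRankOne.SzF
end

-- part: SuzukiRankOne/SzModel
section
/-!
The Suzuki group `Sz F (2 ^ (m+1))` as a rank-one set-up, with its Singer data, and the recognition of a
rank-one group as a Suzuki group from an equivariant isomorphism of `Q` with the unipotent group.
-/

set_option autoImplicit false

namespace Cfsg.Agent.SuzukiRankOne.SzModel

open MulAction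
open Cfsg.Agent.LieRecognition.RankOneAbstract Cfsg.Agent.LieRecognition.SzMatrix
open Cfsg.Agent.LieRecognition.HigmanData
open Cfsg.Agent.SuzukiRankOne.SingerField Cfsg.Agent.SuzukiRankOne.StructFun
open Cfsg.Agent.SuzukiRankOne.SzF

variable {F : Type} [Field F] {θ : F →+* F} {e : ℕ}

theorem data (H : Good F θ e) : Data H.borel H.unip H.w where
  w_not_mem := H.w_not_mem_borel
  le := H.unip_le_borel
  norm := H.borel_normalizes
  bruhat := H.bruhat_sz
  inter := H.inter_trivial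

/-- the diagonal subgroup -/
def diag (H : Good F θ e) : Fˣ →* ↥(Cfsg.Lie.Sz F e) where
  toFun := H.d
  map_one' := H.d_one
  map_mul' k l := (H.d_mul k l).symm

theorem diag_apply (H : Good F θ e) (k : Fˣ) : diag H k = H.d k := rfl

theorem w_conj_d (H : Good F θ e) (k : Fˣ) : (H.w)⁻¹ * H.d k * H.w = H.d k⁻¹ := by
  rw [H.w_inv, H.w_mul_d, mul_assoc, H.w_mul_w, mul_one]

theorem mem_torus_iff (H : Good F θ e) (g : ↥(Cfsg.Lie.Sz F e)) :
    g ∈ (diag H).range ↔ g ∈ H.borel ∧ (H.w)⁻¹ * g * H.w ∈ H.borel := by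
  constructor
  · rintro ⟨k, rfl⟩
    rw [diag_apply, w_conj_d]
    exact ⟨H.d_mem_borel k, H.d_mem_borel _⟩
  · rintro ⟨h1, h2⟩
    obtain ⟨a, b, k, rfl⟩ := (H.mem_borel_iff' g).mp h1
    have h3 : (H.w)⁻¹ * (H.u a b * H.d k) * H.w =
        ((H.w)⁻¹ * H.u a b * H.w) * ((H.w)⁻¹ * H.d k * H.w) := by group
    rw [h3, w_conj_d] at h2
    have h4 : (H.w)⁻¹ * H.u a b * H.w ∈ H.borel := by
      have h5 := H.borel.mul_mem h2 (H.borel.inv_mem (H.d_mem_borel k⁻¹))
      rwa [mul_inv_cancel_right] at h5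
    have h5 := H.inter_trivial _ (H.u_mem_unip a b) h4
    exact ⟨k, by rw [h5, one_mul]; rfl⟩

theorem even_card_of_two [Finite F] (h : (2 : F) = 0) : Even (Nat.card F) := by
  have : CharP F 2 := CharTwo.of_one_ne_zero_of_two_eq_zero one_ne_zero h
  letI : Fintype F := Fintype.ofFinite F
  obtain ⟨n, -, hn⟩ := FiniteField.card F 2
  rw [Nat.card_eq_fintype_card, hn]
  exact (Nat.even_pow.mpr ⟨even_two, n.ne_zero⟩)

theorem setup [Finite F] (H : Good F θ e) :
    Cfsg.IsRankOneSetup ↥(Cfsg.Lie.Sz F e) (↥(Cfsg.Lie.Sz F e) ⧸ H.borel) (QuotientGroup.mk 1)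
      H.w H.unip := by
  have hev := even_card_of_two H.two
  refine PSUModel.setup_of_data (data H) H.w_mul_w ?_ (mem_torus_iff H) ?_
  · rw [H.card_unip]
    exact hev.pow_of_ne_zero two_ne_zero
  · have h1 : Nat.card (diag H).range = Nat.card Fˣ :=
      (Nat.card_congr (MonoidHom.ofInjective (f := diag H) (fun k l h => H.d_inj h)).toEquiv).symm
    rw [h1, Nat.card_units]
    have hpos : 0 < Nat.card F := Nat.card_pos
    exact Nat.Even.sub_odd hpos hev odd_one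

theorem faithful (H : Good F θ e) :
    FaithfulSMul ↥(Cfsg.Lie.Sz F e) (↥(Cfsg.Lie.Sz F e) ⧸ H.borel) := by
  apply PSUModel.faithful_of_core
  intro g hg
  have h1 := hg 1
  rw [inv_one, one_mul, mul_one] at h1
  obtain ⟨k, rfl⟩ := (mem_torus_iff H g).mpr ⟨h1, hg H.w⟩
  have h2 := hg (H.u 0 1 * H.w)
  have h3 : (H.u 0 1 * H.w)⁻¹ * diag H k * (H.u 0 1 * H.w) =
      (H.w)⁻¹ * ((H.u 0 1)⁻¹ * H.u (0 * k ^ 2 * (θ k)⁻¹) (1 * θ k)) * H.w *
        ((H.w)⁻¹ * H.d k * H.w) := by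
    have h4 := H.d_mul_u k 0 1
    calc (H.u 0 1 * H.w)⁻¹ * diag H k * (H.u 0 1 * H.w)
        = (H.w)⁻¹ * (H.u 0 1)⁻¹ * (H.d k * H.u 0 1) * H.w := by
          rw [diag_apply]; group
      _ = _ := by rw [h4]; group
  rw [h3, w_conj_d] at h2
  have h5 := H.borel.mul_mem h2 (H.borel.inv_mem (H.d_mem_borel k⁻¹))
  rw [mul_inv_cancel_right] at h5
  have h6 := H.inter_trivial _ (H.unip.mul_mem (H.unip.inv_mem (H.u_mem_unip 0 1)) (H.u_mem_unip _ _)) h5
  rw [inv_mul_eq_one] at h6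
  have h7 := (H.u_inj h6).2
  rw [one_mul] at h7
  have h8 : k = 1 := by
    apply Units.ext
    rw [Units.val_one]
    apply θ.injective
    rw [← h7, map_one]
  rw [h8, map_one]

theorem generate [Finite F] (H : Good F θ e) :
    Subgroup.closure ((H.unip : Set ↥(Cfsg.Lie.Sz F e)) ∪ {H.w}) = ⊤ := by
  haveI : Finite ↥(Cfsg.Lie.Sz F e) := inferInstance
  have hS := setup H
  rw [eq_top_iff]
  have hU : ∀ x ∈ H.unip, x ∈ Subgroup.closure ((H.unip : Set ↥(Cfsg.Lie.Sz F e)) ∪ {H.w}) :=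
    fun x hx => Subgroup.subset_closure (Or.inl hx)
  have hw : H.w ∈ Subgroup.closure ((H.unip : Set ↥(Cfsg.Lie.Sz F e)) ∪ {H.w}) :=
    Subgroup.subset_closure (Or.inr rfl)
  have hd : ∀ k, H.d k ∈ Subgroup.closure ((H.unip : Set ↥(Cfsg.Lie.Sz F e)) ∪ {H.w}) := by
    intro k
    apply Generate.inverted_mem_closure hS
    refine ⟨Subgroup.mem_inf.mpr ⟨?_, ?_⟩, ?_⟩
    · rw [PSUModel.stab_one]
      exact H.d_mem_borel k
    · rw [PSUModel.mem_stab_smul, w_conj_d]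
      exact H.d_mem_borel _
    · rw [H.w_inv]
      have := w_conj_d H k
      rw [H.w_inv] at this
      rw [this, H.d_inv]
  have hB : ∀ g ∈ H.borel, g ∈ Subgroup.closure ((H.unip : Set ↥(Cfsg.Lie.Sz F e)) ∪ {H.w}) := by
    intro g hg
    obtain ⟨a, b, k, rfl⟩ := (H.mem_borel_iff' g).mp hg
    exact mul_mem (hU _ (H.u_mem_unip a b)) (hd k)
  intro g _
  by_cases hg : g ∈ H.borel
  · exact hB g hg
  · obtain ⟨s, hs, h⟩ := H.bruhat_sz g hg
    have h1 := mul_mem (mul_mem (hU s hs) hw) (hB _ h)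
    rwa [mul_inv_cancel_left] at h1

/-- the relation `w u(0,1) w = u(1,0)⁻¹ w u(1,0)` -/
theorem relation (H : Good F θ e) : H.w * H.u 0 1 * H.w = (H.u 1 0)⁻¹ * H.w * H.u 1 0 := by
  rw [H.u_inv]
  apply Subtype.ext
  apply Units.ext
  have h0 := H.two
  show (W F).1 * (H.U 0 1).1 * (W F).1 = (H.U 1 (0 + 1 * θ 1)).1 * (W F).1 * (H.U 1 0).1
  rw [W_val, H.U_val, H.U_val, H.U_val, Umat_def, Umat_def, Umat_def]
  ext i j
  fin_cases i <;> fin_cases j <;>
    simp [J, Matrix.mul_apply, Fin.sum_univ_four] <;>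
    first
    | linear_combination h0
    | linear_combination (-1 : F) * h0
    | linear_combination (-2 : F) * h0
    | linear_combination (-3 : F) * h0
    | linear_combination (3 : F) * h0
    | linear_combination (2 : F) * h0

/-! ### The Singer data of `Sz` -/

/-- the conjugation action on a normalised subgroup -/
@[reducible] def conjAct {G K : Type*} [Group G] [Group K] (Q : Subgroup G) (κ : K →* G)
    (h : ∀ (c : K), ∀ x ∈ Q, κ c * x * (κ c)⁻¹ ∈ Q) : MulDistribMulAction K Q where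
  smul c x := ⟨κ c * x * (κ c)⁻¹, h c x x.2⟩
  one_smul x := by
    apply Subtype.ext
    show κ 1 * (x : G) * (κ 1)⁻¹ = x
    rw [map_one]; group
  mul_smul c d x := by
    apply Subtype.ext
    show κ (c * d) * (x : G) * (κ (c * d))⁻¹ = κ c * (κ d * x * (κ d)⁻¹) * (κ c)⁻¹
    rw [map_mul]; group
  smul_mul c x y := by
    apply Subtype.ext
    show κ c * ((x * y : Q) : G) * (κ c)⁻¹ = (κ c * x * (κ c)⁻¹) * (κ c * y * (κ c)⁻¹)
    rw [Subgroup.coe_mul]; group
  smul_one c := by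
    apply Subtype.ext
    show κ c * ((1 : Q) : G) * (κ c)⁻¹ = 1
    rw [Subgroup.coe_one]; group

/-- `θ` as an automorphism -/
noncomputable def thetaEquiv [Finite F] (_H : Good F θ e) : F ≃+* F :=
  RingEquiv.ofBijective θ (Finite.injective_iff_bijective.mp θ.injective)

theorem thetaEquiv_apply [Finite F] (H : Good F θ e) (x : F) : thetaEquiv H x = θ x := rfl

/-- the parametrisation of the torus by its action on the centre of the unipotent group -/
noncomputable def kap [Finite F] (H : Good F θ e) : Fˣ →* ↥(Cfsg.Lie.Sz F e) :=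
  (diag H).comp (Units.mapEquiv (thetaEquiv H : F ≃* F)).symm.toMonoidHom

theorem exists_kap [Finite F] (H : Good F θ e) (c : Fˣ) :
    ∃ k : Fˣ, kap H c = H.d k ∧ θ (k : F) = c ∧ θ (c : F) = (k : F) ^ 2 := by
  refine ⟨(Units.mapEquiv (thetaEquiv H : F ≃* F)).symm c, rfl, ?_, ?_⟩
  · have h := MulEquiv.apply_symm_apply (Units.mapEquiv (thetaEquiv H : F ≃* F)) c
    exact congrArg Units.val h
  · have h := MulEquiv.apply_symm_apply (Units.mapEquiv (thetaEquiv H : F ≃* F)) c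
    have h1 : θ (((Units.mapEquiv (thetaEquiv H : F ≃* F)).symm c : Fˣ) : F) = c :=
      congrArg Units.val h
    rw [← H.sq, h1]

theorem kap_conj [Finite F] (H : Good F θ e) (c : Fˣ) (a b : F) :
    kap H c * H.u a b * (kap H c)⁻¹ = H.u (a * θ c * (c : F)⁻¹) (b * c) := by
  obtain ⟨k, h1, h2, h3⟩ := exists_kap H c
  rw [h1, mul_inv_eq_iff_eq_mul, H.d_mul_u, h2, h3]

theorem kap_conj_mem [Finite F] (H : Good F θ e) (c : Fˣ) (x : ↥(Cfsg.Lie.Sz F e))
    (hx : x ∈ H.unip) : kap H c * x * (kap H c)⁻¹ ∈ H.unip := by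
  obtain ⟨a, b, rfl⟩ := (H.mem_unip_iff x).mp hx
  rw [kap_conj]
  exact H.u_mem_unip _ _

/-- the unipotent elements as elements of the unipotent subgroup -/
def uu (H : Good F θ e) (a b : F) : H.unip := ⟨H.u a b, H.u_mem_unip a b⟩

theorem uu_mul (H : Good F θ e) (a b c d : F) :
    uu H a b * uu H c d = uu H (a + c) (b + d + a * θ c) := Subtype.ext (H.u_mul a b c d)

theorem uu_zero (H : Good F θ e) : uu H 0 0 = 1 := Subtype.ext H.u_zero

theorem uu_inj (H : Good F θ e) {a b c d : F} (h : uu H a b = uu H c d) : a = c ∧ b = d :=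
  H.u_inj (congrArg Subtype.val h)

theorem exists_uu (H : Good F θ e) (x : H.unip) : ∃ a b, x = uu H a b := by
  obtain ⟨x, hx⟩ := x
  obtain ⟨a, b, rfl⟩ := (H.mem_unip_iff x).mp hx
  exact ⟨a, b, rfl⟩

/-- the action of the unit group on the unipotent group -/
@[reducible] noncomputable def act [Finite F] (H : Good F θ e) : MulDistribMulAction Fˣ H.unip :=
  conjAct H.unip (kap H) (kap_conj_mem H)

theorem act_smul [Finite F] (H : Good F θ e) (c : Fˣ) (a b : F) :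
    (letI := act H; c • uu H a b) = uu H (a * θ c * (c : F)⁻¹) (b * c) :=
  Subtype.ext (kap_conj H c a b)

theorem torus [Finite F] (H : Good F θ e) :
    letI := act H
    Torus (QuotientGroup.mk 1 : ↥(Cfsg.Lie.Sz F e) ⧸ H.borel) H.w H.unip F (kap H) (uu H 0) := by
  letI := act H
  refine ⟨?_, ?_, ?_, ⟨?_, ?_, ?_, ?_, ?_⟩⟩
  · intro c d hcd
    obtain ⟨k, h1, h2, -⟩ := exists_kap H c
    obtain ⟨l, h3, h4, -⟩ := exists_kap H d
    rw [h1, h3] at hcd
    have h5 := H.d_inj hcd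
    apply Units.ext
    rw [← h2, ← h4, h5]
  · intro g
    constructor
    · rintro ⟨h1, h2⟩
      rw [Subgroup.mem_inf, PSUModel.stab_one, PSUModel.mem_stab_smul] at h1
      obtain ⟨k, rfl⟩ := (mem_torus_iff H g).mpr h1
      refine ⟨(Units.mapEquiv (thetaEquiv H : F ≃* F)) k, ?_⟩
      show diag H ((Units.mapEquiv (thetaEquiv H : F ≃* F)).symm
        ((Units.mapEquiv (thetaEquiv H : F ≃* F)) k)) = diag H k
      rw [MulEquiv.symm_apply_apply]
    · rintro ⟨c, rfl⟩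
      obtain ⟨k, h1, h2, -⟩ := exists_kap H c
      rw [h1]
      refine ⟨Subgroup.mem_inf.mpr ⟨?_, ?_⟩, ?_⟩
      · rw [PSUModel.stab_one]
        exact H.d_mem_borel k
      · rw [PSUModel.mem_stab_smul, w_conj_d]
        exact H.d_mem_borel _
      · rw [H.w_inv]
        have := w_conj_d H k
        rw [H.w_inv] at this
        rw [this, H.d_inv]
  · intro c x
    rfl
  · intro a b
    rw [uu_mul, add_zero, zero_mul, add_zero]
  · intro a b h
    exact (uu_inj H h).2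
  · intro x
    obtain ⟨a, b, rfl⟩ := exists_uu H x
    rw [uu_mul, ← uu_zero H]
    constructor
    · intro h
      have h1 := (uu_inj H h).2
      rw [H.add_self, zero_add] at h1
      have h2 : a = 0 := by
        rcases mul_eq_zero.mp h1 with h3 | h3
        · exact h3
        · exact (map_eq_zero θ).mp h3
      exact ⟨b, by rw [h2]⟩
    · rintro ⟨c, hc⟩
      have h1 := (uu_inj H hc).1
      rw [← h1, H.add_self, H.add_self, zero_mul, add_zero]
  · intro c b
    rw [act_smul, zero_mul, zero_mul, mul_comm]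
  · intro b x
    obtain ⟨c, d, rfl⟩ := exists_uu H x
    rw [uu_mul, uu_mul, zero_add, add_zero, zero_mul, map_zero, mul_zero, add_comm b d]

theorem base [Finite F] (H : Good F θ e) :
    letI := act H
    Base (QuotientGroup.mk 1 : ↥(Cfsg.Lie.Sz F e) ⧸ H.borel) H.w H.unip F (kap H) (uu H 0)
      (uu H 1 0) := by
  letI := act H
  exact ⟨setup H, torus H, relation H⟩

theorem uu_one_sq (H : Good F θ e) : uu H 1 0 * uu H 1 0 = uu H 0 1 := by
  rw [uu_mul, H.add_self, add_zero, zero_add, map_one, mul_one]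

/-! ### Recognition -/

theorem fQ_eq_of_mem {G Ω : Type*} [Group G] [MulAction G Ω] {a : Ω} {t : G} {Q : Subgroup G}
    (hS : Cfsg.IsRankOneSetup G Ω a t Q) {x y : Q} (hx : x ≠ 1)
    (h : ∃ h ∈ stabilizer G a, t * (x : G) * t = h * t * y) : y = fQ hS x := by
  obtain ⟨h, hh, he⟩ := h
  have Fx := form hS hx
  have e1 : t * ((y : G) * ((fQ hS x : Q) : G)⁻¹) * t = h⁻¹ * ((gQ hS x : G) * hD hS x) := by
    have e2 : h * t * y = (gQ hS x : G) * hD hS x * t * (fQ hS x : Q) := by rw [← he, Fx.eq]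
    have e3 : t * ((y : G) * ((fQ hS x : Q) : G)⁻¹) = h⁻¹ * ((gQ hS x : G) * hD hS x) * t := by
      calc t * ((y : G) * ((fQ hS x : Q) : G)⁻¹) = h⁻¹ * (h * t * y) * ((fQ hS x : Q) : G)⁻¹ := by group
        _ = h⁻¹ * ((gQ hS x : G) * hD hS x * t * (fQ hS x : Q)) * ((fQ hS x : Q) : G)⁻¹ := by rw [e2]
        _ = _ := by group
    rw [e3, mul_assoc, hS.mul_self, mul_one]
  have e4 := Cfsg.Agent.LieRecognition.RankOneForm.eq_one_of_conj_mem hS
    (x := (y : G) * ((fQ hS x : Q) : G)⁻¹) (mul_mem y.2 (inv_mem (fQ hS x).2)) (by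
      rw [e1]
      exact mul_mem (inv_mem hh) (mul_mem (hS.le Fx.hg) (Subgroup.mem_inf.mp Fx.hh).1))
  exact Subtype.ext (mul_inv_eq_one.mp e4)

/-- An equivariant isomorphism of `Q` with the unipotent group, mapping `r` to `u(1,0)`, gives an
isomorphism of the rank-one group with the Suzuki group. -/
theorem nonempty_mulEquiv [Finite F] [CharP F 2] {G Ω : Type*} [Group G] [Finite G] [MulAction G Ω]
    [FaithfulSMul G Ω] {a : Ω} {t : G} {Q : Subgroup G} [MulDistribMulAction Fˣ Q] {κ : Fˣ →* G}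
    {δ : F → Q} {r : Q} (B : Base a t Q F κ δ r) (hr : r * r = δ 1)
    (hcard : Nat.card Q = Nat.card F ^ 2)
    (h2 : ∃ x y : G, x ≠ 1 ∧ y ≠ 1 ∧ x ≠ y ∧ x * x = 1 ∧ y * y = 1 ∧ x * y = y * x)
    (hgen : Subgroup.closure ((Q : Set G) ∪ {t}) = ⊤) (H : Good F θ e) (φ : Q ≃* H.unip)
    (hφr : φ r = uu H 1 0) (hφs : ∀ (c : Fˣ) (x : Q), φ (c • x) = (letI := act H; c • φ x)) :
    Nonempty (G ≃* ↥(Cfsg.Lie.Sz F e)) := by
  letI := act H
  haveI := faithful H
  have B' := base H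
  have T := B.torus
  have T' := B'.torus
  have hr' := uu_one_sq H
  have hφδ1 : φ (δ 1) = uu H 0 1 := by rw [← hr, map_mul, hφr, uu_one_sq]
  have hφδ : ∀ b : F, φ (δ b) = uu H 0 b := by
    intro b
    by_cases hb : b = 0
    · rw [hb, delta_zero T, map_one, uu_zero]
    · have h1 := smul_one_delta T (Units.mk0 b hb)
      have h3 := smul_one_delta T' (Units.mk0 b hb)
      rw [Units.val_mk0] at h1 h3
      rw [← h1, hφs, hφδ1, h3]
  have hne : ∀ {x : Q}, x ≠ 1 → φ x ≠ 1 := fun {x} hx h => hx (by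
    rw [← map_one φ] at h
    exact φ.injective h)
  -- `φ` commutes with `f`
  have hF : ∀ u : F, φ (FF B u) = FF B' u := by
    intro u
    by_cases hu : u = 0
    · rw [hu, B.FF_zero.1, B'.FF_zero.1, hφδ1]
    by_cases hu1 : u = 1
    · rw [hu1, (B.FF_one hr).1, (B'.FF_one hr').1, map_inv, hφr]
    have hv : u + 1 ≠ 0 := by
      intro h
      apply hu1
      have : u + 1 + 1 = 1 := by rw [h, zero_add]
      rw [add_assoc, CharTwo.add_self_eq_zero, add_zero] at this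
      exact this
    have huv : ((Units.mk0 (u + 1) hv : Fˣ) : F) = (Units.mk0 u hu : Fˣ) + 1 := rfl
    have e1 := B.FF_eq hr _ _ huv
    have e2 := B'.FF_eq hr' _ _ huv
    rw [Units.val_mk0] at e1 e2
    have e3 := B.mul_ne_one hr _ _ huv
    have e4 := congrArg φ e1
    rw [hφs, map_mul, map_mul, hφr, hφs, hφr] at e4
    -- transport back
    apply φ.symm.injective
    rw [MulEquiv.symm_apply_apply]
    have hφs' : ∀ (c : Fˣ) (x : H.unip), φ.symm (c • x) = c • φ.symm x := by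
      intro c x
      apply φ.injective
      rw [MulEquiv.apply_symm_apply, hφs, MulEquiv.apply_symm_apply]
    have e5 := congrArg φ.symm e2
    have hφr' : φ.symm (uu H 1 0) = r := by rw [← hφr, MulEquiv.symm_apply_apply]
    rw [hφs', map_mul, map_mul, hφr', hφs', hφr'] at e5
    exact unique_solution _ (fun x hx => (smul_fpf B h2 hx).resolve_left e3)
      (e1.trans (mul_assoc _ _ _)) (e5.trans (mul_assoc _ _ _))
  have hf : ∀ x : Q, x ≠ 1 → φ (fQ B.setup x) = fQ B'.setup (φ x) := by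
    intro x hx
    rcases B.cases_of_card hr hcard x with ⟨u, rfl⟩ | ⟨c, u, rfl⟩
    · have hu : u ≠ 0 := by
        rintro rfl
        exact hx (delta_zero T)
      obtain ⟨-, -, h3⟩ := form_iff B.setup (B.form_delta (Units.mk0 u hu))
      obtain ⟨-, -, h4⟩ := form_iff B'.setup (B'.form_delta (Units.mk0 u hu))
      rw [Units.val_mk0] at h3 h4
      rw [h3, hφδ, h4, hφs, hφr]
    · have h3 := (fQ_smul B.setup T (r_mul_delta_ne_one hr T u) c).1
      have h4 := (fQ_smul B'.setup T' (r_mul_delta_ne_one hr' T' u) c).1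
      rw [h3, hφs, hφs, map_mul, hφr, hφδ, h4]
      congr 1
      exact hF u
  obtain ⟨Φ, -, -⟩ := RankOneIso.exists_mulEquiv B.setup B'.setup hgen (generate H) φ (by
    intro x y hx hxy
    have hy := fQ_eq_of_mem B.setup hx hxy
    have F' := form B'.setup (hne hx)
    refine ⟨((gQ B'.setup (φ x) : H.unip) : ↥(Cfsg.Lie.Sz F e)) * hD B'.setup (φ x), ?_, ?_⟩
    · exact mul_mem (B'.setup.le F'.hg) (Subgroup.mem_inf.mp F'.hh).1
    · rw [hy, hf x hx]
      exact F'.eq)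
  exact ⟨Φ⟩

end Cfsg.Agent.SuzukiRankOne.SzModel
end
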