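import Mathlib
set_option linter.all false

set_option autoImplicit false

/-!
The relations of `SL₂(F)`, `F` a field of characteristic two: elements `e x`, `k c`, `t` of a group
satisfying them define a homomorphism from `SL₂(F)`.
-/

namespace Cfsg.Agent.SuzukiRankOne.SLTwoRel

open Matrix

variable {F : Type*} [Field F] {X Y : Type*} [Group X] [Group Y]

/-- The defining relations of `SL₂(F)` (characteristic two): root elements `e`, torus `k`, Weyl
element `t`. -/
structure Rel (e : F → X) (k : Fˣ →* X) (t : X) : Prop where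
  add : ∀ x y, e (x + y) = e x * e y
  conj : ∀ (c : Fˣ) (x : F), k c * e x * (k c)⁻¹ = e ((c : F) ^ 2 * x)
  tt : t * t = 1
  tk : ∀ c, t * k c * t = (k c)⁻¹
  te : ∀ c : Fˣ, t * e c * t = e ((c⁻¹ : Fˣ) : F) * k c⁻¹ * t * e ((c⁻¹ : Fˣ) : F)

section general

variable {e : F → X} {k : Fˣ →* X} {t : X}

theorem Rel.zero (R : Rel e k t) : e 0 = 1 := by
  have h := R.add 0 0
  rw [add_zero] at h
  exact (mul_eq_left.mp h.symm)

theorem Rel.t_inv (R : Rel e k t) : t⁻¹ = t := inv_eq_of_mul_eq_one_right R.tt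

theorem Rel.mul_self [CharP F 2] (R : Rel e k t) (x : F) : e x * e x = 1 := by
  rw [← R.add, CharTwo.add_self_eq_zero, R.zero]

theorem Rel.inv [CharP F 2] (R : Rel e k t) (x : F) : (e x)⁻¹ = e x :=
  inv_eq_of_mul_eq_one_right (R.mul_self x)

theorem Rel.ke (R : Rel e k t) (c : Fˣ) (x : F) : k c * e x = e ((c : F) ^ 2 * x) * k c := by
  rw [← R.conj]; group

theorem Rel.ek (R : Rel e k t) (c : Fˣ) (x : F) :
    e x * k c = k c * e (((c⁻¹ : Fˣ) : F) ^ 2 * x) := by
  rw [R.ke, ← mul_assoc, ← mul_pow, ← Units.val_mul, mul_inv_cancel, Units.val_one, one_pow, one_mul]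

theorem Rel.tk' (R : Rel e k t) (c : Fˣ) : t * k c = k c⁻¹ * t := by
  have h := R.tk c
  rw [map_inv, ← h, mul_assoc (t * k c), R.tt, mul_one]

theorem Rel.kt (R : Rel e k t) (c : Fˣ) : k c * t = t * k c⁻¹ := by
  rw [R.tk', inv_inv]

/-- The normal form. -/
def NF (e : F → X) (k : Fˣ →* X) (t : X) (m : X) : Prop :=
  (∃ x c, m = e x * k c) ∨ (∃ x c y, m = e x * k c * t * e y)

theorem Rel.nf_e (R : Rel e k t) (z : F) {m : X} (h : NF e k t m) : NF e k t (e z * m) := by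
  rcases h with ⟨x, c, rfl⟩ | ⟨x, c, y, rfl⟩
  · exact Or.inl ⟨z + x, c, by rw [R.add, mul_assoc]⟩
  · exact Or.inr ⟨z + x, c, y, by rw [R.add]; simp only [mul_assoc]⟩

theorem Rel.nf_k (R : Rel e k t) (d : Fˣ) {m : X} (h : NF e k t m) : NF e k t (k d * m) := by
  rcases h with ⟨x, c, rfl⟩ | ⟨x, c, y, rfl⟩
  · exact Or.inl ⟨_, d * c, by rw [← mul_assoc, R.ke, mul_assoc, ← map_mul]⟩
  · exact Or.inr ⟨_, d * c, y, by
      rw [← mul_assoc, ← mul_assoc, ← mul_assoc, R.ke, mul_assoc (e _) (k d), ← map_mul]⟩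

theorem Rel.nf_tk (R : Rel e k t) (x : F) (c : Fˣ) : NF e k t (t * (e x * k c)) := by
  refine Or.inr ⟨0, c⁻¹, ((c⁻¹ : Fˣ) : F) ^ 2 * x, ?_⟩
  rw [R.ek, ← mul_assoc, R.tk', R.zero, one_mul]

theorem Rel.nf_t (R : Rel e k t) {m : X} (h : NF e k t m) : NF e k t (t * m) := by
  rcases h with ⟨x, c, rfl⟩ | ⟨x, c, y, rfl⟩
  · exact R.nf_tk x c
  · have h1 : t * (e x * k c * t * e y) = (t * e x * t) * (k c⁻¹ * e y) := by
      rw [mul_assoc (e x), R.kt]; simp only [mul_assoc]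
    rw [h1]
    have h2 : NF e k t (k c⁻¹ * e y) := R.nf_k _ (Or.inl ⟨y, 1, by rw [map_one, mul_one]⟩)
    by_cases hx : x = 0
    · subst hx
      rw [R.zero, mul_one, R.tt, one_mul]
      exact h2
    · obtain ⟨u, rfl⟩ : ∃ u : Fˣ, (u : F) = x := ⟨Units.mk0 x hx, rfl⟩
      rw [R.te, mul_assoc, mul_assoc, mul_assoc]
      apply R.nf_e
      apply R.nf_k
      rw [R.ke, ← mul_assoc (e _) (e _), ← R.add]
      exact R.nf_tk _ _

theorem Rel.nf_closure [CharP F 2] (R : Rel e k t) {m : X}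
    (hm : m ∈ Subgroup.closure (Set.range e ∪ Set.range k ∪ {t})) : NF e k t m := by
  induction hm using Subgroup.closure_induction_left with
  | one => exact Or.inl ⟨0, 1, by rw [R.zero, map_one, one_mul]⟩
  | mul_left x hx y hy ih =>
    rcases hx with (⟨z, rfl⟩ | ⟨c, rfl⟩) | hx
    · exact R.nf_e z ih
    · exact R.nf_k c ih
    · rw [Set.mem_singleton_iff] at hx
      subst hx
      exact R.nf_t ih
  | inv_mul_cancel x hx y hy ih =>
    rcases hx with (⟨z, rfl⟩ | ⟨c, rfl⟩) | hx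
    · rw [R.inv]
      exact R.nf_e z ih
    · rw [← map_inv]
      exact R.nf_k c⁻¹ ih
    · rw [Set.mem_singleton_iff] at hx
      subst hx
      rw [R.t_inv]
      exact R.nf_t ih

theorem Rel.prod {e' : F → Y} {k' : Fˣ →* Y} {t' : Y} (R : Rel e k t) (R' : Rel e' k' t') :
    Rel (fun x => (e x, e' x)) (k.prod k') (t, t') where
  add x y := by rw [R.add, R'.add]; rfl
  conj c x := Prod.ext (R.conj c x) (R'.conj c x)
  tt := Prod.ext R.tt R'.tt
  tk c := Prod.ext (R.tk c) (R'.tk c)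
  te c := Prod.ext (R.te c) (R'.te c)

end general

section model

/-- The matrix of an element of `SL₂(F)`. -/
def mat (A : SpecialLinearGroup (Fin 2) F) : Matrix (Fin 2) (Fin 2) F := A

theorem mat_ext {A B : SpecialLinearGroup (Fin 2) F} (h : mat A = mat B) : A = B :=
  Subtype.ext h

theorem mat_mul (A B : SpecialLinearGroup (Fin 2) F) : mat (A * B) = mat A * mat B := rfl

theorem mat_one : mat (1 : SpecialLinearGroup (Fin 2) F) = !![1, 0; 0, 1] := Matrix.one_fin_two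

/-- Constructor from four entries. -/
def mk (a b c d : F) (h : a * d - b * c = 1) : SpecialLinearGroup (Fin 2) F :=
  ⟨!![a, b; c, d], by rw [Matrix.det_fin_two_of, h]⟩

theorem mat_mk (a b c d : F) (h : a * d - b * c = 1) : mat (mk a b c d h) = !![a, b; c, d] := rfl

theorem exists_mk (A : SpecialLinearGroup (Fin 2) F) : ∃ a b c d h, A = mk a b c d h := by
  refine ⟨A.1 0 0, A.1 0 1, A.1 1 0, A.1 1 1, ?_, ?_⟩
  · rw [← Matrix.det_fin_two]
    exact A.2
  · apply mat_ext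
    rw [mat_mk]
    exact Matrix.eta_fin_two _

/-- The root element. -/
def U (x : F) : SpecialLinearGroup (Fin 2) F := mk 1 x 0 1 (by ring)

theorem U_mat (x : F) : mat (U x) = !![1, x; 0, 1] := rfl

/-- The torus. -/
def Dg : Fˣ →* SpecialLinearGroup (Fin 2) F where
  toFun c := mk (c : F) 0 0 ((c⁻¹ : Fˣ) : F) (by
    rw [← Units.val_mul, mul_inv_cancel, Units.val_one]; ring)
  map_one' := by
    apply mat_ext
    rw [mat_mk, mat_one, inv_one, Units.val_one]
  map_mul' c d := by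
    apply mat_ext
    rw [mat_mul, mat_mk, mat_mk, mat_mk, Matrix.mul_fin_two]
    simp [mul_comm]

theorem Dg_mat (c : Fˣ) : mat (Dg c) = !![(c : F), 0; 0, ((c⁻¹ : Fˣ) : F)] := rfl

variable [CharP F 2]

/-- The Weyl element. -/
def Tm (F : Type*) [Field F] [CharP F 2] : SpecialLinearGroup (Fin 2) F :=
  mk 0 1 1 0 (by rw [mul_zero, mul_one, zero_sub, CharTwo.neg_eq])

theorem Tm_mat : mat (Tm F) = !![0, 1; 1, 0] := rfl

omit [CharP F 2] in
theorem U_mul_Dg (x : F) (c : Fˣ) :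
    mat (U x * Dg c) = !![(c : F), x * ((c⁻¹ : Fˣ) : F); 0, ((c⁻¹ : Fˣ) : F)] := by
  rw [mat_mul, U_mat, Dg_mat, Matrix.mul_fin_two]
  simp

theorem U_Dg_Tm_U (x : F) (c : Fˣ) (y : F) :
    mat (U x * Dg c * Tm F * U y) =
      !![x * ((c⁻¹ : Fˣ) : F), (c : F) + x * ((c⁻¹ : Fˣ) : F) * y;
      ((c⁻¹ : Fˣ) : F), ((c⁻¹ : Fˣ) : F) * y] := by
  rw [mat_mul, mat_mul, U_mul_Dg, Tm_mat, U_mat, Matrix.mul_fin_two, Matrix.mul_fin_two]
  simp [add_comm]

theorem rel_model : Rel (U : F → SpecialLinearGroup (Fin 2) F) Dg (Tm F) where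
  add x y := by
    apply mat_ext
    rw [mat_mul, U_mat, U_mat, U_mat, Matrix.mul_fin_two]
    simp [add_comm]
  conj c x := by
    rw [mul_inv_eq_iff_eq_mul]
    apply mat_ext
    rw [U_mul_Dg, mat_mul, U_mat, Dg_mat, Matrix.mul_fin_two]
    have h : (c : F) ≠ 0 := c.ne_zero
    simp only [Units.val_inv_eq_inv_val]
    field_simp
    simp
  tt := by
    apply mat_ext
    rw [mat_mul, Tm_mat, Matrix.mul_fin_two, mat_one]
    simp
  tk c := by
    apply mat_ext
    rw [mat_mul, mat_mul, ← map_inv, Tm_mat, Dg_mat, Dg_mat, Matrix.mul_fin_two,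
      Matrix.mul_fin_two]
    simp
  te c := by
    apply mat_ext
    have h : (c : F) ≠ 0 := c.ne_zero
    rw [U_Dg_Tm_U, mat_mul, mat_mul, Tm_mat, U_mat, Matrix.mul_fin_two, Matrix.mul_fin_two]
    simp [h, CharTwo.add_self_eq_zero]

theorem exists_form (A : SpecialLinearGroup (Fin 2) F) :
    (∃ x c, A = U x * Dg c) ∨ (∃ x c y, A = U x * Dg c * Tm F * U y) := by
  obtain ⟨p, q, r, s, h, rfl⟩ := exists_mk A
  by_cases hr : r = 0
  · subst hr
    rw [mul_zero, sub_zero] at h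
    refine Or.inl ⟨q * p, ⟨p, s, h, by rw [mul_comm]; exact h⟩, mat_ext ?_⟩
    rw [U_mul_Dg, mat_mk]
    show _ = !![p, q * p * s; 0, s]
    rw [mul_assoc, h, mul_one]
  · refine Or.inr ⟨p * r⁻¹, (Units.mk0 r hr)⁻¹, s * r⁻¹, mat_ext ?_⟩
    rw [U_Dg_Tm_U, mat_mk]
    simp only [inv_inv, Units.val_inv_eq_inv_val, Units.val_mk0]
    have h1 : p * r⁻¹ * r = p := by field_simp
    have h2 : r * (s * r⁻¹) = s := by field_simp
    have h3 : q = r⁻¹ + p * r⁻¹ * r * (s * r⁻¹) := by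
      rw [h1]
      field_simp
      have h4 : p * s + q * r = 1 := by rw [← h, CharTwo.sub_eq_add]
      have h5 : p * s + p * s = 0 := CharTwo.add_self_eq_zero _
      linear_combination h4 - h5
    rw [← h3, h1, h2]

end model

/-- The homomorphism from `SL₂(F)` defined by elements satisfying the relations. -/
theorem Rel.exists_hom [CharP F 2] {e : F → X} {k : Fˣ →* X} {t : X} (R : Rel e k t) :
    ∃ θ : SpecialLinearGroup (Fin 2) F →* X,
      (∀ x, θ (U x) = e x) ∧ (∀ c, θ (Dg c) = k c) ∧ θ (Tm F) = t := by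
  have RP := R.prod (rel_model (F := F))
  set M : Subgroup (X × SpecialLinearGroup (Fin 2) F) :=
    Subgroup.closure (Set.range (fun x => (e x, U x)) ∪ Set.range (k.prod Dg) ∪ {(t, Tm F)}) with hM
  have he : ∀ x, (e x, U x) ∈ M := fun x => Subgroup.subset_closure (Or.inl (Or.inl ⟨x, rfl⟩))
  have hk : ∀ c, (k c, Dg c) ∈ M := fun c => Subgroup.subset_closure (Or.inl (Or.inr ⟨c, rfl⟩))
  have ht : (t, Tm F) ∈ M := Subgroup.subset_closure (Or.inr rfl)
  -- surjectivity of the second projection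
  have hsurj : ∀ A : SpecialLinearGroup (Fin 2) F, ∃ g, (g, A) ∈ M := by
    intro A
    rcases exists_form A with ⟨x, c, rfl⟩ | ⟨x, c, y, rfl⟩
    · exact ⟨_, M.mul_mem (he x) (hk c)⟩
    · exact ⟨_, M.mul_mem (M.mul_mem (M.mul_mem (he x) (hk c)) ht) (he y)⟩
  -- injectivity
  have hinj : ∀ g : X, (g, (1 : SpecialLinearGroup (Fin 2) F)) ∈ M → g = 1 := by
    intro g hg
    rcases RP.nf_closure hg with ⟨x, c, h⟩ | ⟨x, c, y, h⟩
    · have h1 : g = e x * k c := congrArg Prod.fst h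
      have h2 : (1 : SpecialLinearGroup (Fin 2) F) = U x * Dg c := congrArg Prod.snd h
      have h3 := congrArg mat h2
      rw [mat_one, U_mul_Dg] at h3
      have h4 : (1 : F) = (c : F) := congrFun (congrFun h3 0) 0
      have h5 : (0 : F) = x * ((c⁻¹ : Fˣ) : F) := congrFun (congrFun h3 0) 1
      have h6 : c = 1 := Units.ext h4.symm
      subst h6
      rw [inv_one, Units.val_one, mul_one] at h5
      rw [h1, ← h5, R.zero, map_one, one_mul]
    · have h2 : (1 : SpecialLinearGroup (Fin 2) F) = U x * Dg c * Tm F * U y :=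
        congrArg Prod.snd h
      have h3 := congrArg mat h2
      rw [mat_one, U_Dg_Tm_U] at h3
      have h4 : (0 : F) = ((c⁻¹ : Fˣ) : F) := congrFun (congrFun h3 1) 0
      exact absurd h4.symm (Units.ne_zero _)
  let p2 : M →* SpecialLinearGroup (Fin 2) F := (MonoidHom.snd X _).comp M.subtype
  have hbij : Function.Bijective p2 := by
    constructor
    · rw [injective_iff_map_eq_one]
      rintro ⟨⟨g, A⟩, hgA⟩ h
      have h1 : A = 1 := h
      subst h1
      have h2 := hinj g hgA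
      subst h2
      rfl
    · intro A
      obtain ⟨g, hg⟩ := hsurj A
      exact ⟨⟨(g, A), hg⟩, rfl⟩
  let E : M ≃* SpecialLinearGroup (Fin 2) F := MulEquiv.ofBijective p2 hbij
  have hE : ∀ g A (h : (g, A) ∈ M), ((E.symm A : M) : X × SpecialLinearGroup (Fin 2) F).1 = g := by
    intro g A h
    have h1 : E ⟨(g, A), h⟩ = A := rfl
    have h2 : E.symm A = ⟨(g, A), h⟩ := by rw [MulEquiv.symm_apply_eq, h1]
    rw [h2]
  refine ⟨((MonoidHom.fst X _).comp M.subtype).comp E.symm.toMonoidHom, ?_, ?_, ?_⟩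
  · intro x
    exact hE _ _ (he x)
  · intro c
    exact hE _ _ (hk c)
  · exact hE _ _ ht

end Cfsg.Agent.SuzukiRankOne.SLTwoRel
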