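import Mathlib
import Cfsg.Prelude.Def_LieRecognition
import Cfsg.Agent.SuzukiRankOne.SLTwoRel
import Cfsg.Agent.SuzukiRankOne.SingerField
import Cfsg.Agent.LieRecognition.RankOneBasic
import Cfsg.Agent.S1128
import Cfsg.Agent.LieClassical.SmallIso
import Cfsg.Agent.LieRecognition.HigmanTypeA
import Cfsg.Agent.LieRecognition.SuzukiField
import Cfsg.Agent.SuzukiRankOne.SzModel
import Cfsg.Agent.SuzukiRankOne.Reduction
import Cfsg.Agent.S1130
set_option linter.all false

-- part: SuzukiRankOne/UThreeReg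
section
set_option autoImplicit false

/-!
The rank one set-up with `t s t = s t s`: the subgroup `L₀ = ⟨E, K, t⟩` is an image of `SL₂(F)`,
preserves the block `Δ = {a} ∪ E t a` and acts semiregularly outside `Δ`.
-/

namespace Cfsg.Agent.SuzukiRankOne.UThreeReg

open MulAction Matrix SLTwoRel SingerField
open Cfsg.Agent.LieRecognition

variable {G Ω : Type*} [Group G] [MulAction G Ω] {a : Ω} {t : G} {Q : Subgroup G}
  {F : Type} [Field F] {e : F → G} {k : Fˣ →* G}

/-- The data of the subgroup `L₀`: root elements `e x` (the elements of `Q` of order dividing two),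
torus elements `k c` (the elements of `D` inverted by `t`), with the relations of `SL₂(F)`. -/
structure Blk (a : Ω) (t : G) (Q : Subgroup G) (e : F → G) (k : Fˣ →* G) : Prop where
  rel : Rel e k t
  memQ : ∀ x, e x ∈ Q
  e_inj : Function.Injective e
  k_inj : Function.Injective k
  k_iff : ∀ g : G, g ∈ Cfsg.invertedBy (stabilizer G a ⊓ stabilizer G (t • a)) t ↔ ∃ c, k c = g
  central : ∀ x, ∀ q ∈ Q, e x * q = q * e x
  inv_mem : ∀ q ∈ Q, q * q = 1 → ∃ x, e x = q

/-- The block `Δ = {a} ∪ E t a`. -/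
def Del (a : Ω) (t : G) (e : F → G) : Set Ω := {ω | ω = a ∨ ∃ x, ω = e x • t • a}

theorem Blk.k_mem (B : Blk a t Q e k) (c : Fˣ) :
    k c ∈ stabilizer G a ⊓ stabilizer G (t • a) := ((B.k_iff _).2 ⟨c, rfl⟩).1

theorem Blk.k_a (B : Blk a t Q e k) (c : Fˣ) : k c • a = a := (B.k_mem c).1

theorem Blk.k_ta (B : Blk a t Q e k) (c : Fˣ) : k c • t • a = t • a := (B.k_mem c).2

theorem Blk.e_a (hS : Cfsg.IsRankOneSetup G Ω a t Q) (B : Blk a t Q e k) (x : F) : e x • a = a :=
  hS.le (B.memQ x)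

theorem tta (hS : Cfsg.IsRankOneSetup G Ω a t Q) : t • t • a = a := RankOneBasic.t_smul_t_smul hS a

theorem Blk.e_del (hS : Cfsg.IsRankOneSetup G Ω a t Q) (B : Blk a t Q e k) (x : F) {ω : Ω}
    (h : ω ∈ Del a t e) : e x • ω ∈ Del a t e := by
  rcases h with rfl | ⟨y, rfl⟩
  · exact Or.inl (B.e_a hS x)
  · exact Or.inr ⟨x + y, by rw [B.rel.add, mul_smul]⟩

theorem Blk.k_del (B : Blk a t Q e k) (c : Fˣ) {ω : Ω} (h : ω ∈ Del a t e) :
    k c • ω ∈ Del a t e := by
  rcases h with rfl | ⟨y, rfl⟩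
  · exact Or.inl (B.k_a c)
  · refine Or.inr ⟨(c : F) ^ 2 * y, ?_⟩
    rw [smul_smul, B.rel.ke, mul_smul, B.k_ta]

theorem Blk.t_del (hS : Cfsg.IsRankOneSetup G Ω a t Q) (B : Blk a t Q e k) {ω : Ω}
    (h : ω ∈ Del a t e) : t • ω ∈ Del a t e := by
  rcases h with rfl | ⟨y, rfl⟩
  · exact Or.inr ⟨0, by rw [B.rel.zero, one_smul]⟩
  · by_cases hy : y = 0
    · subst hy
      left
      rw [B.rel.zero, one_smul, tta hS]
    · obtain ⟨u, rfl⟩ : ∃ u : Fˣ, (u : F) = y := ⟨Units.mk0 y hy, rfl⟩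
      right
      refine ⟨((u⁻¹ : Fˣ) : F), ?_⟩
      rw [smul_smul, smul_smul, B.rel.te, mul_smul, B.e_a hS, mul_smul, mul_smul, B.k_ta]

theorem Blk.theta_del [CharP F 2] (hS : Cfsg.IsRankOneSetup G Ω a t Q) (B : Blk a t Q e k)
    {θ : SpecialLinearGroup (Fin 2) F →* G} (h1 : ∀ x, θ (U x) = e x) (h2 : ∀ c, θ (Dg c) = k c)
    (h3 : θ (Tm F) = t) (A : SpecialLinearGroup (Fin 2) F) {ω : Ω}
    (h : ω ∈ Del a t e) : θ A • ω ∈ Del a t e := by
  rcases exists_form A with ⟨x, c, rfl⟩ | ⟨x, c, y, rfl⟩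
  · rw [map_mul, h1, h2, mul_smul]
    exact B.e_del hS _ (B.k_del _ h)
  · rw [map_mul, map_mul, map_mul, h1, h2, h3, h1, mul_smul, mul_smul, mul_smul]
    exact B.e_del hS _ (B.k_del _ (B.t_del hS (B.e_del hS _ h)))

theorem Blk.theta_del_iff [CharP F 2] (hS : Cfsg.IsRankOneSetup G Ω a t Q) (B : Blk a t Q e k)
    {θ : SpecialLinearGroup (Fin 2) F →* G} (h1 : ∀ x, θ (U x) = e x) (h2 : ∀ c, θ (Dg c) = k c)
    (h3 : θ (Tm F) = t) (A : SpecialLinearGroup (Fin 2) F) {ω : Ω} :
    θ A • ω ∈ Del a t e ↔ ω ∈ Del a t e := by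
  refine ⟨fun h => ?_, B.theta_del hS h1 h2 h3 A⟩
  have h4 := B.theta_del hS h1 h2 h3 A⁻¹ h
  rwa [map_inv, inv_smul_smul] at h4

omit [Field F] in
theorem a_mem (a : Ω) (t : G) (e : F → G) : a ∈ Del a t e := Or.inl rfl

theorem Blk.ta_mem (B : Blk a t Q e k) : t • a ∈ Del a t e :=
  Or.inr ⟨0, by rw [B.rel.zero, one_smul]⟩

omit [Field F] in
theorem e_mem (a : Ω) (t : G) (e : F → G) (x : F) : e x • t • a ∈ Del a t e := Or.inr ⟨x, rfl⟩

/-- Nontrivial torus elements fix only the two points `a` and `t a`. -/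
theorem Blk.k_fix [Finite G] [FaithfulSMul G Ω] (hS : Cfsg.IsRankOneSetup G Ω a t Q)
    (h2 : ∃ x y : G, x ≠ 1 ∧ y ≠ 1 ∧ x ≠ y ∧ x * x = 1 ∧ y * y = 1 ∧ x * y = y * x)
    (B : Blk a t Q e k) {c : Fˣ} {ω : Ω} (ha : ω ≠ a) (hta : ω ≠ t • a) (h : k c • ω = ω) :
    c = 1 := by
  by_contra hc
  have hk1 : k c ≠ 1 := fun h => hc (B.k_inj (by rw [h, map_one]))
  obtain ⟨q, hq, rfl⟩ := RankOneBasic.exists_smul_t_smul hS ha
  have h1 : (k c * q * (k c)⁻¹) • t • a = q • t • a := by
    rw [mul_smul, mul_smul, show (k c)⁻¹ • t • a = t • a from by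
      rw [inv_smul_eq_iff, B.k_ta], h]
  have h3 := RankOneBasic.eq_of_smul_eq_smul hS (hS.conj_mem _ (B.k_mem c).1 q hq) hq
    (RankOneBasic.t_smul_ne hS) h1
  have h4 : q ∈ Q ⊓ Subgroup.centralizer {k c} := by
    refine ⟨hq, ?_⟩
    show q ∈ Subgroup.centralizer {k c}
    rw [Subgroup.mem_centralizer_singleton_iff]
    exact (mul_inv_eq_iff_eq_mul.mp h3).symm
  rw [Cfsg.Agent.S1128.result hS h2 (k c) ((B.k_iff _).2 ⟨c, rfl⟩) hk1, Subgroup.mem_bot] at h4
  subst h4
  exact hta (one_smul _ _)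

theorem exists_sq [Finite F] [CharP F 2] (c : Fˣ) : ∃ d : Fˣ, d * d = c := by
  obtain ⟨d, hd⟩ := (FiniteField.isSquare_of_char_two (F := F) (ringChar.eq_iff.2 inferInstance)
    (c : F))
  have hd0 : d ≠ 0 := by
    rintro rfl
    exact c.ne_zero (by rw [hd, mul_zero])
  exact ⟨Units.mk0 d hd0, Units.ext hd.symm⟩

theorem Blk.k_sq (B : Blk a t Q e k) (d : Fˣ) : k d * t * (k d)⁻¹ = k (d * d) * t := by
  rw [← map_inv, mul_assoc, B.rel.tk', inv_inv, ← mul_assoc, ← map_mul]

/-- An element `g` fixing `ω`, inverted by an involution `u` moving `ω`, is conjugate to an element of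
the torus. -/
theorem Blk.conj_k [Finite F] [CharP F 2] (hS : Cfsg.IsRankOneSetup G Ω a t Q)
    (B : Blk a t Q e k) {g u : G} {ω : Ω} (hu : u * u = 1) (huω : u • ω ≠ ω) (hg : g • ω = ω)
    (hgu : u * g * u = g⁻¹) :
    ∃ (h : G) (c : Fˣ), h * g * h⁻¹ = k c ∧ h • ω = a ∧ h • u • ω = t • a := by
  obtain ⟨h0, h0a, h0b⟩ := RankOneBasic.exists_smul_pair hS huω.symm (RankOneBasic.t_smul_ne hS).symm
  have huu : ∀ x : Ω, u • u • x = x := fun x => by rw [smul_smul, hu, one_smul]
  have huinv : u⁻¹ = u := inv_eq_of_mul_eq_one_right hu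
  obtain ⟨u1, hu1⟩ : ∃ u1, u1 = h0 * u * h0⁻¹ := ⟨_, rfl⟩
  have hu11 : u1 * u1 = 1 := by
    rw [hu1, show h0 * u * h0⁻¹ * (h0 * u * h0⁻¹) = h0 * (u * u) * h0⁻¹ by group, hu]
    group
  have hu1a : u1 • a = t • a := by
    rw [hu1, mul_smul, mul_smul, ← h0b, ← h0a, inv_smul_smul]
  have hu1ta : u1 • t • a = a := by
    rw [← hu1a, smul_smul, hu11, one_smul]
  have hd : u1 * t ∈ Cfsg.invertedBy (stabilizer G a ⊓ stabilizer G (t • a)) t := by
    refine ⟨⟨?_, ?_⟩, ?_⟩
    · show (u1 * t) • a = a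
      rw [mul_smul, hu1ta]
    · show (u1 * t) • t • a = t • a
      rw [mul_smul, tta hS, hu1a]
    · rw [RankOneBasic.t_inv hS, eq_inv_iff_mul_eq_one]
      have htt := B.rel.tt
      calc t * (u1 * t) * t * (u1 * t) = t * u1 * (t * t) * u1 * t := by group
        _ = t * (u1 * u1) * t := by rw [htt]; group
        _ = 1 := by rw [hu11, mul_one, htt]
  obtain ⟨c1, hc1⟩ := (B.k_iff _).1 hd
  obtain ⟨d1, rfl⟩ := exists_sq c1
  have hu1' : u1 = k d1 * t * (k d1)⁻¹ := by
    rw [B.k_sq, hc1, mul_assoc, B.rel.tt, mul_one]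
  obtain ⟨h, hh⟩ : ∃ h, h = (k d1)⁻¹ * h0 := ⟨_, rfl⟩
  have hhu : h * u * h⁻¹ = t := by
    rw [hh, show (k d1)⁻¹ * h0 * u * ((k d1)⁻¹ * h0)⁻¹ = (k d1)⁻¹ * (h0 * u * h0⁻¹) * k d1 by group,
      ← hu1, hu1']
    group
  have hha : h • ω = a := by
    rw [hh, mul_smul, h0a, inv_smul_eq_iff, B.k_a]
  have hhb : h • u • ω = t • a := by
    rw [hh, mul_smul, h0b, inv_smul_eq_iff, B.k_ta]
  have hg1 : h * g * h⁻¹ ∈ Cfsg.invertedBy (stabilizer G a ⊓ stabilizer G (t • a)) t := by
    refine ⟨⟨?_, ?_⟩, ?_⟩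
    · show (h * g * h⁻¹) • a = a
      rw [mul_smul, mul_smul, ← hha, inv_smul_smul, hg]
    · show (h * g * h⁻¹) • t • a = t • a
      have h5 : g • u • ω = u • ω := by
        have h6 : g * u = u * g⁻¹ := by rw [← hgu, ← mul_assoc, ← mul_assoc, hu, one_mul]
        rw [smul_smul, h6, mul_smul]
        congr 1
        rw [inv_smul_eq_iff, hg]
      rw [mul_smul, mul_smul, ← hhb, inv_smul_smul, h5]
    · rw [RankOneBasic.t_inv hS]
      have h7 : t * (h * g * h⁻¹) * t = h * (u * g * u) * h⁻¹ := by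
        rw [← hhu]; group
      rw [h7, hgu]; group
  obtain ⟨c, hc⟩ := (B.k_iff _).1 hg1
  exact ⟨h, c, hc.symm, hha, hhb⟩

/-- `e x k c` fixes no point outside `Δ` unless trivial. -/
theorem Blk.semireg_one [Finite G] [FaithfulSMul G Ω] [CharP F 2]
    (hS : Cfsg.IsRankOneSetup G Ω a t Q)
    (h2 : ∃ x y : G, x ≠ 1 ∧ y ≠ 1 ∧ x ≠ y ∧ x * x = 1 ∧ y * y = 1 ∧ x * y = y * x)
    (B : Blk a t Q e k) {x : F} {c : Fˣ} {ω : Ω} (hω : ω ∉ Del a t e)
    (h : (e x * k c) • ω = ω) : x = 0 ∧ c = 1 := by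
  have hωa : ω ≠ a := fun h => hω (Or.inl h)
  by_cases hc : c = 1
  · subst hc
    rw [map_one, mul_one] at h
    have h1 := RankOneBasic.eq_one_of_smul_eq hS (B.memQ x) hωa h
    exact ⟨B.e_inj (by rw [h1, B.rel.zero]), rfl⟩
  · exfalso
    -- conjugate to `k c`
    have hc1 : (1 : F) + (c : F) ^ 2 ≠ 0 := by
      intro h1
      apply hc
      apply Units.ext
      have h3 : (1 + (c : F)) ^ 2 = 0 := by
        rw [← h1, CharTwo.add_sq, one_pow]
      have h4 : (1 : F) + c = 0 := by simpa using h3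
      rw [CharTwo.add_eq_zero] at h4
      exact h4.symm
    obtain ⟨y, hy⟩ : ∃ y, y * (1 + (c : F) ^ 2) = x := ⟨x / (1 + (c : F) ^ 2), by field_simp⟩
    have h3 : e y * k c * (e y)⁻¹ = e x * k c := by
      rw [B.rel.inv, mul_assoc, B.rel.ke, ← mul_assoc, ← B.rel.add, ← hy]
      ring_nf
    have h4 : k c • ((e y)⁻¹ • ω) = (e y)⁻¹ • ω := by
      rw [← h3] at h
      rw [eq_inv_smul_iff, smul_smul, smul_smul, h]
    have hω' : (e y)⁻¹ • ω ∉ Del a t e := by
      intro h5
      have h6 := B.e_del hS y h5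
      rw [smul_inv_smul] at h6
      exact hω h6
    refine hc (B.k_fix hS h2 (fun h5 => hω' ?_) (fun h5 => hω' ?_) h4)
    · rw [h5]; exact a_mem a t e
    · rw [h5]; exact B.ta_mem

theorem Blk.card_del [Finite F] (hS : Cfsg.IsRankOneSetup G Ω a t Q) (B : Blk a t Q e k) :
    Nat.card (Del a t e) = Nat.card F + 1 := by
  classical
  rw [← Finite.card_option]
  symm
  refine Nat.card_congr (Equiv.ofBijective
    (fun o : Option F => (⟨o.elim a (fun x => e x • t • a), ?_⟩ : Del a t e)) ⟨?_, ?_⟩)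
  · rcases o with _ | x
    · exact Or.inl rfl
    · exact Or.inr ⟨x, rfl⟩
  · rintro (_ | x) (_ | y) h
    · rfl
    · exfalso
      have h1 : a = e y • t • a := congrArg Subtype.val h
      exact RankOneBasic.smul_ne_of_mem (hS.le (B.memQ y)) (RankOneBasic.t_smul_ne hS) h1.symm
    · exfalso
      have h1 : e x • t • a = a := congrArg Subtype.val h
      exact RankOneBasic.smul_ne_of_mem (hS.le (B.memQ x)) (RankOneBasic.t_smul_ne hS) h1
    · have h1 : e x • t • a = e y • t • a := congrArg Subtype.val h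
      have h2 := RankOneBasic.eq_of_smul_eq_smul hS (B.memQ x) (B.memQ y)
        (RankOneBasic.t_smul_ne hS) h1
      rw [B.e_inj h2]
  · rintro ⟨ω, rfl | ⟨x, rfl⟩⟩
    · exact ⟨none, rfl⟩
    · exact ⟨some x, rfl⟩

/-- The subgroup `θ(SL₂(F))` acts semiregularly outside `Δ`. -/
theorem Blk.semireg [Finite G] [FaithfulSMul G Ω] [Finite F] [CharP F 2]
    (hS : Cfsg.IsRankOneSetup G Ω a t Q)
    (h2 : ∃ x y : G, x ≠ 1 ∧ y ≠ 1 ∧ x ≠ y ∧ x * x = 1 ∧ y * y = 1 ∧ x * y = y * x)
    (B : Blk a t Q e k) (hrs : t • e 1 • t • a = e 1 • t • a)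
    {θ : SpecialLinearGroup (Fin 2) F →* G} (h1 : ∀ x, θ (U x) = e x)
    (hk : ∀ c, θ (Dg c) = k c) (ht : θ (Tm F) = t) (A : SpecialLinearGroup (Fin 2) F) {ω : Ω}
    (hω : ω ∉ Del a t e) (h : θ A • ω = ω) : A = 1 := by
  classical
  rcases exists_form A with ⟨x, c, rfl⟩ | ⟨x, c, y, rfl⟩
  · rw [map_mul, h1, hk] at h
    obtain ⟨rfl, rfl⟩ := B.semireg_one hS h2 hω h
    rw [map_one, mul_one]
    exact rel_model.zero
  · exfalso
    rw [map_mul, map_mul, map_mul, h1, hk, ht, h1] at h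
    -- conjugate by `e y`
    have hω1 : e y • ω ∉ Del a t e := by
      intro h3
      have h4 := B.e_del hS y h3
      rw [smul_smul, B.rel.mul_self, one_smul] at h4
      exact hω h4
    have hg1 : (e (y + x) * (k c * t)) • e y • ω = e y • ω := by
      rw [B.rel.add]
      nth_rewrite 2 [← h]
      simp only [mul_smul]
    generalize e y • ω = ω1 at hω1 hg1
    generalize y + x = z at hg1
    clear h hω
    have hωa : ω1 ≠ a := fun h => hω1 (Or.inl h)
    -- the involution `v = k c t`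
    obtain ⟨v, hv⟩ : ∃ v, v = k c * t := ⟨_, rfl⟩
    rw [← hv] at hg1
    have hvv : v * v = 1 := by
      rw [hv, mul_assoc, ← mul_assoc t, B.rel.tk', mul_assoc, B.rel.tt, mul_one, ← map_mul,
        mul_inv_cancel, map_one]
    obtain ⟨d, hd⟩ := exists_sq c
    have hvt : v = k d * t * (k d)⁻¹ := by rw [B.k_sq, hd, hv]
    by_cases hz : z = 0
    · -- `v` fixes `ω1`
      rw [hz, B.rel.zero, one_mul] at hg1
      have h5 : t • (k d)⁻¹ • ω1 = (k d)⁻¹ • ω1 := by
        rw [hvt, mul_smul, mul_smul] at hg1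
        rw [eq_inv_smul_iff, hg1]
      have h6 : (k d)⁻¹ • ω1 = e 1 • t • a :=
        RankOneBasic.fixed_unique hS hS.ne_one hS.mul_self h5 hrs
      apply hω1
      rw [inv_smul_eq_iff] at h6
      rw [h6]
      exact B.k_del _ (e_mem a t e 1)
    · obtain ⟨u, hu⟩ : ∃ u, u = e z := ⟨_, rfl⟩
      rw [← hu] at hg1
      have huu : u * u = 1 := by rw [hu]; exact B.rel.mul_self z
      have hu1 : u ≠ 1 := fun h => hz (B.e_inj (by rw [← hu, h, B.rel.zero]))
      have huω : u • ω1 ≠ ω1 := fun h5 =>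
        hu1 (RankOneBasic.eq_one_of_smul_eq hS (hu ▸ B.memQ z) hωa h5)
      have hinv : u * (u * v) * u = (u * v)⁻¹ := by
        rw [_root_.mul_inv_rev, inv_eq_of_mul_eq_one_right huu, inv_eq_of_mul_eq_one_right hvv,
          ← mul_assoc, huu, one_mul]
      obtain ⟨h, c2, hc2, hha, hhb⟩ := B.conj_k hS huu huω hg1 hinv
      -- `c2 ≠ 1`
      have hc21 : c2 ≠ 1 := by
        rintro rfl
        rw [map_one] at hc2
        have h5 : u * v = 1 := by
          have : u * v = h⁻¹ * (h * (u * v) * h⁻¹) * h := by group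
          rw [this, hc2]; group
        have h6 : u = v := by
          have : u = (u * v) * v⁻¹ := by group
          rw [this, h5, inv_eq_of_mul_eq_one_right hvv, one_mul]
        have h7 : v • a = a := by rw [← h6, hu]; exact B.e_a hS z
        rw [hv, mul_smul, B.k_ta] at h7
        exact RankOneBasic.t_smul_ne hS h7
      -- a power of prime order
      obtain ⟨p, hp, hpd⟩ := Nat.exists_prime_and_dvd
        (n := orderOf c2) (fun h5 => hc21 (orderOf_eq_one_iff.1 h5))
      have : Fact p.Prime := ⟨hp⟩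
      obtain ⟨m, hm⟩ := hpd
      have hopos : 0 < orderOf c2 := orderOf_pos c2
      have hord : orderOf (c2 ^ m) = p := by
        have hm0 : m ≠ 0 := by
          rintro rfl
          rw [mul_zero] at hm
          exact hopos.ne' hm
        rw [orderOf_pow_of_dvd hm0 (Dvd.intro_left p hm.symm), hm]
        exact Nat.mul_div_cancel p (Nat.pos_of_ne_zero hm0)
      obtain ⟨g, hg⟩ : ∃ g, g = (u * v) ^ m := ⟨_, rfl⟩
      have hgk : h * g * h⁻¹ = k (c2 ^ m) := by
        rw [map_pow, ← hc2, hg, conj_pow]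
      have hgω : g • ω1 = ω1 := by
        have : ∀ n : ℕ, (u * v) ^ n • ω1 = ω1 := by
          intro n
          induction n with
          | zero => rw [pow_zero, one_smul]
          | succ n ih => rw [pow_succ, mul_smul, hg1, ih]
        rw [hg]; exact this m
      have hgp : g ^ p = 1 := by
        have h5 : h * g ^ p * h⁻¹ = 1 := by
          rw [← conj_pow, hgk, ← map_pow, ← hord, pow_orderOf_eq_one, map_one]
        have : g ^ p = h⁻¹ * (h * g ^ p * h⁻¹) * h := by group
        rw [this, h5]; group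
      -- `g` preserves `Δ`
      have hvdel : ∀ ω, ω ∈ Del a t e → v • ω ∈ Del a t e := fun ω hω => by
        rw [hv, mul_smul]
        exact B.k_del _ (B.t_del hS hω)
      have hudel : ∀ ω, ω ∈ Del a t e → u • ω ∈ Del a t e := fun ω hω => by
        rw [hu]; exact B.e_del hS _ hω
      have hgdel : ∀ ω, ω ∈ Del a t e → g • ω ∈ Del a t e := by
        have : ∀ n : ℕ, ∀ ω, ω ∈ Del a t e → (u * v) ^ n • ω ∈ Del a t e := by
          intro n
          induction n with
          | zero => intro ω hω; rwa [pow_zero, one_smul]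
          | succ n ih =>
            intro ω hω
            rw [pow_succ, mul_smul]
            apply ih
            rw [mul_smul]
            exact hudel _ (hvdel _ hω)
        rw [hg]; exact this m
      let P : SubMulAction (Subgroup.zpowers g) Ω :=
        { carrier := Del a t e
          smul_mem' := by
            rintro ⟨x, hx⟩ ω hω
            obtain ⟨n, rfl⟩ := (Subgroup.mem_zpowers_iff.1 hx)
            show (g ^ n) • ω ∈ Del a t e
            have hfin : IsOfFinOrder g := isOfFinOrder_of_finite g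
            obtain ⟨j, hj⟩ := (hfin.mem_powers_iff_mem_zpowers).2 ⟨n, rfl⟩
            simp only at hj
            rw [← hj]
            clear hj
            induction j generalizing ω with
            | zero => rwa [pow_zero, one_smul]
            | succ j ih =>
              rw [pow_succ, mul_smul]
              exact ih (hgdel _ hω) }
      have hPG : IsPGroup p (Subgroup.zpowers g) := by
        apply IsPGroup.of_card_dvd_pow (n := 1)
        rw [Nat.card_zpowers, pow_one]
        exact orderOf_dvd_of_pow_eq_one hgp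
      have hfinΩ := RankOneBasic.finite_points hS
      have hmod := hPG.card_modEq_card_fixedPoints P
      have hcardP : Nat.card P = Nat.card F + 1 := B.card_del hS
      -- `p ∣ |F| - 1`
      have hpq : p ∣ Nat.card F - 1 := by
        rw [← Nat.card_units]
        exact (Dvd.intro m hm.symm).trans (orderOf_dvd_natCard c2)
      have hq2 : 2 ∣ Nat.card F := by
        have : Fintype F := Fintype.ofFinite F
        have : Fact (Nat.Prime 2) := ⟨Nat.prime_two⟩
        obtain ⟨n, -, hn⟩ := FiniteField.card F 2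
        rw [Nat.card_eq_fintype_card, hn]
        exact dvd_pow_self 2 n.ne_zero
      have hqpos : 1 < Nat.card F := Finite.one_lt_card
      have hp2 : p ≠ 2 := by
        rintro rfl
        omega
      -- a fixed point in `Δ`
      have hfix : Nat.card (fixedPoints (Subgroup.zpowers g) P) ≠ 0 := by
        intro h0
        rw [h0, hcardP] at hmod
        have h5 : p ∣ Nat.card F + 1 := (Nat.modEq_zero_iff_dvd).1 hmod
        have h6 : p ∣ 2 := by
          have := (Nat.dvd_sub h5 hpq)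
          have h7 : Nat.card F + 1 - (Nat.card F - 1) = 2 := by omega
          rwa [h7] at this
        exact hp2 ((Nat.prime_dvd_prime_iff_eq hp Nat.prime_two).1 h6)
      have hne : Nonempty (fixedPoints (Subgroup.zpowers g) P) := by
        by_contra hcon
        rw [not_nonempty_iff] at hcon
        exact hfix Nat.card_of_isEmpty
      obtain ⟨⟨⟨ω2, hω2⟩, hω2f⟩⟩ := hne
      have hω2' : ω2 ∈ Del a t e := hω2
      have hgω2 : g • ω2 = ω2 :=
        congrArg Subtype.val (hω2f ⟨g, Subgroup.mem_zpowers g⟩)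
      -- the contradiction: three fixed points
      have h5 : k (c2 ^ m) • h • ω2 = h • ω2 := by
        rw [← hgk, mul_smul, mul_smul, inv_smul_smul, hgω2]
      have h6 : c2 ^ m = 1 := by
        refine B.k_fix hS h2 (ω := h • ω2) ?_ ?_ h5
        · intro h7
          rw [← hha] at h7
          have := smul_left_cancel h h7
          rw [this] at hω2'
          exact hω1 hω2'
        · intro h7
          rw [← hhb] at h7
          have := smul_left_cancel h h7
          rw [this] at hω2'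
          have h8 := hudel _ hω2'
          rw [smul_smul, huu, one_smul] at h8
          exact hω1 h8
      rw [h6, orderOf_one] at hord
      exact hp.one_lt.ne hord

/-- If `|Q| = |F|³` then `θ(SL₂(F))` is regular outside `Δ`. -/
theorem Blk.bijective [Finite G] [FaithfulSMul G Ω] [Finite F] [CharP F 2]
    (hS : Cfsg.IsRankOneSetup G Ω a t Q)
    (h2 : ∃ x y : G, x ≠ 1 ∧ y ≠ 1 ∧ x ≠ y ∧ x * x = 1 ∧ y * y = 1 ∧ x * y = y * x)
    (B : Blk a t Q e k) (hrs : t • e 1 • t • a = e 1 • t • a)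
    {θ : SpecialLinearGroup (Fin 2) F →* G} (h1 : ∀ x, θ (U x) = e x)
    (hk : ∀ c, θ (Dg c) = k c) (ht : θ (Tm F) = t) (hcard : Nat.card Q = Nat.card F ^ 3)
    {ω : Ω} (hω : ω ∉ Del a t e) :
    Function.Bijective (fun A : SpecialLinearGroup (Fin 2) F =>
      (⟨θ A • ω, fun h => hω ((B.theta_del_iff hS h1 hk ht A).1 h)⟩ : {ω : Ω // ω ∉ Del a t e})) := by
  classical
  have hfinΩ := RankOneBasic.finite_points hS
  have : Fintype F := Fintype.ofFinite F
  have hfin : Finite (SpecialLinearGroup (Fin 2) F) := inferInstance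
  apply Function.Injective.bijective_of_nat_card_le
  · intro A A' h
    have h3 : θ A • ω = θ A' • ω := congrArg Subtype.val h
    have h4 : θ (A'⁻¹ * A) • ω = ω := by
      rw [map_mul, map_inv, mul_smul, h3, inv_smul_smul]
    exact (inv_mul_eq_one.1 (B.semireg hS h2 hrs h1 hk ht _ hω h4)).symm
  · have h3 : Nat.card {ω : Ω // ω ∈ Del a t e} + Nat.card {ω : Ω // ω ∉ Del a t e} =
        Nat.card Ω := by
      rw [← Nat.card_sum, Nat.card_congr (Equiv.sumCompl (fun ω : Ω => ω ∈ Del a t e))]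
    have h4 : Nat.card {ω : Ω // ω ∈ Del a t e} = Nat.card F + 1 := B.card_del hS
    rw [h4, RankOneBasic.card_points hS, hcard] at h3
    rw [LieClassical.SmallIso.card_sl_two, ← Nat.card_eq_fintype_card]
    have h5 : Nat.card F * (Nat.card F ^ 2 - 1) = Nat.card F ^ 3 - Nat.card F := by
      rw [Nat.mul_sub, mul_one]
      congr 1
      ring
    rw [h5]
    omega

theorem exists_not_mem_del [Finite G] [Finite F]
    (hS : Cfsg.IsRankOneSetup G Ω a t Q) (B : Blk a t Q e k) (hcard : Nat.card Q = Nat.card F ^ 3) :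
    ∃ ω : Ω, ω ∉ Del a t e := by
  classical
  by_contra hcon
  push Not at hcon
  have hfinΩ := RankOneBasic.finite_points hS
  have h3 : Nat.card {ω : Ω // ω ∈ Del a t e} = Nat.card Ω :=
    Nat.card_congr (Equiv.subtypeUnivEquiv hcon)
  have h4 : Nat.card {ω : Ω // ω ∈ Del a t e} = Nat.card F + 1 := B.card_del hS
  rw [h4, RankOneBasic.card_points hS, hcard] at h3
  have h5 : 1 < Nat.card F := Finite.one_lt_card
  nlinarith [sq_nonneg (Nat.card F)]

section torus

variable [Fintype F] [CharP F 2] [MulDistribMulAction Fˣ Q] {κ : Fˣ →* G} {δ : F → Q}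

/-- The data from the Singer torus. -/
theorem blk_of_torus (hS : Cfsg.IsRankOneSetup G Ω a t Q) (T : Torus a t Q F κ δ)
    (hrs : t * δ 1 * t = δ 1 * t * δ 1) :
    Blk a t Q (fun x => ((δ x : Q) : G)) (κ.comp (powMonoidHom 2)) where
  rel :=
    { add := fun x y => by rw [T.singer.add, Subgroup.coe_mul]
      conj := fun c x => by
        have h := T.smul (c ^ 2) (δ x)
        rw [T.singer.smul] at h
        show κ (c ^ 2) * (δ x : G) * (κ (c ^ 2))⁻¹ = _
        rw [← h, Units.val_pow_eq_pow_val]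
      tt := hS.mul_self
      tk := fun c => by
        have h := ((T.mem_iff (κ (c ^ 2))).2 ⟨_, rfl⟩).2
        rw [RankOneBasic.t_inv hS] at h
        exact h
      te := fun c => by
        have h1 : (δ c : G) = κ c * δ 1 * (κ c)⁻¹ := by
          rw [← T.smul, T.singer.smul, mul_one]
        have h1' : ((δ ((c⁻¹ : Fˣ) : F) : Q) : G) = (κ c)⁻¹ * δ 1 * κ c := by
          have h := T.smul c⁻¹ (δ 1)
          rw [T.singer.smul, mul_one, map_inv, inv_inv] at h
          exact h
        have h2 : t * κ c * t = (κ c)⁻¹ := by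
          have h := ((T.mem_iff (κ c)).2 ⟨_, rfl⟩).2
          rw [RankOneBasic.t_inv hS] at h
          exact h
        have htt := hS.mul_self
        have h3 : t * κ c = (κ c)⁻¹ * t := by
          rw [← h2, mul_assoc (t * κ c), htt, mul_one]
        show t * (δ c : G) * t = (δ ((c⁻¹ : Fˣ) : F) : G) * κ (c⁻¹ ^ 2) * t *
          (δ ((c⁻¹ : Fˣ) : F) : G)
        have h5 : κ (c⁻¹ ^ 2) = (κ c)⁻¹ * (κ c)⁻¹ := by
          rw [map_pow, map_inv, pow_two]
        have h6 : (κ c)⁻¹ * t * (κ c)⁻¹ = t := by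
          rw [← h3]; group
        rw [h1, h1', h5]
        calc t * (κ c * (δ 1 : G) * (κ c)⁻¹) * t
            = (t * κ c) * δ 1 * ((κ c)⁻¹ * t) := by group
          _ = ((κ c)⁻¹ * t) * δ 1 * (t * κ c) := by rw [h3]
          _ = (κ c)⁻¹ * (t * δ 1 * t) * κ c := by group
          _ = (κ c)⁻¹ * (δ 1 * t * δ 1) * κ c := by rw [hrs]
          _ = (κ c)⁻¹ * (δ 1 * ((κ c)⁻¹ * t * (κ c)⁻¹) * δ 1) * κ c := by rw [h6]
          _ = _ := by group }
  memQ x := (δ x).2
  e_inj x y h := T.singer.inj (Subtype.ext h)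
  k_inj c d h := by
    have h1 : c ^ 2 = d ^ 2 := T.inj h
    apply Units.ext
    have h2 : (c : F) ^ 2 = (d : F) ^ 2 := by
      rw [← Units.val_pow_eq_pow_val, h1, Units.val_pow_eq_pow_val]
    exact CharTwo.sq_injective h2
  k_iff g := by
    rw [T.mem_iff]
    constructor
    · rintro ⟨c, rfl⟩
      obtain ⟨d, rfl⟩ := exists_sq c
      exact ⟨d, by show κ (d ^ 2) = _; rw [pow_two]⟩
    · rintro ⟨c, rfl⟩
      exact ⟨c ^ 2, rfl⟩
  central x q hq := congrArg Subtype.val (T.singer.central x ⟨q, hq⟩)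
  inv_mem q hq h := by
    obtain ⟨x, hx⟩ := (T.singer.inv ⟨q, hq⟩).1 (Subtype.ext h)
    exact ⟨x, congrArg Subtype.val hx⟩

end torus

end Cfsg.Agent.SuzukiRankOne.UThreeReg
end

-- part: SuzukiRankOne/Cocycle
section
/-!
Cocycles `F × F → F` over a field of characteristic two: splitting of symmetric cocycles with zero
diagonal, and the determination of torus-equivariant cocycles with given squares.
-/

set_option autoImplicit false
set_option linter.style.haveILetI false

namespace Cfsg.Agent.SuzukiRankOne.Cocycle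

section splitting

variable {F A : Type*} [AddCommGroup F] [AddCommGroup A]

/-- the extension defined by a symmetric cocycle -/
structure Ext (d : F → F → A) where
  /-- the fibre component -/
  fst : A
  /-- the base component -/
  snd : F

omit [AddCommGroup F] [AddCommGroup A] in
theorem Ext.ext' {d : F → F → A} {x y : Ext d} (h1 : x.fst = y.fst) (h2 : x.snd = y.snd) : x = y := by
  cases x; cases y; simp only at h1 h2; rw [h1, h2]

/-- A symmetric normalised cocycle with zero diagonal on a group of exponent two is a coboundary. -/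
theorem exists_splitting (hF2 : ∀ x : F, x + x = 0) (hA2 : ∀ a : A, a + a = 0) (d : F → F → A)
    (hc : ∀ x y w, d x y + d (x + y) w = d y w + d x (y + w)) (hdiag : ∀ x, d x x = 0)
    (hs : ∀ x y, d x y = d y x) : ∃ μ : F → A, μ 0 = 0 ∧ ∀ x y, d x y = μ x + μ y + μ (x + y) := by
  have hneg : ∀ a : A, -a = a := fun a => neg_eq_of_add_eq_zero_left (hA2 a)
  have hnegF : ∀ a : F, -a = a := fun a => neg_eq_of_add_eq_zero_left (hF2 a)
  have h0 : ∀ x, d 0 x = 0 := by
    intro x
    have h := hc 0 0 x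
    rw [zero_add, zero_add, hdiag 0] at h
    have h2 : d 0 x = d 0 x + d 0 x := by rw [← h, zero_add]
    rw [hA2] at h2
    exact h2
  have h0' : ∀ x, d x 0 = 0 := fun x => by rw [hs, h0]
  letI : Zero (Ext d) := ⟨⟨0, 0⟩⟩
  letI : Add (Ext d) := ⟨fun x y => ⟨x.fst + y.fst + d x.snd y.snd, x.snd + y.snd⟩⟩
  letI : Neg (Ext d) := ⟨fun x => x⟩
  have hadd : ∀ x y : Ext d, x + y = ⟨x.fst + y.fst + d x.snd y.snd, x.snd + y.snd⟩ := fun x y => rfl
  have hzero : (0 : Ext d) = ⟨0, 0⟩ := rfl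
  letI : AddCommGroup (Ext d) :=
    { add_assoc := by
        intro x y z
        rw [hadd, hadd, hadd, hadd]
        apply Ext.ext'
        · show x.fst + y.fst + d x.snd y.snd + z.fst + d (x.snd + y.snd) z.snd =
            x.fst + (y.fst + z.fst + d y.snd z.snd) + d x.snd (y.snd + z.snd)
          have := hc x.snd y.snd z.snd
          calc x.fst + y.fst + d x.snd y.snd + z.fst + d (x.snd + y.snd) z.snd
              = x.fst + y.fst + z.fst + (d x.snd y.snd + d (x.snd + y.snd) z.snd) := by abel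
            _ = _ := by rw [this]; abel
        · show x.snd + y.snd + z.snd = x.snd + (y.snd + z.snd)
          rw [add_assoc]
      zero_add := by
        intro x
        rw [hadd, hzero]
        apply Ext.ext'
        · show 0 + x.fst + d 0 x.snd = x.fst
          rw [h0]; abel
        · show 0 + x.snd = x.snd
          rw [zero_add]
      add_zero := by
        intro x
        rw [hadd, hzero]
        apply Ext.ext'
        · show x.fst + 0 + d x.snd 0 = x.fst
          rw [h0']; abel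
        · show x.snd + 0 = x.snd
          rw [add_zero]
      nsmul := nsmulRec
      zsmul := zsmulRec
      neg_add_cancel := by
        intro x
        show x + x = 0
        rw [hadd, hzero]
        apply Ext.ext'
        · show x.fst + x.fst + d x.snd x.snd = 0
          rw [hA2, hdiag, add_zero]
        · show x.snd + x.snd = 0
          rw [hF2]
      add_comm := by
        intro x y
        rw [hadd, hadd]
        apply Ext.ext'
        · show x.fst + y.fst + d x.snd y.snd = y.fst + x.fst + d y.snd x.snd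
          rw [hs x.snd y.snd]; abel
        · show x.snd + y.snd = y.snd + x.snd
          rw [add_comm] }
  have hE2 : ∀ x : Ext d, 2 • x = 0 := by
    intro x
    rw [two_nsmul, hadd, hzero]
    apply Ext.ext'
    · show x.fst + x.fst + d x.snd x.snd = 0
      rw [hA2, hdiag, add_zero]
    · show x.snd + x.snd = 0
      rw [hF2]
  letI : Module (ZMod 2) (Ext d) := AddCommGroup.zmodModule hE2
  letI : Module (ZMod 2) A := AddCommGroup.zmodModule (fun a => by rw [two_nsmul, hA2])
  let i : A →+ Ext d :=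
    { toFun := fun a => ⟨a, 0⟩
      map_zero' := rfl
      map_add' := by
        intro a b
        rw [hadd]
        apply Ext.ext'
        · show a + b = a + b + d 0 0
          rw [h0, add_zero]
        · show (0 : F) = 0 + 0
          rw [add_zero] }
  let iL : A →ₗ[ZMod 2] Ext d := i.toZModLinearMap 2
  have hinj : Function.Injective iL := by
    intro a b hab
    have : (⟨a, 0⟩ : Ext d) = ⟨b, 0⟩ := hab
    exact congrArg Ext.fst this
  obtain ⟨p, hp⟩ := LinearMap.exists_leftInverse_of_injective iL (LinearMap.ker_eq_bot.2 hinj)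
  have hpa : ∀ a : A, p ⟨a, 0⟩ = a := fun a => LinearMap.congr_fun hp a
  have hμ0 : p ⟨0, 0⟩ = 0 := hpa 0
  refine ⟨fun x => p ⟨0, x⟩, hμ0, fun x y => ?_⟩
  have h1 : (⟨0, x⟩ : Ext d) + ⟨0, y⟩ = ⟨d x y, 0⟩ + ⟨0, x + y⟩ := by
    rw [hadd, hadd]
    apply Ext.ext'
    · show (0 : A) + 0 + d x y = d x y + 0 + d 0 (x + y)
      rw [h0]; abel
    · show x + y = 0 + (x + y)
      rw [zero_add]
  have h2 := congrArg p h1
  rw [map_add, map_add, hpa] at h2
  show d x y = p ⟨0, x⟩ + p ⟨0, y⟩ + p ⟨0, x + y⟩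
  rw [h2, add_assoc, hA2, add_zero]

end splitting

section field

variable {F : Type*} [Field F]

/-- polarisation of a cocycle: the commutator map is additive in the first variable -/
theorem comm_add [CharP F 2] (c : F → F → F)
    (hc : ∀ x y w, c x y + c (x + y) w = c y w + c x (y + w)) (x y w : F) :
    c (x + y) w + c w (x + y) = (c x w + c w x) + (c y w + c w y) := by
  have two : (2 : F) = 0 := CharTwo.two_eq_zero
  have h1 := hc x y w
  have h2 := hc x w y
  have h3 := hc w x y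
  rw [add_comm w y] at h2
  rw [add_comm w x] at h3
  linear_combination h1 - h2 + h3 + (c w (x + y) - c w x - c w y) * two

theorem sq_add [CharP F 2] (c : F → F → F) (h0 : ∀ x, c 0 x = 0)
    (hc : ∀ x y w, c x y + c (x + y) w = c y w + c x (y + w)) (x y : F) :
    c (x + y) (x + y) = c x x + c y y + (c x y + c y x) := by
  have two : (2 : F) = 0 := CharTwo.two_eq_zero
  have h1 := hc x y (x + y)
  have h2 := hc y y x
  have e1 : y + (x + y) = x := by linear_combination y * two
  have e2 : y + y = 0 := by linear_combination y * two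
  rw [e1] at h1
  rw [e2, h0, add_comm y x] at h2
  linear_combination h1 - h2 - (c x y + c y x) * two

/-- the diagonal of a cocycle is a quadratic map -/
theorem quadratic [CharP F 2] (c : F → F → F) (h0 : ∀ x, c 0 x = 0)
    (hc : ∀ x y w, c x y + c (x + y) w = c y w + c x (y + w)) (x y z : F) :
    c (x + y + z) (x + y + z) + c (x + y) (x + y) + c (x + z) (x + z) + c (y + z) (y + z) +
      c x x + c y y + c z z = 0 := by
  have two : (2 : F) = 0 := CharTwo.two_eq_zero
  have h1 := sq_add c h0 hc (x + y) z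
  have h2 := comm_add c hc x y z
  have h3 := sq_add c h0 hc x z
  have h4 := sq_add c h0 hc y z
  linear_combination h1 + h2 + h3 + h4 + (c (x + y) (x + y) + c x z + c z x + c y z + c z y + c x x +
    c y y + 2 * c z z) * two

variable [Fintype F]

/-- A torus-equivariant cocycle whose diagonal is `x θ(x)` is `θ(x) y` plus a multiple of
`θ(x) y + x θ(y)`. -/
theorem equivariant_cocycle [CharP F 2] (θ : F ≃+* F) (c : F → F → F) (h0 : ∀ x, c 0 x = 0)
    (hc : ∀ x y w, c x y + c (x + y) w = c y w + c x (y + w)) (hd : ∀ x, c x x = x * θ x)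
    (hK : ∀ l x y : F, l ≠ 0 → c (l * x) (l * y) = l * θ l * c x y) :
    ∃ ν : F, ∀ x y, c x y = θ x * y + ν * (θ x * y + x * θ y) := by
  classical
  have two : (2 : F) = 0 := CharTwo.two_eq_zero
  have hF2 : ∀ x : F, x + x = 0 := fun x => by linear_combination x * two
  let d : F → F → F := fun x y => c x y + θ x * y
  have hd' : ∀ x y, d x y = c x y + θ x * y := fun x y => rfl
  have hcd : ∀ x y w, d x y + d (x + y) w = d y w + d x (y + w) := by
    intro x y w
    simp only [hd', map_add]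
    linear_combination hc x y w
  have hdd : ∀ x, d x x = 0 := by
    intro x
    rw [hd', hd]
    linear_combination (x * θ x) * two
  have hds : ∀ x y, d x y = d y x := by
    intro x y
    have h1 := sq_add c h0 hc x y
    rw [hd, hd, hd, map_add] at h1
    rw [hd', hd']
    linear_combination (θ x * y - c y x) * two - h1
  obtain ⟨μ, hμ0, hμ⟩ := exists_splitting hF2 hF2 d hcd hdd hds
  let N : Fˣ → F := fun l => (l : F) * θ l
  have hN : ∀ l, N l ≠ 0 := fun l => mul_ne_zero l.ne_zero ((map_ne_zero θ).2 l.ne_zero)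
  have hNmul : ∀ l k : Fˣ, N (l * k) = N l * N k := by
    intro l k
    show ((l * k : Fˣ) : F) * θ ((l * k : Fˣ) : F) = (l : F) * θ l * (k * θ k)
    rw [Units.val_mul, map_mul]; ring
  let ν : F → F := fun x => ∑ l : Fˣ, (N l)⁻¹ * μ (l * x)
  have hν : ∀ x, ν x = ∑ l : Fˣ, (N l)⁻¹ * μ (l * x) := fun x => rfl
  have hcardF : ((Fintype.card Fˣ : ℕ) : F) = 1 := by
    have h1 : Fintype.card F = Fintype.card Fˣ + 1 := by
      rw [Fintype.card_units]
      have : 0 < Fintype.card F := Fintype.card_pos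
      omega
    have h2 : ((Fintype.card F : ℕ) : F) = 0 := FiniteField.cast_card_eq_zero F
    rw [h1] at h2
    push_cast at h2
    linear_combination h2 - two
  have hdK : ∀ (l : Fˣ) (x y : F), d (l * x) (l * y) = N l * d x y := by
    intro l x y
    rw [hd', hd', hK l x y l.ne_zero, map_mul]
    show (l : F) * θ l * c x y + θ l * θ x * (l * y) = (l : F) * θ l * (c x y + θ x * y)
    ring
  have hνd : ∀ x y, ν x + ν y + ν (x + y) = d x y := by
    intro x y
    rw [hν, hν, hν, ← Finset.sum_add_distrib, ← Finset.sum_add_distrib]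
    have h1 : ∀ l : Fˣ, (N l)⁻¹ * μ (l * x) + (N l)⁻¹ * μ (l * y) + (N l)⁻¹ * μ (l * (x + y)) = d x y := by
      intro l
      have h2 := hμ (l * x) (l * y)
      rw [hdK, ← mul_add] at h2
      rw [← mul_add, ← mul_add, ← h2, inv_mul_cancel_left₀ (hN l)]
    rw [Finset.sum_congr rfl (fun l _ => h1 l), Finset.sum_const, Finset.card_univ, nsmul_eq_mul, hcardF,
      one_mul]
  have hνK : ∀ (k : Fˣ), ν k = N k * ν 1 := by
    intro k
    rw [hν, hν, Finset.mul_sum]
    refine Fintype.sum_equiv (Equiv.mulRight k) _ _ (fun l => ?_)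
    show (N l)⁻¹ * μ (l * k) = N k * ((N (l * k))⁻¹ * μ (((l * k : Fˣ) : F) * 1))
    rw [hNmul, mul_one, Units.val_mul]
    have := hN l
    have := hN k
    field_simp
  have hν0 : ν 0 = 0 := by
    rw [hν]
    refine Finset.sum_eq_zero (fun l _ => ?_)
    rw [mul_zero, hμ0, mul_zero]
  have hνx : ∀ x, ν x = x * θ x * ν 1 := by
    intro x
    by_cases hx : x = 0
    · rw [hx, hν0]; simp
    · exact hνK (Units.mk0 x hx)
  refine ⟨ν 1, fun x y => ?_⟩
  have h1 := hνd x y
  rw [hνx x, hνx y, hνx (x + y), map_add, hd'] at h1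
  linear_combination -h1 + (x * θ x * ν 1 + y * θ y * ν 1 - θ x * y) * two

end field

end Cfsg.Agent.SuzukiRankOne.Cocycle
end

-- part: SuzukiRankOne/SzCoord
section
/-!
Equivariant coordinates on a group `P` of order `q²` with a central elementary abelian subgroup `Z` of
order `q` and an automorphism transitive on `Z#` and on `(P/Z)#` (for the Suzuki case of S1136).
-/

set_option autoImplicit false
set_option linter.style.haveILetI false

namespace Cfsg.Agent.SuzukiRankOne.SzCoord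

open Subgroup Cfsg.Agent.LieRecognition

/-- Coordinates `(x, y) ↦ R x * z y` on `P` for which `φ` acts as the diagonal map
`(x, y) ↦ (l x, l θ(l) y)`. -/
structure Coord {P : Type*} [Group P] (φ : P ≃* P) (r : P) {F : Type*} [Field F] (θ : F ≃+* F)
    (ν l : F) (R z : F → P) : Prop where
  lne : l ≠ 0
  prim : ∀ x : F, x ≠ 0 → ∃ i : ℕ, l ^ i = x
  z_add : ∀ x y, z (x + y) = z x * z y
  z_comm : ∀ x g, z x * g = g * z x
  z_inj : Function.Injective z
  R_zero : R 0 = 1
  R_one : R 1 = r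
  R_mul : ∀ x y, R x * R y = R (x + y) * z (θ x * y + ν * (θ x * y + x * θ y))
  surj : ∀ g, ∃ x y, g = R x * z y
  R_z : ∀ x y, R x = z y → x = 0
  φR : ∀ x, φ (R x) = R (l * x)
  φz : ∀ y, φ (z y) = z (l * θ l * y)
  N_surj : ∀ x : F, ∃ y, y * θ y = x

theorem iterate_mul_one_sub {α : Type*} (f : α → α) (N : ℕ) (hN : ∀ x, f^[N] x = x) (i j : ℕ) (hN1 : 1 ≤ N)
    (x : α) : f^[j + (N - 1) * i] (f^[i] x) = f^[j] x := by
  rw [← Function.iterate_add_apply]
  have h1 : j + (N - 1) * i + i = j + N * i := by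
    obtain ⟨M, rfl⟩ := Nat.exists_eq_add_of_le' hN1
    rw [Nat.add_sub_cancel]; ring
  rw [h1, Function.iterate_add_apply]
  congr 1
  have h2 : ∀ k x, f^[N * k] x = x := by
    intro k
    induction k with
    | zero => intro x; rfl
    | succ k ih => intro x; rw [Nat.mul_succ, Function.iterate_add_apply, hN, ih]
  exact h2 i x

/-- Existence of coordinates, `F`, `z0 : F → P` (a parametrisation of a central subgroup of order `|F|`)
and the primitive element `m` being given. -/
theorem exists_coord {P : Type*} [Group P] [Finite P] {F : Type} [Field F] [Fintype F] [CharP F 2]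
    (z0 : F → P) (m : F) (hz0add : ∀ x y, z0 (x + y) = z0 x * z0 y)
    (hz0comm : ∀ y g, z0 y * g = g * z0 y) (hz0inj : Function.Injective z0)
    (φ : P ≃* P) (hφz0 : ∀ y, φ (z0 y) = z0 (m * y)) (hmprim : ∀ x : F, x ≠ 0 → ∃ i : ℕ, m ^ i = x)
    (hF : 2 < Fintype.card F) (hcardP : Nat.card P = Fintype.card F ^ 2)
    (hord : ∀ x, φ^[Fintype.card F - 1] x = x)
    (r : P) (hrr : r * r = z0 1)
    (htr : ∀ x, (∀ y, x ≠ z0 y) → ∃ (i : ℕ) (y : F), x = φ^[i] r * z0 y) :
    ∃ (θ : F ≃+* F) (ν l : F) (R : F → P), Coord φ r θ ν l R z0 := by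
  classical
  have two : (2 : F) = 0 := CharTwo.two_eq_zero
  have hN1 : 1 ≤ Fintype.card F - 1 := by omega
  have hz0zero : z0 0 = 1 := by
    have := hz0add 0 0
    rw [add_zero] at this
    exact (mul_eq_left.mp this.symm)
  have hz02 : ∀ y, z0 y * z0 y = 1 := by
    intro y
    rw [← hz0add]
    have : y + y = 0 := by linear_combination y * two
    rw [this, hz0zero]
  let Z : Subgroup P :=
    { carrier := {g | ∃ y, g = z0 y}
      mul_mem' := by
        rintro _ _ ⟨x, rfl⟩ ⟨y, rfl⟩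
        exact ⟨x + y, (hz0add x y).symm⟩
      one_mem' := ⟨0, hz0zero.symm⟩
      inv_mem' := by
        rintro _ ⟨x, rfl⟩
        exact ⟨x, inv_eq_of_mul_eq_one_left (hz02 x)⟩ }
  have hz0mem : ∀ y, z0 y ∈ Z := fun y => ⟨y, rfl⟩
  have hz0surj : ∀ g ∈ Z, ∃ y, g = z0 y := fun g hg => hg
  have hZcomm : ∀ z ∈ Z, ∀ g : P, z * g = g * z := by
    rintro _ ⟨y, rfl⟩ g
    exact hz0comm y g
  have hZ2 : ∀ z ∈ Z, z * z = 1 := by
    rintro _ ⟨y, rfl⟩
    exact hz02 y
  have hφZ : ∀ z ∈ Z, φ z ∈ Z := by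
    rintro _ ⟨y, rfl⟩
    exact ⟨m * y, hφz0 y⟩
  haveI hZn : Z.Normal := ⟨fun z hz g => by rw [← hZcomm z hz g, mul_inv_cancel_right]; exact hz⟩
  have hrZ : r * r ∈ Z := ⟨1, hrr⟩
  have hr : r ∉ Z := by
    intro h
    have h1 := hZ2 r h
    rw [hrr, ← hz0zero] at h1
    exact one_ne_zero (hz0inj h1)
  have hcard : Nat.card Z = Fintype.card F := by
    rw [← Nat.card_eq_fintype_card]
    exact (Nat.card_congr (Equiv.ofBijective (fun y => (⟨z0 y, hz0mem y⟩ : Z)) ⟨fun x y h =>
      hz0inj (congrArg Subtype.val h), fun ⟨g, y, hy⟩ => ⟨y, Subtype.ext hy.symm⟩⟩)).symm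
  have htrZ : ∀ x, x ∉ Z → ∃ i : ℕ, ∃ z ∈ Z, x = φ^[i] r * z := by
    intro x hx
    obtain ⟨i, y, h⟩ := htr x (fun y hy => hx ⟨y, hy⟩)
    exact ⟨i, z0 y, hz0mem y, h⟩
  -- iterates of `φ`
  have hitm : ∀ (i : ℕ) (x y : P), φ^[i] (x * y) = φ^[i] x * φ^[i] y := fun i x y =>
    iterate_map_mul φ i x y
  have hitZ : ∀ (i : ℕ) (x : P), x ∈ Z → φ^[i] x ∈ Z := by
    intro i
    induction i with
    | zero => intro x hx; exact hx
    | succ i ih => intro x hx; rw [Function.iterate_succ_apply]; exact ih _ (hφZ x hx)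
  have hsq : ∀ g : P, g * g ∈ Z := by
    intro g
    by_cases hg : g ∈ Z
    · rw [hZ2 g hg]; exact Z.one_mem
    · obtain ⟨i, z, hz, rfl⟩ := htrZ g hg
      have h1 : φ^[i] r * z * (φ^[i] r * z) = φ^[i] (r * r) := by
        rw [hitm, mul_assoc, ← mul_assoc z, hZcomm z hz (φ^[i] r), mul_assoc (φ^[i] r) z z, hZ2 z hz,
          mul_one]
      rw [h1]
      exact hitZ i _ hrZ
  -- the field model of `P ⧸ Z`
  have hle : Z ≤ Z.comap (φ : P →* P) := fun z hz => hφZ z hz
  let f2 : P ⧸ Z →* P ⧸ Z := QuotientGroup.map Z Z (φ : P →* P) hle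
  have hf2 : ∀ g : P, f2 (QuotientGroup.mk g) = QuotientGroup.mk (φ g) := fun g => rfl
  have hf2i : ∀ (i : ℕ) (g : P), f2^[i] (QuotientGroup.mk g) = QuotientGroup.mk (φ^[i] g) := by
    intro i
    induction i with
    | zero => intro g; rfl
    | succ i ih => intro g; rw [Function.iterate_succ_apply, Function.iterate_succ_apply, hf2, ih]
  have hmk : ∀ g : P, (QuotientGroup.mk g : P ⧸ Z) = 1 ↔ g ∈ Z := fun g => QuotientGroup.eq_one_iff g
  have hf2inj : Function.Injective f2 := by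
    rw [injective_iff_map_eq_one]
    intro x hx
    induction x using QuotientGroup.induction_on with
    | H g =>
      rw [hf2, hmk] at hx
      rw [hmk]
      -- `φ` is a bijection of the finite set `Z`
      obtain ⟨y, hy⟩ := hz0surj _ hx
      have hm0 : m ≠ 0 := by
        rintro rfl
        have h1 := hφz0 1
        rw [zero_mul, hz0zero, ← map_one φ] at h1
        have h2 := φ.injective h1
        rw [← hz0zero] at h2
        exact one_ne_zero (hz0inj h2)
      refine ⟨m⁻¹ * y, ?_⟩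
      apply φ.injective
      rw [hφz0, mul_inv_cancel_left₀ hm0, hy]
  have hcard2 : Nat.card (P ⧸ Z) = Fintype.card F := by
    have h1 := Subgroup.card_eq_card_quotient_mul_card_subgroup Z
    rw [hcardP, hcard, pow_two] at h1
    exact (Nat.eq_of_mul_eq_mul_right (by omega) h1).symm
  haveI : Nontrivial (P ⧸ Z) := by
    rw [← Finite.one_lt_card_iff_nontrivial, hcard2]
    omega
  have hcommQ : ∀ a b : P ⧸ Z, a * b = b * a := by
    have h2 : ∀ a : P ⧸ Z, a * a = 1 := by
      intro a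
      induction a using QuotientGroup.induction_on with
      | H g => rw [← QuotientGroup.mk_mul, hmk]; exact hsq g
    intro a b
    have hinv : ∀ c : P ⧸ Z, c⁻¹ = c := fun c => inv_eq_of_mul_eq_one_left (h2 c)
    calc a * b = (a * b)⁻¹ := (hinv _).symm
      _ = b⁻¹ * a⁻¹ := mul_inv_rev a b
      _ = b * a := by rw [hinv, hinv]
  have hcoset : ∀ g : P, ∀ z ∈ Z, (QuotientGroup.mk (g * z) : P ⧸ Z) = QuotientGroup.mk g := by
    intro g z hz
    rw [QuotientGroup.mk_mul, (hmk z).2 hz, mul_one]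
  obtain ⟨e2, l0, he2⟩ := HigmanTypeA.exists_field_model' (V := P ⧸ Z) hcommQ f2 hf2inj (by
      intro v w hv hw
      induction v using QuotientGroup.induction_on with
      | H x =>
      induction w using QuotientGroup.induction_on with
      | H y =>
      rw [Ne, hmk] at hv hw
      obtain ⟨i, z, hz, rfl⟩ := htrZ x hv
      obtain ⟨j, z', hz', rfl⟩ := htrZ y hw
      refine ⟨j + (Fintype.card F - 1 - 1) * i, ?_⟩
      rw [hcoset _ z hz, hcoset _ z' hz', hf2i, iterate_mul_one_sub φ _ hord i j hN1]) F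
      hcard2.symm
  have he2i : ∀ (i : ℕ) (g : P ⧸ Z), (e2 (f2^[i] g)).toAdd = l0 ^ i * (e2 g).toAdd := by
    intro i
    induction i with
    | zero => intro g; rw [pow_zero, one_mul]; rfl
    | succ i ih => intro g; rw [Function.iterate_succ_apply, ih, he2]; ring
  have hc2 : (e2 (QuotientGroup.mk r)).toAdd ≠ 0 := by
    intro h
    have h1 : e2 (QuotientGroup.mk r) = 1 := h
    rw [MulEquiv.map_eq_one_iff, hmk] at h1
    exact hr h1
  set c2 : F := (e2 (QuotientGroup.mk r)).toAdd with hc2def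
  let π : P → F := fun g => c2⁻¹ * (e2 (QuotientGroup.mk g)).toAdd
  have hπmul : ∀ g h, π (g * h) = π g + π h := by
    intro g h
    show c2⁻¹ * (e2 (QuotientGroup.mk (g * h))).toAdd = _
    rw [QuotientGroup.mk_mul, map_mul, toAdd_mul, mul_add]
  have hπzero : ∀ g, π g = 0 ↔ g ∈ Z := by
    intro g
    rw [← hmk g]
    constructor
    · intro h
      have h1 : (e2 (QuotientGroup.mk g)).toAdd = 0 := (mul_eq_zero.1 h).resolve_left (inv_ne_zero hc2)
      have h2 : e2 (QuotientGroup.mk g) = 1 := h1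
      rwa [MulEquiv.map_eq_one_iff] at h2
    · intro h
      show c2⁻¹ * (e2 (QuotientGroup.mk g)).toAdd = 0
      rw [h, map_one, toAdd_one, mul_zero]
  have hπφ : ∀ (i : ℕ) (g : P), π (φ^[i] g) = l0 ^ i * π g := by
    intro i g
    show c2⁻¹ * (e2 (QuotientGroup.mk (φ^[i] g))).toAdd = _
    rw [← hf2i, he2i]
    show _ = l0 ^ i * (c2⁻¹ * (e2 (QuotientGroup.mk g)).toAdd)
    ring
  have hπr : π r = 1 := by
    show c2⁻¹ * (e2 (QuotientGroup.mk r)).toAdd = 1
    rw [← hc2def, inv_mul_cancel₀ hc2]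
  have hπinv : ∀ g, π g⁻¹ = π g := by
    intro g
    have h1 := hπmul g g⁻¹
    rw [mul_inv_cancel, (hπzero 1).2 Z.one_mem] at h1
    linear_combination -h1 - (π g) * two
  -- `l0` is primitive
  have hprim : ∀ x : F, x ≠ 0 → ∃ i : ℕ, l0 ^ i = x := by
    intro x hx
    obtain ⟨g, hg⟩ := QuotientGroup.mk_surjective (s := Z) (e2.symm (Multiplicative.ofAdd (c2 * x)))
    have hgx : π g = x := by
      show c2⁻¹ * (e2 (QuotientGroup.mk g)).toAdd = x
      rw [hg, MulEquiv.apply_symm_apply, toAdd_ofAdd, inv_mul_cancel_left₀ hc2]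
    have hgZ : g ∉ Z := by
      intro h
      rw [← hπzero, hgx] at h
      exact hx h
    obtain ⟨i, z, hz, hgi⟩ := htrZ g hgZ
    refine ⟨i, ?_⟩
    rw [← hgx, hgi, hπmul, hπφ, hπr, (hπzero z).2 hz]; ring
  have hl0ne : l0 ≠ 0 := by
    intro h
    have h1 := hπφ 1 r
    rw [h, pow_one, zero_mul, hπzero] at h1
    have h2 := hπφ (Fintype.card F - 1) r
    rw [hord, hπr, h, zero_pow (by omega)] at h2
    simp at h2
  have hordl : orderOf l0 = Fintype.card F - 1 := by
    have h1 : orderOf (Units.mk0 l0 hl0ne) = Nat.card Fˣ := by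
      apply orderOf_eq_card_of_forall_mem_zpowers
      intro x
      obtain ⟨i, hi⟩ := hprim x x.ne_zero
      refine ⟨i, ?_⟩
      apply Units.ext
      simpa using hi
    rw [← orderOf_units, Units.val_mk0] at h1
    rw [h1, Nat.card_units, Nat.card_eq_fintype_card]
  have hpow_eq : ∀ i j : ℕ, l0 ^ i = l0 ^ j → φ^[i] r = φ^[j] r := by
    intro i j hij
    have hne : l0 ^ i ≠ 0 := pow_ne_zero _ hl0ne
    have h1 : i ≡ j [MOD Fintype.card F - 1] := by
      rw [← hordl]
      rw [← Units.val_mk0 hl0ne, ← Units.val_pow_eq_pow_val, ← Units.val_pow_eq_pow_val] at hij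
      have h2 := Units.ext hij
      rw [pow_eq_pow_iff_modEq] at h2
      rw [← Units.val_mk0 hl0ne, orderOf_units]
      exact h2
    have hper : Function.IsPeriodicPt φ (Fintype.card F - 1) r := hord r
    rw [← hper.iterate_mod_apply i, ← hper.iterate_mod_apply j, h1]
  let R0 : F → P := fun x => if h : x = 0 then 1 else φ^[(hprim x h).choose] r
  have hR0zero : R0 0 = 1 := by simp [R0]
  have hR0pow : ∀ i : ℕ, R0 (l0 ^ i) = φ^[i] r := by
    intro i
    have h : l0 ^ i ≠ 0 := pow_ne_zero _ hl0ne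
    show (if h : l0 ^ i = 0 then 1 else φ^[(hprim (l0 ^ i) h).choose] r) = _
    rw [dif_neg h]
    exact hpow_eq _ _ (hprim (l0 ^ i) h).choose_spec
  have hR0one : R0 1 = r := by
    have := hR0pow 0
    rwa [pow_zero] at this
  have hπR0 : ∀ x, π (R0 x) = x := by
    intro x
    by_cases hx : x = 0
    · rw [hx, hR0zero, hπzero]; exact Z.one_mem
    · obtain ⟨i, rfl⟩ := hprim x hx
      rw [hR0pow, hπφ, hπr, mul_one]
  have hφR0 : ∀ x, φ (R0 x) = R0 (l0 * x) := by
    intro x
    by_cases hx : x = 0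
    · rw [hx, mul_zero, hR0zero, map_one]
    · obtain ⟨i, rfl⟩ := hprim x hx
      rw [← pow_succ', hR0pow, hR0pow, Function.iterate_succ_apply']
  have hex : ∀ x y, ∃ c, R0 x * R0 y = R0 (x + y) * z0 c := by
    intro x y
    have h1 : (R0 (x + y))⁻¹ * (R0 x * R0 y) ∈ Z := by
      rw [← hπzero, hπmul, hπinv, hπmul, hπR0, hπR0, hπR0]
      linear_combination (x + y) * two
    obtain ⟨c, hc⟩ := hz0surj _ h1
    exact ⟨c, by rw [← hc, mul_inv_cancel_left]⟩
  choose c hc using hex
  have hc0 : ∀ x, c 0 x = 0 := by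
    intro x
    have h1 := hc 0 x
    rw [hR0zero, one_mul, zero_add] at h1
    apply hz0inj
    rw [hz0zero]
    exact (mul_eq_left.mp h1.symm)
  have hcc : ∀ x y w, c x y + c (x + y) w = c y w + c x (y + w) := by
    intro x y w
    apply hz0inj
    have h1 : R0 x * R0 y * R0 w = R0 (x + y + w) * (z0 (c x y) * z0 (c (x + y) w)) := by
      rw [hc x y, mul_assoc, hz0comm, ← mul_assoc, hc (x + y) w, mul_assoc, hz0comm (c x y)]
    have h2 : R0 x * (R0 y * R0 w) = R0 (x + (y + w)) * (z0 (c y w) * z0 (c x (y + w))) := by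
      rw [hc y w, ← mul_assoc, hc x (y + w), mul_assoc, hz0comm (c y w)]
    rw [mul_assoc, h2, ← add_assoc] at h1
    rw [hz0add, hz0add]
    exact (mul_left_cancel h1).symm
  have hcl : ∀ x y, c (l0 * x) (l0 * y) = m * c x y := by
    intro x y
    have h1 := congrArg φ (hc x y)
    rw [map_mul, map_mul, hφR0, hφR0, hφR0, hφz0, mul_add, hc (l0 * x) (l0 * y)] at h1
    exact hz0inj (mul_left_cancel h1)
  have hc11 : c 1 1 = 1 := by
    have h1 := hc 1 1
    rw [hR0one] at h1
    have e2 : (1 : F) + 1 = 0 := by linear_combination two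
    rw [e2, hR0zero, one_mul] at h1
    apply hz0inj
    rw [← h1, hrr]
  have hm0 : m ≠ 0 := by
    intro h
    have h1 := hφz0 1
    rw [h, zero_mul, hz0zero] at h1
    have h2 : z0 1 = 1 := by
      apply φ.injective
      rw [h1, map_one]
    rw [← hz0zero] at h2
    exact one_ne_zero (hz0inj h2)
  have hcm1 : c l0 l0 = m := by
    have := hcl 1 1
    rwa [mul_one, hc11, mul_one] at this
  obtain ⟨k, σ, τ, hk⟩ := SuzukiField.equivariant_quadratic_monomial (F := F) (m := l0) (l := m)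
    ⟨hl0ne, hprim⟩ hm0 (fun x => c x x) (fun x y z => Cocycle.quadratic c hc0 hcc x y z)
    (fun x => hcl x x)
  have hk1 : k = 1 := by
    have := hk 1
    simp only [hc11, map_one, mul_one] at this
    exact this.symm
  have hcd : ∀ x, c x x = σ x * τ x := by
    intro x
    have := hk x
    rw [hk1, one_mul] at this
    exact this
  -- twist by `σ`
  let θ : F ≃+* F := σ.symm.trans τ
  have hθ : ∀ x, θ x = τ (σ.symm x) := fun x => rfl
  let c' : F → F → F := fun x y => c (σ.symm x) (σ.symm y)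
  have hc'd : ∀ x, c' x x = x * θ x := by
    intro x
    show c (σ.symm x) (σ.symm x) = _
    rw [hcd, σ.apply_symm_apply, hθ]
  have hm : m = σ l0 * θ (σ l0) := by
    rw [hθ, σ.symm_apply_apply, ← hcm1, hcd]
  have hc'K : ∀ k x y : F, k ≠ 0 → c' (k * x) (k * y) = k * θ k * c' x y := by
    have h1 : ∀ i : ℕ, ∀ x y, c (l0 ^ i * x) (l0 ^ i * y) = m ^ i * c x y := by
      intro i
      induction i with
      | zero => intro x y; simp
      | succ i ih =>
        intro x y
        rw [pow_succ', mul_assoc, mul_assoc, hcl, ih, pow_succ']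
        ring
    intro k x y hk0
    obtain ⟨i, hi⟩ := hprim (σ.symm k) (by simpa using hk0)
    show c (σ.symm (k * x)) (σ.symm (k * y)) = k * θ k * c (σ.symm x) (σ.symm y)
    rw [map_mul, map_mul, ← hi, h1, hm]
    have h2 : k = σ l0 ^ i := by
      rw [← map_pow, hi, σ.apply_symm_apply]
    rw [h2, map_pow, mul_pow]
  obtain ⟨ν, hν⟩ := Cocycle.equivariant_cocycle θ c' (fun x => by
      show c (σ.symm 0) (σ.symm x) = 0
      rw [map_zero, hc0]) (fun x y w => by
      show c (σ.symm x) (σ.symm y) + c (σ.symm (x + y)) (σ.symm w) =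
        c (σ.symm y) (σ.symm w) + c (σ.symm x) (σ.symm (y + w))
      rw [map_add, map_add]
      exact hcc _ _ _) hc'd hc'K
  refine ⟨θ, ν, σ l0, fun x => R0 (σ.symm x), ?_⟩
  · refine ⟨by simpa using hl0ne, ?_, hz0add, hz0comm, hz0inj, ?_, ?_, ?_, ?_, ?_, ?_, ?_, ?_⟩
    · intro x hx
      obtain ⟨i, hi⟩ := hprim (σ.symm x) (by simpa using hx)
      exact ⟨i, by rw [← map_pow, hi, σ.apply_symm_apply]⟩
    · show R0 (σ.symm 0) = 1
      rw [map_zero, hR0zero]
    · show R0 (σ.symm 1) = r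
      rw [map_one, hR0one]
    · intro x y
      show R0 (σ.symm x) * R0 (σ.symm y) = R0 (σ.symm (x + y)) * _
      rw [hc, map_add]
      congr 2
      exact hν x y
    · intro g
      have h1 : (R0 (π g))⁻¹ * g ∈ Z := by
        rw [← hπzero, hπmul, hπinv, hπR0]
        linear_combination (π g) * two
      obtain ⟨y, hy⟩ := hz0surj _ h1
      refine ⟨σ (π g), y, ?_⟩
      show g = R0 (σ.symm (σ (π g))) * z0 y
      rw [σ.symm_apply_apply, ← hy, mul_inv_cancel_left]
    · intro x y hxy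
      have hxy : R0 (σ.symm x) = z0 y := hxy
      have h1 : π (R0 (σ.symm x)) = 0 := by
        rw [hxy, hπzero]; exact hz0mem y
      rw [hπR0] at h1
      simpa using h1
    · intro x
      show φ (R0 (σ.symm x)) = R0 (σ.symm (σ l0 * x))
      rw [map_mul, σ.symm_apply_apply, hφR0]
    · intro y
      rw [hφz0, ← hm]
    · intro x
      by_cases hx : x = 0
      · exact ⟨0, by rw [hx]; simp⟩
      · obtain ⟨i, hi⟩ := hmprim x hx
        refine ⟨σ l0 ^ i, ?_⟩
        rw [map_pow, ← mul_pow, ← hm, hi]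

end Cfsg.Agent.SuzukiRankOne.SzCoord
end

-- part: SuzukiRankOne/SzRel
section
/-!
The field-theoretic part of the identification of the Suzuki groups (S1136): the functional equation
forces `ν = 0` or `ν = 1`, and `θ` or its inverse is a square root of the Frobenius map.
-/

set_option autoImplicit false

namespace Cfsg.Agent.SuzukiRankOne.SzRel

variable {F : Type*} [Field F] [CharP F 2]

/-- elimination of `t` from the two components of the functional equation -/
theorem elim_t (b c T t n u : F) (hT : T * t = 1 + b + c)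
    (P1 : u * ((1 + b) * (1 + c)) * ((1 + b + T) * (1 + c + t)) = (b * c) ^ 2 * ((1 + T) * (1 + t)))
    (P2 : u * ((1 + b) * (1 + c)) * ((1 + c) * T + n * ((1 + c) * T + (1 + b) * t) + T * t) =
      (b * c) * (c * T + n * (c * T + b * t) + T * t + (1 + b) * (c + t) * T +
        n * ((1 + b) * (c + t) * T + (1 + c) * (b + T) * t))) :
    T * (u * ((1 + b) * (1 + c)) * (1 + c) + (b * c) ^ 2) =
      (b * c) * (b * (1 + b + c) + n * ((1 + b) * (1 + c)) * (b + c)) +
        u * ((1 + b) * (1 + c)) * (1 + b + c + n * (b * c)) := by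
  linear_combination (norm := (ring_nf; reduce_mod_char!)) P2 + n * P1 +
   (u * ((1 + b) * (1 + c)) * (1 + n) + (b * c) * (b + n * (b + c) + n * (b * c))) * hT

/-- the relation `L3` -/
def L3 (b c n T : F) : Prop :=
  T * ((b + n * (b + c)) * ((1 + b) * (1 + c)) * (1 + c) + (b * c) ^ 2) =
      (b * c) * (b * (1 + b + c) + n * ((1 + b) * (1 + c)) * (b + c)) +
        (b + n * (b + c)) * ((1 + b) * (1 + c)) * (1 + b + c + n * (b * c))

/-- elimination of `T` -/
theorem elim_T (b c n T : F) (h3 : L3 b c n T) (h4 : L3 (1 + b) (1 + c) n T) :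
    n * (n + 1) * (b * c * ((1 + b) * (1 + c)) * (b + c)) *
      (n * (b ^ 2 + b) + (c ^ 2 + c) * (1 + n + n * (b + c))) = 0 := by
  have two : (2 : F) = 0 := CharTwo.two_eq_zero
  unfold L3 at h3 h4
  have h5 : ((b * c) * (b * (1 + b + c) + n * ((1 + b) * (1 + c)) * (b + c)) +
        (b + n * (b + c)) * ((1 + b) * (1 + c)) * (1 + b + c + n * (b * c))) *
      (((1 + b) + n * ((1 + b) + (1 + c))) * ((1 + (1 + b)) * (1 + (1 + c))) * (1 + (1 + c)) +
        ((1 + b) * (1 + c)) ^ 2) =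
      (((1 + b) * (1 + c)) * ((1 + b) * (1 + (1 + b) + (1 + c)) + n * ((1 + (1 + b)) * (1 + (1 + c))) *
        ((1 + b) + (1 + c))) +
        ((1 + b) + n * ((1 + b) + (1 + c))) * ((1 + (1 + b)) * (1 + (1 + c))) *
          (1 + (1 + b) + (1 + c) + n * ((1 + b) * (1 + c)))) *
      ((b + n * (b + c)) * ((1 + b) * (1 + c)) * (1 + c) + (b * c) ^ 2) := by
    rw [← h3, ← h4]; ring1
  linear_combination h5 + (
    b ^ 5 * c ^ 2 * n ^ 3 + b ^ 5 * c ^ 2 * n ^ 2 - 2 * b ^ 5 * c ^ 2 * n - 2 * b ^ 5 * c ^ 2 + 2 * b ^ 5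
    * c * n ^ 3 + 3 * b ^ 5 * c * n ^ 2 - 3 * b ^ 5 * c * n - 4 * b ^ 5 * c + b ^ 5 * n ^ 3 + 2 * b ^ 5 *
    n ^ 2 - b ^ 5 + b ^ 4 * c ^ 4 * n ^ 3 + 3 * b ^ 4 * c ^ 4 * n ^ 2 + 3 * b ^ 4 * c ^ 4 * n + 5 * b ^ 4
    * c ^ 3 * n ^ 3 + 13 * b ^ 4 * c ^ 3 * n ^ 2 + 12 * b ^ 4 * c ^ 3 * n + 2 * b ^ 4 * c ^ 3 + 12 * b ^
    4 * c ^ 2 * n ^ 3 + 25 * b ^ 4 * c ^ 2 * n ^ 2 + 11 * b ^ 4 * c ^ 2 * n - 2 * b ^ 4 * c ^ 2 + 14 * b
    ^ 4 * c * n ^ 3 + 28 * b ^ 4 * c * n ^ 2 + 3 * b ^ 4 * c * n - 10 * b ^ 4 * c + 6 * b ^ 4 * n ^ 3 +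
    13 * b ^ 4 * n ^ 2 + 5 * b ^ 4 * n - 2 * b ^ 4 + 2 * b ^ 3 * c ^ 5 * n ^ 3 + 3 * b ^ 3 * c ^ 5 * n ^
    2 + 11 * b ^ 3 * c ^ 4 * n ^ 3 + 24 * b ^ 3 * c ^ 4 * n ^ 2 + 12 * b ^ 3 * c ^ 4 * n + 31 * b ^ 3 * c
    ^ 3 * n ^ 3 + 74 * b ^ 3 * c ^ 3 * n ^ 2 + 50 * b ^ 3 * c ^ 3 * n + 6 * b ^ 3 * c ^ 3 + 49 * b ^ 3 *
    c ^ 2 * n ^ 3 + 114 * b ^ 3 * c ^ 2 * n ^ 2 + 72 * b ^ 3 * c ^ 2 * n + 9 * b ^ 3 * c ^ 2 + 40 * b ^ 3
    * c * n ^ 3 + 93 * b ^ 3 * c * n ^ 2 + 50 * b ^ 3 * c * n + 13 * b ^ 3 * n ^ 3 + 32 * b ^ 3 * n ^ 2 +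
    21 * b ^ 3 * n + 2 * b ^ 3 + b ^ 2 * c ^ 6 * n ^ 3 + b ^ 2 * c ^ 6 * n ^ 2 + 9 * b ^ 2 * c ^ 5 * n ^
    3 + 13 * b ^ 2 * c ^ 5 * n ^ 2 + 34 * b ^ 2 * c ^ 4 * n ^ 3 + 64 * b ^ 2 * c ^ 4 * n ^ 2 + 16 * b ^ 2
    * c ^ 4 * n + 72 * b ^ 2 * c ^ 3 * n ^ 3 + 156 * b ^ 2 * c ^ 3 * n ^ 2 + 72 * b ^ 2 * c ^ 3 * n + 6 *
    b ^ 2 * c ^ 3 + 86 * b ^ 2 * c ^ 2 * n ^ 3 + 201 * b ^ 2 * c ^ 2 * n ^ 2 + 119 * b ^ 2 * c ^ 2 * n +
    16 * b ^ 2 * c ^ 2 + 52 * b ^ 2 * c * n ^ 3 + 132 * b ^ 2 * c * n ^ 2 + 90 * b ^ 2 * c * n + 14 * b ^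
    2 * c + 12 * b ^ 2 * n ^ 3 + 35 * b ^ 2 * n ^ 2 + 29 * b ^ 2 * n + 6 * b ^ 2 + 2 * b * c ^ 6 * n ^ 3
    + 2 * b * c ^ 6 * n ^ 2 + 14 * b * c ^ 5 * n ^ 3 + 19 * b * c ^ 5 * n ^ 2 + 43 * b * c ^ 4 * n ^ 3 +
    73 * b * c ^ 4 * n ^ 2 + 9 * b * c ^ 4 * n + 71 * b * c ^ 3 * n ^ 3 + 142 * b * c ^ 3 * n ^ 2 + 41 *
    b * c ^ 3 * n + 2 * b * c ^ 3 + 64 * b * c ^ 2 * n ^ 3 + 146 * b * c ^ 2 * n ^ 2 + 68 * b * c ^ 2 * n
    + 7 * b * c ^ 2 + 28 * b * c * n ^ 3 + 74 * b * c * n ^ 2 + 49 * b * c * n + 8 * b * c + 4 * b * n ^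
    3 + 14 * b * n ^ 2 + 13 * b * n + 3 * b + c ^ 6 * n ^ 3 + c ^ 6 * n ^ 2 + 7 * c ^ 5 * n ^ 3 + 9 * c ^
    5 * n ^ 2 + 19 * c ^ 4 * n ^ 3 + 30 * c ^ 4 * n ^ 2 + 2 * c ^ 4 * n + 25 * c ^ 3 * n ^ 3 + 47 * c ^ 3
    * n ^ 2 + 7 * c ^ 3 * n + 16 * c ^ 2 * n ^ 3 + 35 * c ^ 2 * n ^ 2 + 8 * c ^ 2 * n + 4 * c * n ^ 3 +
    10 * c * n ^ 2 + 3 * c * n) * two

/-- the case `ν = 0` -/
theorem nu_zero (θ : F ≃+* F) (b T : F) (hb0 : b ≠ 0) (hb1 : b ≠ 1) (hT : T * θ T = 1 + b + θ b)
    (hT0 : T ≠ 0) (h3 : L3 b (θ b) 0 T) : b = θ (θ b) ^ 2 := by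
  have two : (2 : F) = 0 := CharTwo.two_eq_zero
  set c := θ b with hc
  have hc0 : c ≠ 0 := by simpa [hc] using hb0
  have hb1' : 1 + b ≠ 0 := by
    intro h
    apply hb1
    linear_combination h - two
  have hc1' : 1 + c ≠ 0 := by
    intro h
    apply hb1
    apply θ.injective
    rw [← hc, map_one]
    linear_combination h - two
  have e1 : T * (1 + b + c ^ 2) = (1 + b + c) ^ 2 := by
    unfold L3 at h3
    have : b * (T * (1 + b + c ^ 2)) = b * (1 + b + c) ^ 2 := by
      linear_combination (norm := (ring_nf; reduce_mod_char!)) h3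
    exact mul_left_cancel₀ hb0 this
  have e2 : θ T * (1 + c + θ c ^ 2) = (1 + c + θ c) ^ 2 := by
    have h := congrArg θ e1
    simpa using h
  have hΔ : 1 + b + c ≠ 0 := by
    rw [← hT]
    exact mul_ne_zero hT0 (by simpa using hT0)
  have e3 : (1 + b + c ^ 2) * (1 + c + θ c ^ 2) = (1 + b + c) * (1 + c + θ c) ^ 2 := by
    apply mul_left_cancel₀ hΔ
    calc (1 + b + c) * ((1 + b + c ^ 2) * (1 + c + θ c ^ 2))
        = (T * (1 + b + c ^ 2)) * (θ T * (1 + c + θ c ^ 2)) := by rw [← hT]; ring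
      _ = _ := by rw [e1, e2]; ring
  have e4 : c * (1 + c) * (b + θ c ^ 2) = 0 := by
    linear_combination (norm := (ring_nf; reduce_mod_char!)) e3
  have e5 : b + θ c ^ 2 = 0 := (mul_eq_zero.1 e4).resolve_left (mul_ne_zero hc0 hc1')
  linear_combination e5 - θ c ^ 2 * two

/-- the exceptional relation has no solution -/
theorem no_exception (θ : F ≃+* F) (hθ : ∃ x, θ x ≠ x) (n : F) (hn : n ≠ 0) (hn1 : n ≠ 1)
    (h : ∀ b, θ b ≠ b → n * (b ^ 2 + b) + (θ b ^ 2 + θ b) * (1 + n + n * (b + θ b)) = 0) : False := by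
  have two : (2 : F) = 0 := CharTwo.two_eq_zero
  have h2 : ∀ x : F, x + x = 0 := fun x => by linear_combination x * two
  have hadd : ∀ x y : F, x + y = 0 → x = y := fun x y hxy => by linear_combination hxy - y * two
  obtain ⟨y0, hy0⟩ := hθ
  have hfixadd : ∀ x y, θ x = x → θ y ≠ y → θ (x + y) ≠ x + y := by
    intro x y hx hy hxy
    apply hy
    rw [map_add, hx] at hxy
    exact add_left_cancel hxy
  -- fixed points lie in the prime field
  have hfix : ∀ x, θ x = x → x ^ 2 + x = 0 := by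
    intro x hx
    by_contra hw
    have hconst : ∀ b, θ b ≠ b → 1 + n + n * (b + θ b) = n := by
      intro b hb
      have e1 := h b hb
      have e2 := h (x + b) (hfixadd x b hx hb)
      rw [map_add, hx] at e2
      have e3 : (x ^ 2 + x) * (1 + n + n * (b + θ b) + n) = 0 := by
        linear_combination (norm := (ring_nf; reduce_mod_char!)) e1 + e2
      have e4 := (mul_eq_zero.1 e3).resolve_left hw
      exact hadd _ _ e4
    have hconst' : ∀ b, θ b ≠ b → θ b = b + 1 := by
      intro b hb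
      have e1 := h b hb
      rw [hconst b hb] at e1
      have e2 : n * ((b + θ b) * (b + θ b + 1)) = 0 := by
        linear_combination (norm := (ring_nf; reduce_mod_char!)) e1
      have e3 := (mul_eq_zero.1 e2).resolve_left hn
      rcases mul_eq_zero.1 e3 with e4 | e4
      · exact absurd (hadd _ _ e4).symm hb
      · linear_combination e4 - (b + 1) * two
    have hx0 : x ≠ 0 := by
      rintro rfl
      apply hw
      ring
    have hx1 : x ≠ 1 := by
      rintro rfl
      apply hw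
      linear_combination two
    have e1 := hconst' y0 hy0
    have hxy : θ (x * y0) ≠ x * y0 := by
      rw [map_mul, hx]
      intro hh
      exact hy0 (mul_left_cancel₀ hx0 hh)
    have e2 := hconst' _ hxy
    rw [map_mul, hx, e1] at e2
    apply hx1
    linear_combination e2
  -- linearisation
  have hlin : ∀ x y, θ x ≠ x → θ y ≠ y →
      (θ x ^ 2 + θ x) * (y + θ y) = (θ y ^ 2 + θ y) * (x + θ x) := by
    intro x y hx hy
    by_cases hxy : θ (x + y) = x + y
    · have e1 := hfix _ hxy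
      have e2 : (θ x ^ 2 + θ x) + (θ y ^ 2 + θ y) = 0 := by
        have := congrArg θ e1
        simp only [map_add, map_pow, map_zero] at this
        linear_combination (norm := (ring_nf; reduce_mod_char!)) this
      rw [map_add] at hxy
      have e3 : x + θ x = y + θ y := by
        linear_combination hxy + (x - θ y) * two
      rw [hadd _ _ e2, e3]
    · have e1 := h x hx
      have e2 := h y hy
      have e3 := h _ hxy
      rw [map_add] at e3
      have e4 : n * ((θ x ^ 2 + θ x) * (y + θ y) + (θ y ^ 2 + θ y) * (x + θ x)) = 0 := by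
        linear_combination (norm := (ring_nf; reduce_mod_char!)) e1 + e2 + e3
      exact hadd _ _ ((mul_eq_zero.1 e4).resolve_left hn)
  have hD : ∀ x, θ x ≠ x → x + θ x ≠ 0 := by
    intro x hx hh
    exact hx (hadd _ _ hh).symm
  -- `θ(w(x)) = γ D(x)` for all `x`
  obtain ⟨γ, hγ⟩ : ∃ γ : F, ∀ x, θ x ^ 2 + θ x = γ * (x + θ x) := by
    refine ⟨(θ y0 ^ 2 + θ y0) / (y0 + θ y0), fun x => ?_⟩
    by_cases hx : θ x = x
    · have e1 := hfix x hx
      rw [hx, e1, h2 x, mul_zero]
    · rw [div_mul_eq_mul_div, eq_div_iff (hD _ hy0)]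
      exact hlin x y0 hx hy0
  have hγ0 : γ ≠ 0 := by
    rintro rfl
    have e1 := hγ y0
    rw [zero_mul] at e1
    have e2 : θ y0 * (θ y0 + 1) = 0 := by linear_combination e1
    apply hy0
    rcases mul_eq_zero.1 e2 with e3 | e3
    · have e4 : y0 = 0 := by simpa using e3
      rw [e4, map_zero]
    · have e4 : θ y0 = 1 := by linear_combination e3 - two
      have e5 : y0 = 1 := by
        apply θ.injective
        rw [e4, map_one]
      rw [e5, map_one]
  -- a nontrivial pair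
  have hγ1 : γ = 1 := by
    by_contra hγ1
    -- `x = (1 + γ⁻¹) c + γ⁻¹ c²`, `c = θ x`
    have e1 : ∀ x, γ * x = (1 + γ) * θ x + θ x ^ 2 := by
      intro x
      linear_combination (norm := (ring_nf; reduce_mod_char!)) hγ x
    -- multiplicativity at `(y0, y0)`
    have e2 := e1 y0
    have e3 := e1 (y0 * y0)
    rw [map_mul] at e3
    have e4 : (1 + γ) * (θ y0 ^ 2 * (1 + θ y0) ^ 2) = 0 := by
      have e5 : (γ * y0) * (γ * y0) = γ * (γ * (y0 * y0)) := by ring
      rw [e2, e3] at e5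
      linear_combination (norm := (ring_nf; reduce_mod_char!)) e5
    have e6 : 1 + γ ≠ 0 := by
      intro hh
      apply hγ1
      linear_combination hh - two
    have e7 := (mul_eq_zero.1 e4).resolve_left e6
    apply hy0
    rcases mul_eq_zero.1 e7 with e8 | e8
    · have e9 : θ y0 = 0 := by simpa using e8
      have e10 : y0 = 0 := by simpa using e9
      rw [e10, map_zero]
    · have e9 : 1 + θ y0 = 0 := by simpa using e8
      have e10 : θ y0 = 1 := by linear_combination e9 - two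
      have e11 : y0 = 1 := by
        apply θ.injective
        rw [e10, map_one]
      rw [e11, map_one]
  have e1 : y0 = θ y0 ^ 2 := by
    have e2 := hγ y0
    rw [hγ1, one_mul] at e2
    linear_combination -e2
  have e2 := h y0 hy0
  have e3 : (1 + n) * (y0 + θ y0) = 0 := by
    clear hy0 hγ hD hlin hfix hfixadd
    generalize θ y0 = c at e1 e2
    subst e1
    linear_combination (norm := (ring_nf; reduce_mod_char!)) e2
  rcases mul_eq_zero.1 e3 with e4 | e4
  · apply hn1
    linear_combination e4 - two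
  · exact hD _ hy0 e4

end Cfsg.Agent.SuzukiRankOne.SzRel
end

-- part: SuzukiRankOne/SzNormal
section
/-!
Normal form of the coordinates in the Suzuki case of S1136: the functional equation forces
`θ² = 2` and the cocycle `x θ(y)`.
-/

set_option autoImplicit false

namespace Cfsg.Agent.SuzukiRankOne.SzNormal

open SzCoord SzRel

variable {P : Type*} [Group P] {φ : P ≃* P} {r : P} {F : Type*} [Field F]
  {θ : F ≃+* F} {ν l : F} {R z : F → P}

theorem z_zero (C : Coord φ r θ ν l R z) : z 0 = 1 := by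
  have h := C.z_add 0 0
  rw [add_zero] at h
  exact (mul_eq_left.mp h.symm)

/-- the functional equation `f (r s^u) ^ u = f (r s^(1+u)) r` -/
def FE (θ : F ≃+* F) (R z : F → P) : Prop :=
  ∀ α β T v : F, α ≠ 0 → β ≠ 0 → α + β = 1 → T * θ T = α * θ α + β * θ β →
    R α * (R β)⁻¹ = R 1 * z (v * θ v) →
    R (v * α / (β * T)) * (R (v / β))⁻¹ = R (β / (α * T)) * (R (1 / α))⁻¹ * R 1

section swap

/-- change of coordinates `x ↦ θ x` -/
theorem swap (C : Coord φ r θ ν l R z) [CharP F 2] :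
    Coord φ r θ.symm (1 + ν) (θ l) (fun x => R (θ.symm x)) z := by
  have two : (2 : F) = 0 := CharTwo.two_eq_zero
  refine ⟨by simpa using C.lne, ?_, C.z_add, C.z_comm, C.z_inj, ?_, ?_, ?_, ?_, ?_, ?_, ?_, ?_⟩
  · intro x hx
    obtain ⟨i, hi⟩ := C.prim (θ.symm x) (by simpa using hx)
    exact ⟨i, by rw [← map_pow, hi, θ.apply_symm_apply]⟩
  · show R (θ.symm 0) = 1
    rw [map_zero, C.R_zero]
  · show R (θ.symm 1) = r
    rw [map_one, C.R_one]
  · intro x y
    show R (θ.symm x) * R (θ.symm y) = R (θ.symm (x + y)) * _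
    rw [C.R_mul, map_add, θ.apply_symm_apply, θ.apply_symm_apply]
    congr 2
    linear_combination (-(θ.symm x * y) - ν * (θ.symm x * y)) * two + (θ.symm x * y) * two * ν
  · intro g
    obtain ⟨x, y, h⟩ := C.surj g
    refine ⟨θ x, y, ?_⟩
    show g = R (θ.symm (θ x)) * z y
    rw [θ.symm_apply_apply, h]
  · intro x y h
    have := C.R_z (θ.symm x) y h
    simpa using this
  · intro x
    show φ (R (θ.symm x)) = R (θ.symm (θ l * x))
    rw [C.φR, map_mul, θ.symm_apply_apply]
  · intro y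
    rw [C.φz, θ.symm_apply_apply]
    congr 1
    ring
  · intro x
    obtain ⟨y, hy⟩ := C.N_surj x
    refine ⟨θ y, ?_⟩
    rw [θ.symm_apply_apply, ← hy]
    ring

theorem swap_FE (h : FE θ R z) : FE θ.symm (fun x => R (θ.symm x)) z := by
  intro α β T v hα hβ hαβ hT hv
  have h1 := h (θ.symm α) (θ.symm β) (θ.symm T) (θ.symm v) (by simpa using hα) (by simpa using hβ)
    (by rw [← map_add, hαβ, map_one])
    (by simp only [θ.apply_symm_apply]; linear_combination hT)
    (by
      rw [θ.apply_symm_apply, mul_comm (θ.symm v)]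
      have h2 : R (θ.symm α) * (R (θ.symm β))⁻¹ = R (θ.symm 1) * z (v * θ.symm v) := hv
      rwa [map_one] at h2)
  show R (θ.symm (v * α / (β * T))) * (R (θ.symm (v / β)))⁻¹ =
    R (θ.symm (β / (α * T))) * (R (θ.symm (1 / α)))⁻¹ * R (θ.symm 1)
  rw [map_div₀, map_mul, map_mul, map_div₀, map_div₀, map_mul, map_div₀, map_one]
  exact h1

end swap

section char2

variable [CharP F 2]

theorem sq (C : Coord φ r θ ν l R z) (x : F) : R x * R x = z (x * θ x) := by
  have two : (2 : F) = 0 := CharTwo.two_eq_zero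
  have e1 : x + x = 0 := by linear_combination x * two
  rw [C.R_mul, e1, C.R_zero, one_mul]
  congr 1
  linear_combination (ν * x * θ x) * two

theorem z_inv (C : Coord φ r θ ν l R z) (y : F) : (z y)⁻¹ = z y := by
  have two : (2 : F) = 0 := CharTwo.two_eq_zero
  rw [inv_eq_iff_mul_eq_one, ← C.z_add]
  have e1 : y + y = 0 := by linear_combination y * two
  rw [e1, z_zero C]

theorem R_inv (C : Coord φ r θ ν l R z) (x : F) : (R x)⁻¹ = R x * z (x * θ x) := by
  rw [inv_eq_iff_mul_eq_one, ← mul_assoc, sq C, ← C.z_add]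
  have two : (2 : F) = 0 := CharTwo.two_eq_zero
  have e1 : x * θ x + x * θ x = 0 := by linear_combination x * θ x * two
  rw [e1, z_zero C]

theorem R_mul_inv (C : Coord φ r θ ν l R z) (x y : F) :
    R x * (R y)⁻¹ = R (x + y) * z (θ x * y + ν * (θ x * y + x * θ y) + y * θ y) := by
  rw [R_inv C, ← mul_assoc, C.R_mul, mul_assoc, ← C.z_add]

theorem unique (C : Coord φ r θ ν l R z) {x y x' y' : F} (h : R x * z y = R x' * z y') :
    x = x' ∧ y = y' := by
  have two : (2 : F) = 0 := CharTwo.two_eq_zero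
  have h1 : R x * (R x')⁻¹ = z (y + y') := by
    have h2 : R x = R x' * z y' * (z y)⁻¹ := by rw [← h, mul_inv_cancel_right]
    rw [h2, z_inv C, mul_assoc (R x'), ← C.z_add, ← C.z_comm, mul_assoc, mul_inv_cancel, mul_one,
      add_comm]
  rw [R_mul_inv C] at h1
  have h3 : R (x + x') = z (y + y' + (θ x * x' + ν * (θ x * x' + x * θ x') + x' * θ x')) := by
    rw [C.z_add, ← h1, mul_assoc, ← C.z_add]
    have e1 : ∀ a : F, a + a = 0 := fun a => by linear_combination a * two
    rw [e1, z_zero C, mul_one]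
  have h4 := C.R_z _ _ h3
  have h5 : x = x' := by linear_combination h4 - x' * two
  subst h5
  exact ⟨rfl, C.z_inj (mul_left_cancel h)⟩

omit [CharP F 2] in
theorem N_inj [Finite F] (C : Coord φ r θ ν l R z) {x y : F} (h : x * θ x = y * θ y) : x = y := by
  have h1 : Function.Surjective (fun x : F => x * θ x) := C.N_surj
  exact (Finite.injective_iff_surjective.2 h1) h

theorem delta_ne [Finite F] (C : Coord φ r θ ν l R z) (b : F) : 1 + b + θ b ≠ 0 := by
  have two : (2 : F) = 0 := CharTwo.two_eq_zero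
  intro h
  have h1 : (1 + b) * θ (1 + b) = b * θ b := by
    rw [map_add, map_one]
    linear_combination h
  have h2 := N_inj C h1
  have h3 : (1 : F) = 0 := by linear_combination h2
  exact one_ne_zero h3

theorem L3_of_FE (C : Coord φ r θ ν l R z) (h : FE θ R z) (b T : F) (hb0 : b ≠ 0) (hb1 : b ≠ 1)
    (hT : T * θ T = 1 + b + θ b) (hT0 : T ≠ 0) : L3 b (θ b) ν T := by
  have two : (2 : F) = 0 := CharTwo.two_eq_zero
  have hα : 1 + b ≠ 0 := by
    intro hh
    apply hb1
    linear_combination hh - two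
  obtain ⟨v, hv⟩ := C.N_surj (b + ν * (b + θ b))
  have h1 := h (1 + b) b T v hα hb0 (by linear_combination b * two)
    (by rw [map_add, map_one]; linear_combination hT - b * θ b * two) (by
      rw [R_mul_inv C, map_add, map_one, hv]
      have e1 : 1 + b + b = 1 := by linear_combination b * two
      rw [e1]
      congr 2
      linear_combination (b * θ b + ν * b * θ b) * two)
  rw [R_mul_inv C, R_mul_inv C, mul_assoc, C.z_comm, ← mul_assoc, C.R_mul, mul_assoc, ← C.z_add] at h1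
  obtain ⟨E1, E2⟩ := unique C h1
  rw [map_one, map_add] at E2
  have hc0 : θ b ≠ 0 := by simpa using hb0
  have hα' : 1 + θ b ≠ 0 := by
    intro hh
    apply hα
    apply θ.injective
    rw [map_add, map_one, map_zero, hh]
  have ht0 : θ T ≠ 0 := by simpa using hT0
  have hx1 : v * (1 + b) / (b * T) * (b * T) = v * (1 + b) := div_mul_cancel₀ _ (mul_ne_zero hb0 hT0)
  have hx2 : v / b * b = v := div_mul_cancel₀ _ hb0
  have hx1' : b / ((1 + b) * T) * ((1 + b) * T) = b := div_mul_cancel₀ _ (mul_ne_zero hα hT0)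
  have hx2' : 1 / (1 + b) * (1 + b) = 1 := div_mul_cancel₀ _ hα
  have ht1 := congrArg θ hx1
  have ht2 := congrArg θ hx2
  have ht1' := congrArg θ hx1'
  have ht2' := congrArg θ hx2'
  simp only [map_mul, map_add, map_one] at ht1 ht2 ht1' ht2'
  generalize θ (v * (1 + b) / (b * T)) = t1 at *
  generalize v * (1 + b) / (b * T) = x1 at *
  generalize θ (v / b) = t2 at *
  generalize v / b = x2 at *
  generalize hx1'' : b / ((1 + b) * T) = x1' at *
  generalize hx2'' : 1 / (1 + b) = x2' at *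
  generalize ht1'' : θ x1' = t1' at *
  generalize ht2'' : θ x2' = t2' at *
  -- `E1` multiplied out
  have F1 : v * ((1 + b) * (1 + b + T)) = b ^ 2 * (1 + T) := by
    linear_combination ((1 + b) * b * T) * E1 - (1 + b) * hx1 - ((1 + b) * T) * hx2 + b * hx1' +
      (b * T) * hx2' + (b * T) * two
  have F2 : θ v * ((1 + θ b) * (1 + θ b + θ T)) = θ b ^ 2 * (1 + θ T) := by
    have := congrArg θ F1
    simpa using this
  have P1 : (b + ν * (b + θ b)) * ((1 + b) * (1 + θ b)) * ((1 + b + T) * (1 + θ b + θ T)) =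
      (b * θ b) ^ 2 * ((1 + T) * (1 + θ T)) := by
    rw [← hv]
    calc v * θ v * ((1 + b) * (1 + θ b)) * ((1 + b + T) * (1 + θ b + θ T))
        = (v * ((1 + b) * (1 + b + T))) * (θ v * ((1 + θ b) * (1 + θ b + θ T))) := by ring
      _ = _ := by rw [F1, F2]; ring
  have h1 : t1 * x2 * (b * θ b * (T * θ T)) = v * θ v * ((1 + θ b) * T) := by
    linear_combination (x2 * b * T) * ht1 + (θ v * (1 + θ b) * T) * hx2
  have h2 : x1 * t2 * (b * θ b * (T * θ T)) = v * θ v * ((1 + b) * θ T) := by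
    linear_combination (t2 * θ b * θ T) * hx1 + (v * (1 + b) * θ T) * ht2
  have h3 : x2 * t2 * (b * θ b * (T * θ T)) = v * θ v * (T * θ T) := by
    linear_combination (t2 * θ b * T * θ T) * hx2 + (v * T * θ T) * ht2
  have h4 : t1' * x2' * ((1 + b) * (1 + θ b) * (T * θ T)) = θ b * T := by
    linear_combination (x2' * (1 + b) * T) * ht1' + (θ b * T) * hx2'
  have h5 : x1' * t2' * ((1 + b) * (1 + θ b) * (T * θ T)) = b * θ T := by
    linear_combination (t2' * (1 + θ b) * θ T) * hx1' + (b * θ T) * ht2'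
  have h6 : x2' * t2' * ((1 + b) * (1 + θ b) * (T * θ T)) = T * θ T := by
    linear_combination (t2' * (1 + θ b) * T * θ T) * hx2' + (T * θ T) * ht2'
  have h7 : (t1' + t2') * ((1 + b) * (1 + θ b) * (T * θ T)) = (1 + b) * (θ b + θ T) * T := by
    linear_combination ((1 + b) * T) * ht1' + ((1 + b) * T * θ T) * ht2'
  have h8 : (x1' + x2') * ((1 + b) * (1 + θ b) * (T * θ T)) = (1 + θ b) * (b + T) * θ T := by
    linear_combination ((1 + θ b) * θ T) * hx1' + ((1 + θ b) * T * θ T) * hx2'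
  have P2 : (b + ν * (b + θ b)) * ((1 + b) * (1 + θ b)) *
      ((1 + θ b) * T + ν * ((1 + θ b) * T + (1 + b) * θ T) + T * θ T) =
      (b * θ b) * (θ b * T + ν * (θ b * T + b * θ T) + T * θ T + (1 + b) * (θ b + θ T) * T +
        ν * ((1 + b) * (θ b + θ T) * T + (1 + θ b) * (b + T) * θ T)) := by
    rw [← hv]
    linear_combination ((1 + b) * (1 + θ b) * (b * θ b) * (T * θ T)) * E2 -
      ((1 + b) * (1 + θ b)) * (1 + ν) * h1 - ((1 + b) * (1 + θ b)) * ν * h2 -
      ((1 + b) * (1 + θ b)) * h3 + (b * θ b) * ((1 + ν) * h4 + ν * h5 + h6 + (1 + ν) * h7 + ν * h8)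
  exact elim_t b (θ b) T (θ T) ν (b + ν * (b + θ b)) hT P1 P2

theorem exists_T [Finite F] (C : Coord φ r θ ν l R z) (b : F) : ∃ T, T * θ T = 1 + b + θ b ∧ T ≠ 0 := by
  obtain ⟨T, hT⟩ := C.N_surj (1 + b + θ b)
  refine ⟨T, hT, ?_⟩
  rintro rfl
  rw [zero_mul] at hT
  exact delta_ne C b hT.symm

/-- the case `ν = 0` -/
theorem sq_of_zero [Finite F] (C : Coord φ r θ 0 l R z) (h : FE θ R z) (b : F) : b = θ (θ b) ^ 2 := by
  by_cases hb0 : b = 0
  · subst hb0; simp
  by_cases hb1 : b = 1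
  · subst hb1; simp
  obtain ⟨T, hT, hT0⟩ := exists_T C b
  exact nu_zero θ b T hb0 hb1 hT hT0 (L3_of_FE C h b T hb0 hb1 hT hT0)

theorem swap_one (C : Coord φ r θ 1 l R z) :
    Coord φ r θ.symm 0 (θ l) (fun x => R (θ.symm x)) z := by
  have := swap C
  have e1 : (1 : F) + 1 = 0 := by
    have two : (2 : F) = 0 := CharTwo.two_eq_zero
    linear_combination two
  rwa [e1] at this

theorem swap_zero (C : Coord φ r θ 0 l R z) :
    Coord φ r θ.symm 1 (θ l) (fun x => R (θ.symm x)) z := by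
  have := swap C
  rwa [add_zero] at this

/-- Normal form. -/
theorem exists_normal [Finite F] (C : Coord φ r θ ν l R z) (h : FE θ R z) (hF : ∃ x : F, x ≠ 0 ∧ x ≠ 1) :
    ∃ (θ' : F ≃+* F) (l' : F) (R' : F → P), Coord φ r θ' 1 l' R' z ∧ FE θ' R' z ∧
      ∀ x, θ' (θ' x) = x ^ 2 := by
  have two : (2 : F) = 0 := CharTwo.two_eq_zero
  by_cases hν1 : ν = 1
  · subst hν1
    refine ⟨θ, l, R, C, h, fun x => ?_⟩
    have h1 := sq_of_zero (swap_one C) (swap_FE h) (θ (θ x))
    rw [θ.symm_apply_apply, θ.symm_apply_apply] at h1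
    exact h1
  by_cases hν0 : ν = 0
  · subst hν0
    refine ⟨θ.symm, θ l, fun x => R (θ.symm x), swap_zero C, swap_FE h, fun x => ?_⟩
    have h1 := sq_of_zero C h (θ.symm (θ.symm x))
    rw [θ.apply_symm_apply, θ.apply_symm_apply] at h1
    exact h1
  exfalso
  by_cases hθ : ∃ x, θ x ≠ x
  · apply no_exception θ hθ ν hν0 hν1
    intro b hb
    have hb0 : b ≠ 0 := by rintro rfl; exact hb (map_zero θ)
    have hb1 : b ≠ 1 := by rintro rfl; exact hb (map_one θ)
    have hα : 1 + b ≠ 0 := by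
      intro hh
      apply hb1
      linear_combination hh - two
    have hα1 : 1 + b ≠ 1 := by
      intro hh
      apply hb0
      linear_combination hh
    obtain ⟨T, hT, hT0⟩ := exists_T C b
    have h3 := L3_of_FE C h b T hb0 hb1 hT hT0
    have h4 := L3_of_FE C h (1 + b) T hα hα1 (by
      rw [map_add, map_one, hT]
      linear_combination -two) hT0
    rw [map_add, map_one] at h4
    have h5 := elim_T b (θ b) ν T h3 h4
    have hc0 : θ b ≠ 0 := by simpa using hb0
    have hα' : 1 + θ b ≠ 0 := by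
      intro hh
      apply hα
      apply θ.injective
      rw [map_add, map_one, map_zero, hh]
    have hn1 : ν + 1 ≠ 0 := by
      intro hh
      apply hν1
      linear_combination hh - two
    have hbc : b + θ b ≠ 0 := by
      intro hh
      apply hb
      linear_combination hh - b * two
    exact (mul_eq_zero.1 h5).resolve_left (mul_ne_zero (mul_ne_zero hν0 hn1)
      (mul_ne_zero (mul_ne_zero (mul_ne_zero hb0 hc0) (mul_ne_zero hα hα')) hbc))
  · push Not at hθ
    -- `θ = 1`: we may replace `ν` by `0`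
    have C0 : Coord φ r θ 0 l R z :=
      { C with
        R_mul := by
          intro x y
          rw [C.R_mul, hθ, hθ]
          congr 2
          linear_combination (ν * x * y) * two }
    obtain ⟨x, hx0, hx1⟩ := hF
    have h1 := sq_of_zero C0 h x
    rw [hθ, hθ] at h1
    have h2 : x * (x - 1) = 0 := by linear_combination -h1
    rcases mul_eq_zero.1 h2 with h3 | h3
    · exact hx0 h3
    · exact hx1 (by linear_combination h3)

end char2

end Cfsg.Agent.SuzukiRankOne.SzNormal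
end

-- part: SuzukiRankOne/SzBridge
section
/-!
Normal form of `Q` in the Suzuki case of the rank-one set-up (S1136): if `t s t = r⁻¹ t r`, `r² = s`
and `|Q| = q²` then `Q` is the Suzuki 2-group of type `A(θ)` with `θ² = 2`, equivariantly.
-/

set_option autoImplicit false

namespace Cfsg.Agent.SuzukiRankOne.SzBridge

open MulAction
open Cfsg.Agent.SuzukiRankOne.SingerField Cfsg.Agent.SuzukiRankOne.StructFun
open Cfsg.Agent.SuzukiRankOne.SzF Cfsg.Agent.SuzukiRankOne.SzCoord Cfsg.Agent.SuzukiRankOne.SzNormal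

variable {G Ω : Type*} [Group G] [MulAction G Ω] {a : Ω} {t : G} {Q : Subgroup G}
variable {F : Type} [Field F] [MulDistribMulAction Fˣ Q] {κ : Fˣ →* G} {δ : F → Q} {r : Q}

/-- the automorphism `x ↦ g • x` of `Q` -/
def phi (Q : Subgroup G) {F : Type} [Field F] [MulDistribMulAction Fˣ Q] (g : Fˣ) : Q ≃* Q :=
  MulDistribMulAction.toMulEquiv Q g

theorem phi_iterate (g : Fˣ) (i : ℕ) (x : Q) : (phi Q g)^[i] x = g ^ i • x := by
  induction i generalizing x with
  | zero => rw [pow_zero, one_smul]; rfl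
  | succ i ih =>
    rw [Function.iterate_succ_apply, ih]
    show g ^ i • g • x = _
    rw [smul_smul, pow_succ]

section

variable {θ : F ≃+* F} {ν l : F} {R : F → Q} {g : Fˣ}

theorem coord_l (T : Torus a t Q F κ δ) (C : Coord (phi Q g) r θ ν l R δ) : l * θ l = g := by
  have h1 := C.φz 1
  have h2 : phi Q g (δ 1) = g • δ 1 := rfl
  rw [h2, T.singer.smul, mul_one, mul_one] at h1
  exact (T.singer.inj h1).symm

theorem coord_smul (T : Torus a t Q F κ δ) (C : Coord (phi Q g) r θ ν l R δ) (c : Fˣ) (y : F)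
    (hc : (c : F) = y * θ y) (x : F) : c • R x = R (y * x) := by
  have hy : y ≠ 0 := by
    rintro rfl
    rw [zero_mul] at hc
    exact c.ne_zero hc
  obtain ⟨i, rfl⟩ := C.prim y hy
  have h1 : c = g ^ i := by
    apply Units.ext
    rw [hc, map_pow, ← mul_pow, coord_l T C, Units.val_pow_eq_pow_val]
  rw [h1, ← phi_iterate]
  clear hc hy h1
  induction i generalizing x with
  | zero => simp
  | succ i ih =>
    rw [Function.iterate_succ_apply, C.φR, ih]
    congr 1
    ring

theorem coord_R (T : Torus a t Q F κ δ) (C : Coord (phi Q g) r θ ν l R δ) (c : Fˣ) (y : F)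
    (hc : (c : F) = y * θ y) : R y = c • r := by
  rw [← C.R_one, coord_smul T C c y hc, mul_one]

end

section

variable [CharP F 2] {θ : F ≃+* F} {ν l : F} {R : F → Q} {g : Fˣ}

/-- the functional equation holds -/
theorem FE_of_base [Finite F] (B : Base a t Q F κ δ r) (hr : r * r = δ 1)
    (C : Coord (phi Q g) r θ ν l R δ) : FE θ R δ := by
  have T := B.torus
  have two : (2 : F) = 0 := CharTwo.two_eq_zero
  intro α β τ v hα hβ hαβ hτ hv
  have hN : ∀ x : F, x ≠ 0 → ∃ c : Fˣ, (c : F) = x * θ x := fun x hx =>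
    ⟨Units.mk0 (x * θ x) (mul_ne_zero hx ((map_ne_zero θ).2 hx)), rfl⟩
  have hτ0 : τ ≠ 0 := by
    rintro rfl
    rw [zero_mul] at hτ
    have h1 : α * θ α = β * θ β := by linear_combination -hτ - β * θ β * two
    have h2 := N_inj C h1
    rw [h2] at hαβ
    have h3 : (1 : F) = 0 := by linear_combination -hαβ + β * two
    exact one_ne_zero h3
  obtain ⟨b, hb⟩ := hN α hα
  obtain ⟨c, hc⟩ := hN β hβ
  obtain ⟨d, hd⟩ := hN τ hτ0
  have hd' : (d : F) = b + c := by rw [hd, hb, hc, hτ]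
  have hd'' : (d : F) = c + b := by rw [hd', add_comm]
  have hsq : ∀ c : Fˣ, (c • r) * (c • r) = δ (c : F) := by
    intro c
    rw [← smul_mul', hr, smul_one_delta T]
  rw [coord_R T C b α hb, coord_R T C c β hc, C.R_one] at hv
  obtain ⟨-, -, hf1⟩ := form_iff B.setup (B.form_bracket hd')
  obtain ⟨-, -, hf2⟩ := form_iff B.setup (B.form_bracket hd'')
  by_cases hv0 : v = 0
  · exfalso
    rw [hv0, zero_mul, delta_zero T, mul_one] at hv
    rw [hv] at hf1
    obtain ⟨-, -, h3⟩ := form_iff B.setup B.form_r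
    rw [h3] at hf1
    have h4 : (b * c⁻¹ * d⁻¹) • r = δ 1 * (c⁻¹ • r) := by rw [hf1, inv_mul_cancel_right]
    have h5 := hsq (b * c⁻¹ * d⁻¹)
    rw [h4] at h5
    have h6 : δ 1 * (c⁻¹ • r) * (δ 1 * (c⁻¹ • r)) = δ ((c⁻¹ : Fˣ) : F) := by
      rw [mul_assoc, ← mul_assoc (c⁻¹ • r), ← T.singer.central 1 (c⁻¹ • r), ← mul_assoc, ← mul_assoc,
        delta_mul_self T, one_mul, hsq]
    rw [h6] at h5
    have h7 : c⁻¹ = b * c⁻¹ * d⁻¹ := Units.ext (T.singer.inj h5)
    have h8 : d = b := by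
      have h9 : c⁻¹ * d = c⁻¹ * b := by
        rw [h7]
        calc b * c⁻¹ * d⁻¹ * d = c⁻¹ * b := by rw [inv_mul_cancel_right, mul_comm]
          _ = (b * c⁻¹ * d⁻¹) * b := by rw [← h7]
      exact mul_left_cancel h9
    rw [h8] at hd'
    exact c.ne_zero (by linear_combination -hd')
  obtain ⟨u, hu⟩ := hN v hv0
  rw [← hu] at hv
  -- `F(u)` and `F(u + 1)`
  have hFu : FF B u = (b * c⁻¹ * d⁻¹) • r * (c⁻¹ • r)⁻¹ := by
    rw [← hf1, hv]; rfl
  have hFu1 : FF B ((u : F) + 1) = (c * b⁻¹ * d⁻¹) • r * (b⁻¹ • r)⁻¹ := by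
    rw [← hf2]
    have h1 : (c • r) * (b • r)⁻¹ = ((b • r) * (c • r)⁻¹)⁻¹ := by group
    rw [h1, hv, inv_r_mul_delta hr T]
    rfl
  have hstep := (B.FF_step hr u).1
  rw [hFu, hFu1, smul_mul', smul_inv', smul_smul, smul_smul] at hstep
  have e1 : R (v * α / (β * τ)) = (u * (b * c⁻¹ * d⁻¹)) • r := by
    apply coord_R T C
    simp only [Units.val_mul, Units.val_inv_eq_inv_val, hu, hb, hc, hd]
    rw [map_div₀, map_mul, map_mul]
    have := (map_ne_zero θ).2 hβ
    have := (map_ne_zero θ).2 hτ0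
    field_simp
  have e2 : R (v / β) = (u * c⁻¹) • r := by
    apply coord_R T C
    simp only [Units.val_mul, Units.val_inv_eq_inv_val, hu, hc]
    rw [map_div₀]
    have := (map_ne_zero θ).2 hβ
    field_simp
  have e3 : R (β / (α * τ)) = (c * b⁻¹ * d⁻¹) • r := by
    apply coord_R T C
    simp only [Units.val_mul, Units.val_inv_eq_inv_val, hb, hc, hd]
    rw [map_div₀, map_mul]
    have := (map_ne_zero θ).2 hα
    have := (map_ne_zero θ).2 hτ0
    field_simp
  have e4 : R (1 / α) = b⁻¹ • r := by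
    apply coord_R T C
    simp only [Units.val_inv_eq_inv_val, hb]
    rw [map_div₀, map_one]
    have := (map_ne_zero θ).2 hα
    field_simp
  rw [e1, e2, e3, e4, C.R_one]
  exact hstep

/-- **Normal form of `Q`** in the Suzuki case. -/
theorem exists_normal_form [Finite G] [Fintype F] (B : Base a t Q F κ δ r) (hr : r * r = δ 1)
    (hcard : Nat.card Q = Fintype.card F ^ 2) (hF : 2 < Fintype.card F) :
    ∃ (θ : F ≃+* F) (R : F → Q), (∀ x, θ (θ x) = x ^ 2) ∧ R 0 = 1 ∧ R 1 = r ∧
      (∀ x y, R x * R y = R (x + y) * δ (x * θ y)) ∧ (∀ g, ∃ x y, g = R x * δ y) ∧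
      (∀ x y x' y', R x * δ y = R x' * δ y' → x = x' ∧ y = y') ∧
      (∀ (c : Fˣ) (l : F), (c : F) = l * θ l → ∀ x, c • R x = R (l * x)) ∧
      Function.Bijective (fun x : F => x * θ x) := by
  classical
  have T := B.torus
  have two : (2 : F) = 0 := CharTwo.two_eq_zero
  obtain ⟨g, hg⟩ := IsCyclic.exists_generator (α := Fˣ)
  have hgp : ∀ c : Fˣ, ∃ i : ℕ, g ^ i = c := by
    intro c
    have := hg c
    rw [← mem_powers_iff_mem_zpowers] at this
    exact Submonoid.mem_powers_iff _ _ |>.mp this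
  have hmprim : ∀ x : F, x ≠ 0 → ∃ i : ℕ, (g : F) ^ i = x := by
    intro x hx
    obtain ⟨i, hi⟩ := hgp (Units.mk0 x hx)
    refine ⟨i, ?_⟩
    rw [← Units.val_pow_eq_pow_val, hi, Units.val_mk0]
  obtain ⟨θ, ν, l, R, C⟩ := exists_coord (P := Q) δ (g : F) T.singer.add T.singer.central T.singer.inj
    (phi Q g) (fun y => T.singer.smul g y) hmprim hF hcard (fun x => by
      rw [phi_iterate]
      have h1 : Fintype.card F - 1 = Nat.card Fˣ := by
        rw [Nat.card_units, Nat.card_eq_fintype_card]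
      rw [h1, pow_card_eq_one', one_smul]) r hr (fun x hx => by
      rcases B.cases_of_card hr (by rw [hcard, Nat.card_eq_fintype_card]) x with ⟨u, hu⟩ | ⟨c, u, hu⟩
      · exact absurd hu (hx u)
      · obtain ⟨i, hi⟩ := hgp c
        refine ⟨i, (c : F) * u, ?_⟩
        rw [phi_iterate, hi, hu, smul_mul', T.singer.smul])
  have hex : ∃ x : F, x ≠ 0 ∧ x ≠ 1 := by
    by_contra hcon
    push Not at hcon
    have h1 : (Finset.univ : Finset F) ⊆ {0, 1} := by
      intro x _
      by_cases hx : x = 0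
      · simp [hx]
      · simp [hcon x hx]
    have h2 := Finset.card_le_card h1
    have h3 : ({0, 1} : Finset F).card ≤ 2 := Finset.card_le_two
    rw [Finset.card_univ] at h2
    omega
  obtain ⟨θ', l', R', C', -, hθ'⟩ := exists_normal C (FE_of_base B hr C) hex
  refine ⟨θ', R', hθ', C'.R_zero, C'.R_one, fun x y => ?_, C'.surj, fun x y x' y' h => unique C' h,
    fun c l hc x => coord_smul T C' c l hc x, ⟨fun x y h => N_inj C' h, C'.N_surj⟩⟩
  rw [C'.R_mul]
  congr 2
  linear_combination (θ' x * y) * two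

end

end Cfsg.Agent.SuzukiRankOne.SzBridge
end

-- part: SuzukiRankOne/SzCase
section
/-!
The Suzuki case of S1136: a simple rank-one group with structure equation `t s t = r⁻¹ t r`,
`r² = s` and `|Q| = q²` is a Suzuki group.
-/

set_option autoImplicit false
set_option linter.style.haveILetI false

namespace Cfsg.Agent.SuzukiRankOne.SzCase

open MulAction
open Cfsg.Agent.SuzukiRankOne.SingerField Cfsg.Agent.SuzukiRankOne.SzF
open Cfsg.Agent.SuzukiRankOne.SzBridge Cfsg.Agent.SuzukiRankOne.SzModel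
open Cfsg.Agent.LieRecognition.SzMatrix

/-- An automorphism of a finite field of characteristic two whose square is the Frobenius map. -/
theorem field_of_sq {F : Type*} [Field F] [Fintype F] [CharP F 2] (θ : F ≃+* F)
    (hF : 2 < Fintype.card F) (h : ∀ x, θ (θ x) = x ^ 2) :
    ∃ m : ℕ, 1 ≤ m ∧ Fintype.card F = 2 ^ (2 * m + 1) ∧ ∀ x, θ x = x ^ (2 ^ (m + 1)) := by
  haveI : Fact (Nat.Prime 2) := ⟨Nat.prime_two⟩
  letI : Algebra (ZMod 2) F := ZMod.algebra F 2
  haveI : Algebra.IsAlgebraic (ZMod 2) F := Algebra.IsAlgebraic.of_finite (ZMod 2) F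
  let θ' : F ≃ₐ[ZMod 2] F := AlgEquiv.ofRingEquiv (f := θ) (fun r => by
    have := DFunLike.congr_fun (Subsingleton.elim
      ((θ : F →+* F).comp (algebraMap (ZMod 2) F)) (algebraMap (ZMod 2) F)) r
    exact this)
  have hθ' : ∀ x, θ' x = θ x := fun x => rfl
  obtain ⟨j, hj', hjn⟩ : ∃ j : ℕ, (FiniteField.frobeniusAlgEquivOfAlgebraic (ZMod 2) F) ^ j = θ' ∧
      j < Module.finrank (ZMod 2) F := by
    obtain ⟨j, hj⟩ := (FiniteField.bijective_frobeniusAlgEquivOfAlgebraic_pow (ZMod 2) F).2 θ'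
    exact ⟨j, hj, j.2⟩
  set n := Module.finrank (ZMod 2) F with hn
  have hcard : Fintype.card F = 2 ^ n := by
    have := Module.card_eq_pow_finrank (K := ZMod 2) (V := F)
    rw [ZMod.card] at this
    exact this
  have hn2 : 2 ≤ n := by
    by_contra hcon
    have h1 : n ≤ 1 := by omega
    have h2 : 2 ^ n ≤ 2 ^ 1 := Nat.pow_le_pow_right (by norm_num) h1
    omega
  have hpow : ∀ (i : ℕ) (x : F),
      ((FiniteField.frobeniusAlgEquivOfAlgebraic (ZMod 2) F) ^ i) x = x ^ (2 ^ i) := by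
    intro i x
    have h1 := congrFun (FiniteField.coe_frobeniusAlgEquivOfAlgebraic_iterate (ZMod 2) F i) x
    rw [ZMod.card] at h1
    rw [← h1, AlgEquiv.coe_pow]
  have hθj : ∀ x, θ x = x ^ (2 ^ j) := by
    intro x
    rw [← hθ', ← hj']
    exact hpow _ x
  have hord : orderOf (FiniteField.frobeniusAlgEquivOfAlgebraic (ZMod 2) F) = n :=
    FiniteField.orderOf_frobeniusAlgEquivOfAlgebraic (ZMod 2) F
  have h2j : (FiniteField.frobeniusAlgEquivOfAlgebraic (ZMod 2) F) ^ (2 * j) =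
      (FiniteField.frobeniusAlgEquivOfAlgebraic (ZMod 2) F) ^ 1 := by
    ext x
    rw [hpow, hpow]
    have h3 := h x
    rw [hθj (θ x), hθj x, ← pow_mul, ← pow_add] at h3
    rw [two_mul, h3, pow_one]
  rw [pow_eq_pow_iff_modEq, hord] at h2j
  have h4 : 2 * j = n + 1 := by
    rcases Nat.lt_or_ge (2 * j) 1 with h5 | h5
    · have h6 : 2 * j = 0 := by omega
      rw [h6] at h2j
      have h7 : n ∣ 1 := (Nat.modEq_iff_dvd' (by omega)).1 h2j
      have := Nat.le_of_dvd one_pos h7
      omega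
    · have h6 : n ∣ 2 * j - 1 := (Nat.modEq_iff_dvd' h5).1 h2j.symm
      obtain ⟨k, hk⟩ := h6
      have h7 : k < 2 := by
        by_contra hcon
        have h8 : 2 ≤ k := by omega
        have h9 : n * 2 ≤ n * k := Nat.mul_le_mul_left n h8
        omega
      interval_cases k
      · omega
      · omega
  refine ⟨j - 1, by omega, ?_, fun x => ?_⟩
  · rw [hcard]
    congr 1
    omega
  · rw [hθj x]
    congr 2
    omega

section

variable {G Ω : Type*} [Group G] [MulAction G Ω] {a : Ω} {t : G} {Q : Subgroup G}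

/-- **The Suzuki case**, with the Singer data given. -/
theorem isoSuzuki_of_base {F : Type} [Field F] [Fintype F] [CharP F 2] [MulDistribMulAction Fˣ Q]
    {κ : Fˣ →* G} {δ : F → Q} {r : Q} [Finite G] [FaithfulSMul G Ω] (B : Base a t Q F κ δ r)
    (hr : r * r = δ 1) (hcard : Nat.card Q = Fintype.card F ^ 2) (hF : 2 < Fintype.card F)
    (h2 : ∃ x y : G, x ≠ 1 ∧ y ≠ 1 ∧ x ≠ y ∧ x * x = 1 ∧ y * y = 1 ∧ x * y = y * x)
    (hgen : Subgroup.closure ((Q : Set G) ∪ {t}) = ⊤) : Cfsg.Lie.IsoSuzuki G := by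
  classical
  have T := B.torus
  obtain ⟨θ, R, hθ, hR0, hR1, hRR, hsurj, huniq, hsm, hN⟩ := exists_normal_form B hr hcard hF
  obtain ⟨m, hm, hcF, hθm⟩ := field_of_sq θ hF hθ
  have H := good hcF
  have hth : ∀ x, theta hcF x = θ x := fun x => by rw [theta_apply, hθm]
  let ψ : F × F ≃ Q := Equiv.ofBijective (fun p => R p.1 * δ p.2) ⟨by
    rintro ⟨x, y⟩ ⟨x', y'⟩ h
    obtain ⟨h1, h3⟩ := huniq x y x' y' h
    rw [h1, h3], by
    intro g
    obtain ⟨x, y, h⟩ := hsurj g
    exact ⟨(x, y), h.symm⟩⟩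
  have hψ : ∀ p, ψ p = R p.1 * δ p.2 := fun p => rfl
  let e : Q ≃ H.unip := ψ.symm.trans H.unipEquiv
  have he : ∀ x y, e (R x * δ y) = uu H x y := by
    intro x y
    have h1 : ψ.symm (R x * δ y) = (x, y) := by
      rw [Equiv.symm_apply_eq]
      rfl
    show H.unipEquiv (ψ.symm (R x * δ y)) = _
    rw [h1]
    rfl
  have hmul : ∀ x y x' y', (R x * δ y) * (R x' * δ y') = R (x + x') * δ (y + y' + x * θ x') := by
    intro x y x' y'
    calc (R x * δ y) * (R x' * δ y') = R x * (δ y * R x') * δ y' := by group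
      _ = (R x * R x') * (δ y * δ y') := by rw [T.singer.central]; group
      _ = R (x + x') * (δ (x * θ x') * δ (y + y')) := by rw [hRR, ← T.singer.add]; group
      _ = _ := by rw [← T.singer.add, add_comm (x * θ x')]
  let φ : Q ≃* H.unip :=
    { e with
      map_mul' := by
        intro g g'
        obtain ⟨x, y, rfl⟩ := hsurj g
        obtain ⟨x', y', rfl⟩ := hsurj g'
        show e _ = e _ * e _
        rw [hmul, he, he, he, uu_mul, hth] }
  have hφ : ∀ x y, φ (R x * δ y) = uu H x y := he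
  have hφr : φ r = uu H 1 0 := by
    rw [← hφ, hR1, delta_zero T, mul_one]
  refine ⟨F, inferInstance, inferInstance, m, hm, hcF, ?_⟩
  refine nonempty_mulEquiv B hr (by rw [hcard, Nat.card_eq_fintype_card]) h2 hgen H φ hφr ?_
  intro c g
  obtain ⟨x, y, rfl⟩ := hsurj g
  obtain ⟨l, hl⟩ := hN.2 (c : F)
  have hl : l * θ l = c := hl
  have hl0 : l ≠ 0 := by
    rintro rfl
    rw [zero_mul] at hl
    exact c.ne_zero hl.symm
  have hθl : θ l ≠ 0 := (map_ne_zero θ).2 hl0
  rw [smul_mul', hsm c l hl.symm, T.singer.smul, hφ, hφ, act_smul, hth, ← hl, map_mul, hθ]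
  congr 1
  · field_simp
  · ring

/-- **The Suzuki case of S1136.** (`hK` is the conclusion of S1131.) -/
theorem isoSuzuki [Finite G] [FaithfulSMul G Ω] [IsSimpleGroup G]
    (hS : Cfsg.IsRankOneSetup G Ω a t Q)
    (h2 : ∃ x y : G, x ≠ 1 ∧ y ≠ 1 ∧ x ≠ y ∧ x * x = 1 ∧ y * y = 1 ∧ x * y = y * x)
    (hK : ∃ C : Subgroup G,
      (C : Set G) = Cfsg.invertedBy (stabilizer G a ⊓ stabilizer G (t • a)) t ∧ IsCyclic C ∧
      ∀ d ∈ (stabilizer G a ⊓ stabilizer G (t • a)), ∀ c ∈ C, d * c * d⁻¹ ∈ C)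
    {s r : G} (hs : s ∈ Cfsg.involutionsIn (stabilizer G a : Set G)) (hr : r ∈ Q)
    (hsr : t * s * t = r⁻¹ * t * r) (hrs : r * r = s)
    (hcard : Nat.card Q = (Nat.card (Cfsg.involutionsIn (stabilizer G a : Set G)) + 1) ^ 2) :
    Cfsg.Lie.IsoSuzuki G := by
  classical
  obtain ⟨hcen, -⟩ := Cfsg.Agent.S1130.result hS h2
  obtain ⟨C, hC, hCc, -⟩ := hK
  obtain ⟨F, iF, iFt, iFc, κ, iA, δ, T, hδ1⟩ := exists_torus hS hcen C hC hCc s hs
  have B : Base a t Q F κ δ ⟨r, hr⟩ := ⟨hS, T, by rw [hδ1]; exact hsr⟩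
  have hr' : (⟨r, hr⟩ : Q) * ⟨r, hr⟩ = δ 1 := Subtype.ext (by rw [hδ1]; exact hrs)
  -- the number of involutions
  have hI : Nat.card (Cfsg.involutionsIn (stabilizer G a : Set G)) = Nat.card Fˣ := by
    refine (Nat.card_congr (Equiv.ofBijective (fun c : Fˣ =>
      (⟨(δ (c : F) : G), hS.le (δ (c : F)).2, fun h => delta_ne_one T c.ne_zero (Subtype.ext h),
        congrArg Subtype.val (delta_mul_self T (c : F))⟩ :
        Cfsg.involutionsIn (stabilizer G a : Set G))) ⟨?_, ?_⟩)).symm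
    · intro c d hcd
      have h1 : (δ (c : F) : G) = δ (d : F) :=
        congrArg (fun z : Cfsg.involutionsIn (stabilizer G a : Set G) => (z : G)) hcd
      exact Units.ext (T.singer.inj (Subtype.ext h1))
    · rintro ⟨x, hx1, hx2, hx3⟩
      have hxQ : x ∈ Q := (hcen x ⟨hx1, hx2, hx3⟩).1
      obtain ⟨c, hc⟩ := (T.singer.inv ⟨x, hxQ⟩).1 (Subtype.ext hx3)
      have hc0 : c ≠ 0 := by
        rintro rfl
        rw [delta_zero T] at hc
        exact hx2 (congrArg Subtype.val hc).symm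
      exact ⟨Units.mk0 c hc0, Subtype.ext (congrArg (fun z : Q => (z : G)) hc)⟩
  have hFpos : 0 < Fintype.card F := Fintype.card_pos
  have hcard' : Nat.card Q = Fintype.card F ^ 2 := by
    rw [hcard, hI, Nat.card_units, Nat.card_eq_fintype_card, Nat.sub_add_cancel hFpos]
  have hF : 2 < Fintype.card F := by
    obtain ⟨k, hk, hk1⟩ := Reduction.exists_inverted_ne_one hS h2
    obtain ⟨c, rfl⟩ := (T.mem_iff k).1 hk
    have hc : c ≠ 1 := fun h => hk1 (by rw [h, map_one])
    have h3 : 1 < Fintype.card Fˣ := Fintype.one_lt_card_iff.2 ⟨c, 1, hc⟩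
    rw [Fintype.card_units] at h3
    omega
  exact isoSuzuki_of_base B hr' hcard' hF h2 (Generate.closure_eq_top hS)

end

end Cfsg.Agent.SuzukiRankOne.SzCase
end
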