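import Mathlib
import Cfsg.Prelude.Def_LieRecognition
import Cfsg.Agent.Lib.Mobius
import Cfsg.Agent.SuzukiRankOne.SingerField
import Cfsg.Agent.SuzukiRankOne.RankOneIso
import Cfsg.Agent.SuzukiRankOne.Reduction
import Cfsg.Agent.SuzukiRankOne.UThreeReg_mg
import Cfsg.Agent.SuzukiRankOne.Translation
import Cfsg.Agent.S1138
import Cfsg.Agent.LieRecognition.HermHeis
import Cfsg.Agent.LieRecognition.RankOneForm
import Cfsg.Agent.SuzukiRankOne.PSUModel
import Cfsg.Agent.LieRecognition.RankOneBasic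
import Cfsg.Agent.S1122
import Cfsg.Agent.S1123
import Cfsg.Agent.LieRecognition.ZassEven
import Cfsg.Agent.S1119
import Cfsg.Agent.S1121
import Cfsg.Agent.S1128
import Cfsg.Agent.S1130
import Cfsg.Agent.SuzukiRankOne.M1
import Cfsg.Agent.SuzukiRankOne.SzModel
import Cfsg.Agent.S1131
import Cfsg.Agent.S1132
import Cfsg.Agent.S1137
set_option linter.all false

-- part: SuzukiRankOne/PSLTwoCase
section
/-!
The rank-one set-up with `Q` elementary abelian: `⟨Q, t⟩ ≅ PSL₂(F)`.
-/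

set_option autoImplicit false

namespace Cfsg.Agent.SuzukiRankOne.PSLTwoCase

open MulAction OnePoint
open Cfsg.Agent.SuzukiRankOne.SingerField Cfsg.Agent.SuzukiRankOne.RankOneIso
open Cfsg.Agent.LieRecognition.HigmanData Cfsg.Agent.Lib.Mobius

section

variable {G Ω : Type*} [Group G] [MulAction G Ω] {a : Ω} {t : G} {Q : Subgroup G}
variable {F : Type} [Field F] [MulDistribMulAction Fˣ Q] {κ : Fˣ →* G} {δ : F → Q}

/-- `δ` as a bijection when all elements of `Q` have square one. -/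
noncomputable def deltaEquiv (T : Torus a t Q F κ δ) (hQ : ∀ x : Q, x * x = 1) : F ≃ Q :=
  Equiv.ofBijective δ ⟨T.singer.inj, fun x => (T.singer.inv x).mp (hQ x)⟩

/-- The points as the projective line over `F`. -/
noncomputable def line (hS : Cfsg.IsRankOneSetup G Ω a t Q) (T : Torus a t Q F κ δ)
    (hQ : ∀ x : Q, x * x = 1) : Ω ≃ OnePoint F :=
  ((Equiv.optionCongr (deltaEquiv T hQ)).trans (pointEquiv hS)).symm

theorem line_symm_infty (hS : Cfsg.IsRankOneSetup G Ω a t Q) (T : Torus a t Q F κ δ)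
    (hQ : ∀ x : Q, x * x = 1) : (line hS T hQ).symm ∞ = a := rfl

theorem line_symm_coe (hS : Cfsg.IsRankOneSetup G Ω a t Q) (T : Torus a t Q F κ δ)
    (hQ : ∀ x : Q, x * x = 1) (y : F) : (line hS T hQ).symm (y : OnePoint F) = (δ y : G) • t • a := rfl

theorem line_a (hS : Cfsg.IsRankOneSetup G Ω a t Q) (T : Torus a t Q F κ δ)
    (hQ : ∀ x : Q, x * x = 1) : line hS T hQ a = ∞ :=
  ((line hS T hQ).symm_apply_eq.mp (line_symm_infty hS T hQ)).symm

theorem line_coe (hS : Cfsg.IsRankOneSetup G Ω a t Q) (T : Torus a t Q F κ δ)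
    (hQ : ∀ x : Q, x * x = 1) (y : F) : line hS T hQ ((δ y : G) • t • a) = (y : OnePoint F) := by
  rw [← line_symm_coe hS T hQ, Equiv.apply_symm_apply]

theorem delta_zero (T : Torus a t Q F κ δ) : δ 0 = 1 := by
  have h := T.singer.add 0 0
  rw [add_zero] at h
  exact (left_eq_mul.mp h)

theorem actsTrans (hS : Cfsg.IsRankOneSetup G Ω a t Q) (T : Torus a t Q F κ δ)
    (hQ : ∀ x : Q, x * x = 1) (b : F) : ActsTrans (line hS T hQ) (δ b : G) b := by
  refine ⟨?_, fun y => ?_⟩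
  · rw [line_symm_infty, S1119.smul_a hS (δ b).2, line_a]
  · rw [line_symm_coe, ← mul_smul, ← Subgroup.coe_mul, ← T.singer.add, line_coe, add_comm]

/-- `t` acts as `x ↦ c / x`. -/
theorem exists_actsInv (hS : Cfsg.IsRankOneSetup G Ω a t Q) (T : Torus a t Q F κ δ)
    (hQ : ∀ x : Q, x * x = 1) : ∃ c : F, c ≠ 0 ∧ ActsInv (line hS T hQ) t c := by
  have hta : (δ 0 : G) • t • a = t • a := by
    rw [delta_zero T, Subgroup.coe_one, one_smul]
  have htt : ∀ ω : Ω, t • t • ω = ω := fun ω => by rw [← mul_smul, hS.mul_self, one_smul]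
  have hne : t • (δ 1 : G) • t • a ≠ a := by
    intro h
    have h1 : (δ 1 : G) • t • a = t • a := by rw [← htt ((δ 1 : G) • t • a), h]
    have h2 := S1119.eq_one_of_smul_eq hS (S1119.ta_ne hS) (δ 1).2 h1
    have h3 : δ 1 = δ 0 := by rw [delta_zero T]; exact Subtype.ext h2
    exact one_ne_zero (T.singer.inj h3)
  obtain ⟨x, hx, hx2⟩ := S1119.exists_Q_from_b hS hne
  obtain ⟨c, hc⟩ := (T.singer.inv ⟨x, hx⟩).mp (hQ _)
  have hx2 : t • (δ 1 : G) • t • a = (δ c : G) • t • a := by rw [hc, ← hx2]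
  have hc0 : c ≠ 0 := by
    rintro rfl
    rw [hta] at hx2
    have h1 : (δ 1 : G) • t • a = a := by
      rw [← htt ((δ 1 : G) • t • a), hx2, htt]
    exact S1119.smul_ne hS (δ 1).2 (S1119.ta_ne hS) h1
  refine ⟨c, hc0, ?_, ?_, ?_⟩
  · rw [line_symm_infty, ← hta, line_coe]
  · rw [line_symm_coe, hta, htt, line_a]
  · intro y hy
    rw [line_symm_coe]
    obtain ⟨y, rfl⟩ : ∃ u : Fˣ, (u : F) = y := ⟨Units.mk0 y hy, rfl⟩
    have hk := (T.mem_iff (κ y)).mpr ⟨y, rfl⟩
    have hk1 : (κ y) • t • a = t • a := (Subgroup.mem_inf.mp hk.1).2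
    have hk2 : t * κ y = (κ y)⁻¹ * t := by
      have := hk.2
      rw [← this]
      group
    have hk3 : (κ y)⁻¹ • t • a = t • a := by
      rw [inv_smul_eq_iff, hk1]
    have e1 : (δ (y : F) : G) = κ y * (δ 1 : G) * (κ y)⁻¹ := by
      rw [← T.smul, T.singer.smul, mul_one]
    have e2 : (δ (c * (y : F)⁻¹) : G) = (κ y)⁻¹ * (δ c : G) * κ y := by
      have h := T.smul y⁻¹ (δ c)
      rw [T.singer.smul, map_inv, inv_inv, Units.val_inv_eq_inv_val, mul_comm] at h
      exact h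
    have e3 : t • (δ (y : F) : G) • t • a = (δ (c * (y : F)⁻¹) : G) • t • a := by
      rw [e1, e2]
      simp only [mul_smul]
      rw [hk3, hk1, ← hx2, ← mul_smul t (κ y), hk2, mul_smul]
    rw [e3, line_coe]

/-- The rank-one set-up with `Q` elementary abelian. -/
theorem nonempty_mulEquiv_psl [FaithfulSMul G Ω] [Finite F] [CharP F 2]
    (hS : Cfsg.IsRankOneSetup G Ω a t Q) (hgen : Subgroup.closure ((Q : Set G) ∪ {t}) = ⊤)
    (T : Torus a t Q F κ δ) (hQ : ∀ x : Q, x * x = 1) :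
    Nonempty (G ≃* Matrix.ProjectiveSpecialLinearGroup (Fin 2) F) := by
  classical
  obtain ⟨c, hc0, hc⟩ := exists_actsInv hS T hQ
  have : Fintype F := Fintype.ofFinite F
  have hsq : IsSquare c := FiniteField.isSquare_of_char_two (ringChar.eq F 2 ▸ rfl) c
  obtain ⟨s, hs⟩ := hsq
  have hs0 : s ≠ 0 := by
    rintro rfl
    exact hc0 (by rw [hs, mul_zero])
  have hcs : c = -s ^ 2 := by rw [hs, CharTwo.neg_eq, sq]
  rw [hcs] at hc
  refine nonempty_mulEquiv_psl_of_generators (line hS T hQ) ((Q : Set G) ∪ {t}) hgen ?_ ?_ ?_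
  · rintro g (hg | hg)
    · obtain ⟨b, hb⟩ := (T.singer.inv ⟨g, hg⟩).mp (hQ _)
      have h1 := (actsTrans hS T hQ b).permHom_eq
      have hb : (δ b : G) = g := by rw [hb]
      rw [hb] at h1
      exact ⟨_, h1.symm⟩
    · rw [Set.mem_singleton_iff] at hg
      subst hg
      exact ⟨_, (hc.permHom_eq hs0).symm⟩
  · intro b
    exact ⟨_, actsTrans hS T hQ b⟩
  · exact ⟨t, s, hs0, hc⟩

end

/-- **Case (I2) of S1136**: a faithful rank-one set-up generated by `Q` and `t`, with `2`-rank at least two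
and `Q` elementary abelian, is `PSL₂(2ⁿ)`.  `C` is the subgroup of S1131. -/
theorem main {G Ω : Type*} [Group G] [Finite G] [MulAction G Ω] [FaithfulSMul G Ω] {a : Ω} {t : G}
    {Q : Subgroup G} (hS : Cfsg.IsRankOneSetup G Ω a t Q)
    (h2 : ∃ x y : G, x ≠ 1 ∧ y ≠ 1 ∧ x ≠ y ∧ x * x = 1 ∧ y * y = 1 ∧ x * y = y * x)
    (hgen : Subgroup.closure ((Q : Set G) ∪ {t}) = ⊤)
    (hcen : ∀ s ∈ Cfsg.involutionsIn (stabilizer G a : Set G), s ∈ Q ∧ ∀ x ∈ Q, s * x = x * s)
    (C : Subgroup G)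
    (hC : (C : Set G) = Cfsg.invertedBy (stabilizer G a ⊓ stabilizer G (t • a)) t)
    (hCc : IsCyclic C) (hQ : ∀ x ∈ Q, x * x = 1) :
    ∃ (F : Type) (_ : Field F) (_ : Fintype F), (∃ n : ℕ, 2 ≤ n ∧ Fintype.card F = 2 ^ n) ∧
      Nonempty (G ≃* Matrix.ProjectiveSpecialLinearGroup (Fin 2) F) := by
  classical
  obtain ⟨x, y, hx, hy, hx1, hy1, hxy, hx2, hy2, -⟩ := Reduction.exists_two_involutions_Q hS h2
  obtain ⟨F, iF, iFt, iFc, κ, iA, δ, T, -⟩ :=
    exists_torus hS hcen C hC hCc x ⟨hS.le hx, hx1, hx2⟩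
  have hQ' : ∀ z : Q, z * z = 1 := fun z => Subtype.ext (hQ z z.2)
  refine ⟨F, iF, iFt, ?_, nonempty_mulEquiv_psl hS hgen T hQ'⟩
  have : Fact (Nat.Prime 2) := ⟨Nat.prime_two⟩
  obtain ⟨n, -, hn⟩ := FiniteField.card F 2
  refine ⟨n, ?_, hn⟩
  -- `|F| = |Q| ≥ 3`
  by_contra hlt
  have hlt' : (n : ℕ) < 2 := not_le.mp hlt
  have hn1 : (n : ℕ) = 1 := by
    have h0 : 0 < (n : ℕ) := n.pos
    omega
  rw [hn1, pow_one, Fintype.card_eq_nat_card, Nat.card_congr (deltaEquiv T hQ')] at hn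
  have hfin : Fintype Q := Fintype.ofFinite Q
  rw [← Fintype.card_eq_nat_card] at hn
  have h3 : ({1, ⟨x, hx⟩, ⟨y, hy⟩} : Finset Q).card ≤ Fintype.card Q := Finset.card_le_univ _
  rw [hn, Finset.card_insert_of_notMem, Finset.card_insert_of_notMem, Finset.card_singleton] at h3
  · omega
  · rw [Finset.mem_singleton]
    intro h
    exact hxy (congrArg Subtype.val h)
  · rw [Finset.mem_insert, Finset.mem_singleton]
    rintro (h | h)
    · exact hx1 (congrArg Subtype.val h).symm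
    · exact hy1 (congrArg Subtype.val h).symm

end Cfsg.Agent.SuzukiRankOne.PSLTwoCase
end

-- part: SuzukiRankOne/TranslationMain
section
set_option autoImplicit false
set_option linter.style.haveILetI false

/-!
The rank one set-up with `t s t = s t s` for an involution `s` of `G_a` (the case `r = s`), with an
arbitrary `Q`: all squares of elements of `Q` have order dividing two, and either `Q` is elementary
abelian or `|Q| = q³`, `q - 1` the number of involutions of `Q`.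
-/

namespace Cfsg.Agent.SuzukiRankOne.TranslationMain

open MulAction Matrix SLTwoRel SingerField UThreeReg
open Cfsg.Agent.LieRecognition

variable {G Ω : Type*} [Group G] [MulAction G Ω] {a : Ω} {t : G} {Q : Subgroup G}
  {F : Type} [Field F] {e : F → G} {k : Fˣ →* G}

/-- `k c t` as a product of three root elements. -/
theorem k_mul_t [CharP F 2] (B : Blk a t Q e k) (c : Fˣ) :
    k c * t = e c * (t * e ((c⁻¹ : Fˣ) : F) * t) * e c := by
  have h := B.rel.te c⁻¹
  rw [inv_inv] at h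
  rw [h]
  have h1 := B.rel.mul_self (c : F)
  calc k c * t = 1 * (k c * t) * 1 := by group
  _ = (e c * e c) * (k c * t) * (e c * e c) := by rw [h1]
  _ = _ := by group

/-- The block property: an involution fixing `p₁` maps `p₂` to a point which is the image of `p₁` under
an involution fixing `p₂`. -/
theorem block [Finite G] [CharP F 2] (hS : Cfsg.IsRankOneSetup G Ω a t Q) (B : Blk a t Q e k)
    {p₁ p₂ : Ω} (hp : p₁ ≠ p₂) {u : G} (hu1 : u ≠ 1) (hu : u * u = 1) (hup : u • p₁ = p₁) :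
    ∃ u' : G, u' * u' = 1 ∧ u' • p₂ = p₂ ∧ u • p₂ = u' • p₁ := by
  obtain ⟨g, hg1, hg2⟩ := RankOneBasic.exists_smul_pair hS hp (RankOneBasic.t_smul_ne hS).symm
  -- `g u g⁻¹ ∈ E`
  have h1 : (g * u * g⁻¹) * (g * u * g⁻¹) = 1 := by
    rw [show (g * u * g⁻¹) * (g * u * g⁻¹) = g * (u * u) * g⁻¹ by group, hu]; group
  have h2 : g * u * g⁻¹ ∈ stabilizer G a := by
    rw [mem_stabilizer_iff, mul_smul, mul_smul, ← hg1, inv_smul_smul, hup]
  obtain ⟨x, hx⟩ := B.inv_mem _ (RankOneBasic.mem_of_mul_self hS h2 h1) h1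
  have hx0 : x ≠ 0 := by
    rintro rfl
    rw [B.rel.zero] at hx
    apply hu1
    have : u = g⁻¹ * (g * u * g⁻¹) * g := by group
    rw [this, ← hx]; group
  -- the element of `E_{t a}`
  obtain ⟨c, rfl⟩ : ∃ c : Fˣ, (c : F) = x := ⟨Units.mk0 x hx0, rfl⟩
  obtain ⟨v, hv⟩ : ∃ v, v = t * e ((c⁻¹ : Fˣ) : F) * t := ⟨_, rfl⟩
  have htt := hS.mul_self
  have hv1 : v * v = 1 := by
    calc v * v = t * e ((c⁻¹ : Fˣ) : F) * (t * t) * e ((c⁻¹ : Fˣ) : F) * t := by rw [hv]; group
    _ = t * (e ((c⁻¹ : Fˣ) : F) * e ((c⁻¹ : Fˣ) : F)) * t := by rw [htt]; group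
    _ = 1 := by rw [B.rel.mul_self, mul_one, htt]
  have hv2 : v • t • a = t • a := by
    rw [hv, mul_smul, mul_smul, tta hS, B.e_a hS]
  have hv3 : e (c : F) • t • a = v • a := by
    have h := B.rel.te c⁻¹
    rw [inv_inv] at h
    rw [hv, h, mul_smul, mul_smul, mul_smul, B.e_a hS, B.k_ta]
  refine ⟨g⁻¹ * v * g, ?_, ?_, ?_⟩
  · rw [show g⁻¹ * v * g * (g⁻¹ * v * g) = g⁻¹ * (v * v) * g by group, hv1]; group
  · rw [mul_smul, mul_smul, hg2, hv2, ← hg2, inv_smul_smul]
  · rw [mul_smul, mul_smul, hg1, ← hv3, hx, mul_smul, mul_smul, ← hg2, inv_smul_smul, inv_smul_smul]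

/-- The relation: `y t a` is in the orbit of `x t a` under the big cell. -/
def Big (a : Ω) (t : G) (e : F → G) (k : Fˣ →* G) (x y : G) : Prop :=
  ∃ (z : F) (c : Fˣ) (w : F), y • t • a = (e z * k c * t * e w) • x • t • a

/-- Another description of the relation. -/
theorem big_iff [CharP F 2] (B : Blk a t Q e k) (x y : G) :
    Big a t e k x y ↔ ∃ (z : F) (c : Fˣ) (w : F),
      y • t • a = (e z * (t * e (c : F) * t) * e w) • x • t • a := by
  constructor
  · rintro ⟨z, c, w, h⟩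
    refine ⟨z + c, c⁻¹, c + w, ?_⟩
    rw [h, B.rel.add, B.rel.add, mul_assoc (e z) (k c) t, k_mul_t B]
    simp only [mul_assoc]
  · rintro ⟨z, c, w, h⟩
    refine ⟨z + ((c⁻¹ : Fˣ) : F), c⁻¹, ((c⁻¹ : Fˣ) : F) + w, ?_⟩
    rw [h, B.rel.te, B.rel.add, B.rel.add]
    simp only [mul_assoc]

/-- The relation is compatible with inversion (symmetry of the relation "three blocks through `a` have a
transversal block" together with left translation). -/
theorem big_translate [Finite G] [CharP F 2] (hS : Cfsg.IsRankOneSetup G Ω a t Q)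
    (B : Blk a t Q e k) {x y : G} (hx : x ∈ Q) (hxd : x • t • a ∉ Del a t e)
    (h : Big a t e k x (x * y)) : Big a t e k x⁻¹ y := by
  rw [big_iff B] at h ⊢
  obtain ⟨z, c, w, h⟩ := h
  have htt := hS.mul_self
  obtain ⟨v, hv⟩ : ∃ v, v = t * e (c : F) * t := ⟨_, rfl⟩
  have hvta : v • t • a = t • a := by
    rw [hv, mul_smul, mul_smul, tta hS, B.e_a hS]
  have hvv : v * v = 1 := by
    calc v * v = t * e (c : F) * (t * t) * e (c : F) * t := by rw [hv]; group
    _ = t * (e (c : F) * e (c : F)) * t := by rw [htt]; group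
    _ = 1 := by rw [B.rel.mul_self, mul_one, htt]
  have hv1 : v ≠ 1 := by
    intro h1
    have h2 : e (c : F) = 1 := by
      have : e (c : F) = t * (t * e (c : F) * t) * t := by
        rw [show t * (t * e (c : F) * t) * t = (t * t) * e (c : F) * (t * t) by group, htt]; group
      rw [this, ← hv, h1, mul_one, htt]
    rw [← B.rel.zero] at h2
    exact c.ne_zero (B.e_inj h2)
  rw [← hv] at h
  have hez : (e z)⁻¹ = e z := B.rel.inv z
  -- `p₁ = e z t a`, `p₂ = e (z + w) x t a`, `u = e z v e z`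
  have hp : e z • t • a ≠ e (z + w) • x • t • a := by
    intro h1
    apply hxd
    have h2 : e z • t • a ∈ Del a t e := e_mem a t e z
    rw [h1] at h2
    have h3 := B.e_del hS (z + w) h2
    rwa [smul_smul, B.rel.mul_self, one_smul] at h3
  obtain ⟨u', hu', hup2, hup1⟩ := block hS B (u := e z * v * (e z)⁻¹) hp
    (fun h1 => hv1 (by
      have : v = (e z)⁻¹ * (e z * v * (e z)⁻¹) * e z := by group
      rw [this, h1]; group))
    (by rw [show e z * v * (e z)⁻¹ * (e z * v * (e z)⁻¹) = e z * (v * v) * (e z)⁻¹ by group, hvv]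
        group)
    (by rw [mul_smul, mul_smul, inv_smul_smul, hvta])
  -- `u p₂ = x y t a`
  have h1 : (e z * v * (e z)⁻¹) • e (z + w) • x • t • a = (x * y) • t • a := by
    rw [h, smul_smul, hez, B.rel.add]
    congr 1
    calc e z * v * e z * (e z * e w) = e z * v * (e z * e z) * e w := by group
    _ = e z * v * e w := by rw [B.rel.mul_self, mul_one]
  -- write `u'` as a conjugate of an element of `E_{t a}`
  obtain ⟨g, hg⟩ : ∃ g, g = e (z + w) * x := ⟨_, rfl⟩
  have hgp : g • t • a = e (z + w) • x • t • a := by rw [hg, mul_smul]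
  obtain ⟨v', hv'⟩ : ∃ v', v' = t * (g⁻¹ * u' * g) * t := ⟨_, rfl⟩
  have hv'1 : v' * v' = 1 := by
    calc v' * v' = t * (g⁻¹ * u' * g) * (t * t) * (g⁻¹ * u' * g) * t := by rw [hv']; group
    _ = t * g⁻¹ * (u' * u') * g * t := by rw [htt]; group
    _ = t * t := by rw [hu']; group
    _ = 1 := htt
  have hv'a : v' ∈ stabilizer G a := by
    rw [mem_stabilizer_iff, hv']
    have h2 : (g⁻¹ * u' * g) • t • a = t • a := by
      rw [mul_smul, mul_smul, hgp, hup2, ← hgp, inv_smul_smul]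
    rw [mul_smul, mul_smul, h2, tta hS]
  obtain ⟨c', hc'⟩ := B.inv_mem _ (RankOneBasic.mem_of_mul_self hS hv'a hv'1) hv'1
  have hu'g : u' = g * (t * e c' * t) * g⁻¹ := by
    have h2 : t * e c' * t = g⁻¹ * u' * g := by
      rw [hc', hv']
      calc t * (t * (g⁻¹ * u' * g) * t) * t = (t * t) * (g⁻¹ * u' * g) * (t * t) := by group
      _ = g⁻¹ * u' * g := by rw [htt]; group
    rw [h2]; group
  have hc'0 : c' ≠ 0 := by
    rintro rfl
    have h2 : u' = 1 := by
      rw [hu'g, B.rel.zero, mul_one, htt]; group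
    rw [h2, one_smul, h1] at hup1
    -- then `x y t a ∈ Δ`, so `x t a ∈ Δ`
    have h3 : (x * y) • t • a ∈ Del a t e := by rw [hup1]; exact e_mem a t e z
    rw [h] at h3
    apply hxd
    have hvd : ∀ ω, ω ∈ Del a t e → v • ω ∈ Del a t e := fun ω hω => by
      rw [hv, mul_smul, mul_smul]
      exact B.t_del hS (B.e_del hS _ (B.t_del hS hω))
    have h4 := B.e_del hS w (hvd _ (B.e_del hS z h3))
    have h5 : e w • v • e z • (e z * v * e w) • x • t • a = x • t • a := by
      rw [smul_smul, smul_smul, smul_smul]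
      have : e w * v * e z * (e z * v * e w) = 1 := by
        calc e w * v * e z * (e z * v * e w) = e w * v * (e z * e z) * v * e w := by group
        _ = e w * (v * v) * e w := by rw [B.rel.mul_self]; group
        _ = 1 := by rw [hvv, mul_one, B.rel.mul_self]
      rw [this, one_smul]
    rwa [h5] at h4
  obtain ⟨d, rfl⟩ : ∃ d : Fˣ, (d : F) = c' := ⟨Units.mk0 c' hc'0, rfl⟩
  refine ⟨z + w, d, w, ?_⟩
  have h2 : y • t • a = (x⁻¹ * u' * e z) • t • a := by
    rw [mul_smul, mul_smul, ← hup1, h1, mul_smul, inv_smul_smul]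
  have c2 := B.central (z + w) x hx
  have c3 : e (z + w) * e z = e w := by
    rw [← B.rel.add]
    congr 1
    rw [add_comm z w, add_assoc, CharTwo.add_self_eq_zero, add_zero]
  have c4 := B.rel.inv (z + w)
  have c5 : x⁻¹ * e (z + w) * x = e (z + w) := by rw [mul_assoc, c2, inv_mul_cancel_left]
  have c6 : x⁻¹ * u' * e z = e (z + w) * (t * e (d : F) * t) * e w * x⁻¹ := by
    rw [hu'g, hg]
    calc x⁻¹ * (e (z + w) * x * (t * e (d : F) * t) * (e (z + w) * x)⁻¹) * e z
        = (x⁻¹ * e (z + w) * x) * (t * e (d : F) * t) * x⁻¹ * (e (z + w))⁻¹ * e z := by group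
    _ = e (z + w) * (t * e (d : F) * t) * (x⁻¹ * (e (z + w) * e z)) := by rw [c5, c4]; group
    _ = e (z + w) * (t * e (d : F) * t) * (e w * x⁻¹) := by
        rw [c3, ← B.central w x⁻¹ (Q.inv_mem hx)]
    _ = _ := by group
  rw [h2, c6, mul_smul _ x⁻¹]

/-- Uniqueness of the parameters in the big cell. -/
theorem big_cell_inj [CharP F 2] {z z' w w' : F} {c c' : Fˣ}
    (h : U z * Dg c * Tm F * U w = U z' * Dg c' * Tm F * U w') : z = z' ∧ c = c' ∧ w = w' := by
  have h1 := congrArg mat h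
  rw [U_Dg_Tm_U, U_Dg_Tm_U] at h1
  have h10 : ((c⁻¹ : Fˣ) : F) = ((c'⁻¹ : Fˣ) : F) := congrFun (congrFun h1 1) 0
  have h00 : z * ((c⁻¹ : Fˣ) : F) = z' * ((c'⁻¹ : Fˣ) : F) := congrFun (congrFun h1 0) 0
  have h11 : ((c⁻¹ : Fˣ) : F) * w = ((c'⁻¹ : Fˣ) : F) * w' := congrFun (congrFun h1 1) 1
  have hc : c = c' := by
    have := Units.ext h10
    exact inv_injective this
  subst hc
  exact ⟨mul_right_cancel₀ (Units.ne_zero _) h00, rfl, mul_left_cancel₀ (Units.ne_zero _) h11⟩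

theorem not_mem_del (hS : Cfsg.IsRankOneSetup G Ω a t Q) (B : Blk a t Q e k) {x : G} (hx : x ∈ Q)
    (hxe : ∀ y, e y ≠ x) : x • t • a ∉ Del a t e := by
  rintro (h | ⟨y, h⟩)
  · exact RankOneBasic.smul_ne_of_mem (hS.le hx) (RankOneBasic.t_smul_ne hS) h
  · exact hxe y (RankOneBasic.eq_of_smul_eq_smul hS hx (B.memQ y) (RankOneBasic.t_smul_ne hS) h).symm

/-- The main theorem, first part: in the case `r = s` all squares of elements of `Q` lie in `E`. -/
theorem sq_mem [Finite G] [FaithfulSMul G Ω] [Finite F] [CharP F 2]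
    (hS : Cfsg.IsRankOneSetup G Ω a t Q)
    (h2 : ∃ x y : G, x ≠ 1 ∧ y ≠ 1 ∧ x ≠ y ∧ x * x = 1 ∧ y * y = 1 ∧ x * y = y * x)
    (B : Blk a t Q e k) (hrs : t • e 1 • t • a = e 1 • t • a) (hF : 2 < Nat.card F) :
    ∀ x ∈ Q, ∃ y, e y = x * x := by
  classical
  obtain ⟨θ, h1, hk, ht⟩ := B.rel.exists_hom
  have hkQ : ∀ (c : Fˣ) (x : Q), k c * (x : G) * (k c)⁻¹ ∈ Q := fun c x =>
    hS.conj_mem _ (B.k_mem c).1 x x.2
  letI act : MulDistribMulAction Fˣ Q :=
    { smul := fun c x => ⟨k c * (x : G) * (k c)⁻¹, hkQ c x⟩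
      one_smul := fun x => by
        apply Subtype.ext
        show k 1 * (x : G) * (k 1)⁻¹ = x
        rw [map_one]; group
      mul_smul := fun c d x => by
        apply Subtype.ext
        show k (c * d) * (x : G) * (k (c * d))⁻¹ = k c * (k d * (x : G) * (k d)⁻¹) * (k c)⁻¹
        rw [map_mul]; group
      smul_mul := fun c x y => by
        apply Subtype.ext
        show k c * ((x * y : Q) : G) * (k c)⁻¹ = (k c * (x : G) * (k c)⁻¹) * (k c * (y : G) * (k c)⁻¹)
        rw [Subgroup.coe_mul]; group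
      smul_one := fun c => by
        apply Subtype.ext
        show k c * ((1 : Q) : G) * (k c)⁻¹ = 1
        simp }
  have hact : ∀ (c : Fˣ) (x : Q), ((c • x : Q) : G) = k c * x * (k c)⁻¹ := fun c x => rfl
  let E : Subgroup Q :=
    { carrier := {x | ∃ y, e y = x}
      mul_mem' := by
        rintro _ _ ⟨y, hy⟩ ⟨z, hz⟩
        exact ⟨y + z, by rw [B.rel.add, hy, hz]; rfl⟩
      one_mem' := ⟨0, B.rel.zero⟩
      inv_mem' := by
        rintro _ ⟨y, hy⟩
        exact ⟨y, by rw [InvMemClass.coe_inv, ← hy, B.rel.inv]⟩ }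
  have hE : ∀ x : Q, x ∈ E ↔ ∃ y, e y = x := fun x => Iff.rfl
  have hEcard : Nat.card E = Nat.card F := by
    symm
    refine Nat.card_congr (Equiv.ofBijective (fun y : F => (⟨⟨e y, B.memQ y⟩, ⟨y, rfl⟩⟩ : E)) ⟨?_, ?_⟩)
    · intro y z h
      exact B.e_inj (congrArg (fun x : E => ((x : Q) : G)) h)
    · rintro ⟨x, ⟨y, hy⟩⟩
      exact ⟨y, Subtype.ext (Subtype.ext hy)⟩
  have hcardK : Nat.card Fˣ = Nat.card F - 1 := Nat.card_units F
  have hqe : Even (Nat.card F) := by
    have : Fintype F := Fintype.ofFinite F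
    obtain ⟨n, -, hn⟩ := FiniteField.card F 2
    rw [Nat.card_eq_fintype_card, hn]
    exact (Nat.even_pow.2 ⟨even_two, n.ne_zero⟩)
  have hfpf : ∀ c : Fˣ, c ≠ 1 → ∀ x : Q, c • x = x → x = 1 := by
    intro c hc x hx
    by_contra hx1
    apply hc
    refine B.k_fix hS h2 (ω := (x : G) • t • a) (RankOneBasic.smul_ne_of_mem (hS.le x.2)
      (RankOneBasic.t_smul_ne hS)) (fun h => hx1 (Subtype.ext
        (RankOneBasic.eq_one_of_smul_t_smul hS x.2 h))) ?_
    have h3 : k c * x * (k c)⁻¹ = (x : G) := congrArg Subtype.val hx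
    rw [smul_smul, mul_inv_eq_iff_eq_mul.1 h3, mul_smul, B.k_ta]
  have hnd : ∀ x : Q, x ∉ E → (x : G) • t • a ∉ Del a t e := fun x hx =>
    not_mem_del hS B x.2 (fun y hy => hx ⟨y, hy⟩)
  intro x hx
  by_cases hxE : (⟨x, hx⟩ : Q) ∈ E
  · obtain ⟨y, hy⟩ := hxE
    exact ⟨0, by rw [B.rel.zero]; have hy' : e y = x := hy; rw [← hy', B.rel.mul_self]⟩
  refine Translation.sq_mem (Q := Q) (K := Fˣ) E ?_ (Nat.card F) hEcard hcardK hF hqe ?_ hfpf
    (fun x => {y : Q | Big a t e k (x : G) (y : G)}) ?_ ?_ ?_ ?_ ?_ ⟨x, hx⟩ hxE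
  · -- `E` is central
    rintro f ⟨y, hy⟩ x
    apply Subtype.ext
    rw [Subgroup.coe_mul, Subgroup.coe_mul, ← hy]
    exact B.central y x x.2
  · -- `E` is `K`-invariant
    rintro c f ⟨y, hy⟩
    exact ⟨(c : F) ^ 2 * y, by rw [hact, ← hy, B.rel.conj]⟩
  · -- `N (k • x) = N x`
    intro x hx c
    ext y
    have key : ∀ (x : Q) (c : Fˣ), Big a t e k (x : G) (y : G) → Big a t e k ((c • x : Q) : G) (y : G) := by
      rintro x c ⟨z, d, w, h⟩
      refine ⟨z, d * c, (c : F) ^ 2 * w, ?_⟩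
      rw [h, hact, map_mul, mul_smul (k c * (x : G)), inv_smul_eq_iff.2 (B.k_ta c).symm, mul_smul (k c),
        smul_smul _ (k c)]
      congr 1
      have e1 : k d * k c * t = k d * t * (k c)⁻¹ := by
        rw [mul_assoc, B.rel.kt, map_inv, mul_assoc]
      have e2 : e ((c : F) ^ 2 * w) * k c = k c * e w := (B.rel.ke c w).symm
      calc e z * k d * t * e w = e z * (k d * t * (k c)⁻¹) * (k c * e w) := by group
      _ = e z * (k d * k c * t) * (e ((c : F) ^ 2 * w) * k c) := by rw [e1, e2]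
      _ = _ := by group
    constructor
    · intro h
      have h3 := key _ c⁻¹ h
      rwa [inv_smul_smul] at h3
    · exact key x c
  · -- `N x` is `K`-invariant
    rintro x hx c y ⟨z, d, w, h⟩
    refine ⟨(c : F) ^ 2 * z, c * d, w, ?_⟩
    rw [hact, mul_smul (k c * (y : G)), inv_smul_eq_iff.2 (B.k_ta c).symm, mul_smul, h, smul_smul, map_mul]
    congr 1
    calc k c * (e z * k d * t * e w) = (k c * e z) * k d * t * e w := by group
    _ = _ := by rw [B.rel.ke]; group
  · -- `N x` is `E`-invariant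
    rintro x hx f ⟨v, hv⟩ y ⟨z, d, w, h⟩
    refine ⟨v + z, d, w, ?_⟩
    rw [Subgroup.coe_mul, mul_smul, h, ← hv, smul_smul, B.rel.add]
    congr 1
    group
  · -- translation
    intro x hx y
    have hx' : x⁻¹ ∉ E := fun h => hx (by simpa using E.inv_mem h)
    constructor
    · intro h
      have := big_translate hS B x.2 (hnd x hx) (y := (y : G)) h
      simpa using this
    · intro h
      have h3 : Big a t e k ((x⁻¹ : Q) : G) (((x⁻¹ : Q) : G) * ((x * y : Q) : G)) := by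
        rw [← Subgroup.coe_mul, inv_mul_cancel_left]; exact h
      have := big_translate hS B (x⁻¹ : Q).2 (hnd _ hx') h3
      simpa using this
  · -- cardinality
    intro x hx
    have hex : ∀ p : F × Fˣ × F, ∃ y : Q, (y : G) • t • a =
        (e p.1 * k p.2.1 * t * e p.2.2) • (x : G) • t • a := by
      rintro ⟨z, c, w⟩
      have h3 : (e z * k c * t * e w) • (x : G) • t • a ≠ a := by
        intro h4
        apply hnd x hx
        have h5 : θ (U z * Dg c * Tm F * U w) • (x : G) • t • a ∈ Del a t e := by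
          rw [map_mul, map_mul, map_mul, h1, h1, hk, ht, h4]; exact a_mem a t e
        exact (B.theta_del_iff hS h1 hk ht _).1 h5
      obtain ⟨y, hy, h5⟩ := RankOneBasic.exists_smul_t_smul hS h3
      exact ⟨⟨y, hy⟩, h5⟩
    choose f hf using hex
    have hcard : Nat.card (F × Fˣ × F) = Nat.card F ^ 2 * (Nat.card F - 1) := by
      rw [Nat.card_prod, Nat.card_prod, hcardK]; ring
    rw [← hcard]
    symm
    refine Nat.card_congr (Equiv.ofBijective (fun p : F × Fˣ × F =>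
      (⟨f p, ⟨p.1, p.2.1, p.2.2, hf p⟩⟩ : {y : Q | Big a t e k (x : G) (y : G)})) ⟨?_, ?_⟩)
    · rintro ⟨z, c, w⟩ ⟨z', c', w'⟩ h
      have h3 : f ⟨z, c, w⟩ = f ⟨z', c', w'⟩ := congrArg Subtype.val h
      have h4 := hf ⟨z, c, w⟩
      rw [h3, hf ⟨z', c', w'⟩] at h4
      have h5 : θ ((U z * Dg c * Tm F * U w)⁻¹ * (U z' * Dg c' * Tm F * U w')) • (x : G) • t • a =
          (x : G) • t • a := by
        rw [map_mul, map_inv, mul_smul, inv_smul_eq_iff]
        simp only [map_mul, h1, hk, ht]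
        exact h4
      have h6 := B.semireg hS h2 hrs h1 hk ht _ (hnd x hx) h5
      rw [inv_mul_eq_one] at h6
      obtain ⟨rfl, rfl, rfl⟩ := big_cell_inj h6
      rfl
    · rintro ⟨y, z, c, w, h⟩
      refine ⟨⟨z, c, w⟩, Subtype.ext (Subtype.ext ?_)⟩
      refine RankOneBasic.eq_of_smul_eq_smul hS (f ⟨z, c, w⟩).2 y.2 (RankOneBasic.t_smul_ne hS) ?_
      rw [hf, h]

/-- The main theorem, second part: if `Q ≠ E` then `|Q| ≥ |E|³`. -/
theorem card_le [Finite G] [FaithfulSMul G Ω] [Finite F] [CharP F 2]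
    (hS : Cfsg.IsRankOneSetup G Ω a t Q)
    (h2 : ∃ x y : G, x ≠ 1 ∧ y ≠ 1 ∧ x ≠ y ∧ x * x = 1 ∧ y * y = 1 ∧ x * y = y * x)
    (B : Blk a t Q e k) (hrs : t • e 1 • t • a = e 1 • t • a) {x : G} (hx : x ∈ Q)
    (hxe : ∀ y, e y ≠ x) : Nat.card F ^ 3 ≤ Nat.card Q := by
  classical
  obtain ⟨θ, h1, hk, ht⟩ := B.rel.exists_hom
  have hfinΩ := RankOneBasic.finite_points hS
  have : Fintype F := Fintype.ofFinite F
  have hω := not_mem_del hS B hx hxe
  have h3 : Nat.card {ω : Ω // ω ∈ Del a t e} + Nat.card {ω : Ω // ω ∉ Del a t e} =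
      Nat.card Ω := by
    rw [← Nat.card_sum, Nat.card_congr (Equiv.sumCompl (fun ω : Ω => ω ∈ Del a t e))]
  have h4 : Nat.card {ω : Ω // ω ∈ Del a t e} = Nat.card F + 1 := B.card_del hS
  have h5 : Nat.card (SpecialLinearGroup (Fin 2) F) ≤ Nat.card {ω : Ω // ω ∉ Del a t e} := by
    apply Nat.card_le_card_of_injective (fun A : SpecialLinearGroup (Fin 2) F =>
      (⟨θ A • x • t • a, fun h => hω ((B.theta_del_iff hS h1 hk ht A).1 h)⟩ :
        {ω : Ω // ω ∉ Del a t e}))
    intro A A' h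
    have h3 : θ A • x • t • a = θ A' • x • t • a := congrArg Subtype.val h
    have h4 : θ (A'⁻¹ * A) • x • t • a = x • t • a := by
      rw [map_mul, map_inv, mul_smul, h3, inv_smul_smul]
    exact (inv_mul_eq_one.1 (B.semireg hS h2 hrs h1 hk ht _ hω h4)).symm
  rw [LieClassical.SmallIso.card_sl_two, ← Nat.card_eq_fintype_card] at h5
  rw [h4, RankOneBasic.card_points hS] at h3
  have h6 : Nat.card F * (Nat.card F ^ 2 - 1) = Nat.card F ^ 3 - Nat.card F := by
    rw [Nat.mul_sub, mul_one]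
    congr 1
    ring
  omega

section torus

variable [Fintype F] [CharP F 2] [MulDistribMulAction Fˣ Q] {κ : Fˣ →* G} {δ : F → Q}

omit [CharP F 2] in
/-- `|F| > 2`. -/
theorem two_lt_card [Finite G] (hS : Cfsg.IsRankOneSetup G Ω a t Q)
    (h2 : ∃ x y : G, x ≠ 1 ∧ y ≠ 1 ∧ x ≠ y ∧ x * x = 1 ∧ y * y = 1 ∧ x * y = y * x)
    (T : Torus a t Q F κ δ) : 2 < Nat.card F := by
  classical
  obtain ⟨x, y, hx, hy, hx1, hy1, hxy, hx2, hy2, -⟩ := Reduction.exists_two_involutions_Q hS h2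
  obtain ⟨u, hu⟩ := (T.singer.inv ⟨x, hx⟩).1 (Subtype.ext hx2)
  obtain ⟨v, hv⟩ := (T.singer.inv ⟨y, hy⟩).1 (Subtype.ext hy2)
  have h0 : δ 0 = 1 := by
    have h := T.singer.add 0 0
    rw [add_zero] at h
    exact (mul_eq_left.mp h.symm)
  have h3 : ({0, u, v} : Finset F).card ≤ Fintype.card F := Finset.card_le_univ _
  rw [Nat.card_eq_fintype_card]
  rw [Finset.card_insert_of_notMem, Finset.card_insert_of_notMem, Finset.card_singleton] at h3
  · omega
  · rw [Finset.mem_singleton]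
    rintro rfl
    rw [hu] at hv
    exact hxy (congrArg Subtype.val hv)
  · rw [Finset.mem_insert, Finset.mem_singleton]
    rintro (rfl | rfl)
    · rw [h0] at hu; exact hx1 (congrArg Subtype.val hu).symm
    · rw [h0] at hv; exact hy1 (congrArg Subtype.val hv).symm

/-- **The case `r = s`**: `Q` is a `2`-group, squares of elements of `Q` have order dividing two, and
`Q` is elementary abelian or `|Q| = q³`. -/
theorem main [Finite G] [FaithfulSMul G Ω]
    (hS : Cfsg.IsRankOneSetup G Ω a t Q)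
    (h2 : ∃ x y : G, x ≠ 1 ∧ y ≠ 1 ∧ x ≠ y ∧ x * x = 1 ∧ y * y = 1 ∧ x * y = y * x)
    (T : Torus a t Q F κ δ) (hrs : t * δ 1 * t = δ 1 * t * δ 1) :
    (∀ x ∈ Q, (x * x) * (x * x) = 1) ∧ IsPGroup 2 Q ∧
      ((∀ x ∈ Q, x * x = 1) ∨ Nat.card Q = Nat.card F ^ 3) := by
  classical
  have B := blk_of_torus hS T hrs
  have hrs' : t • (δ 1 : G) • t • a = (δ 1 : G) • t • a := by
    rw [smul_smul, smul_smul, hrs, mul_smul, mul_smul, (B.e_a hS 1 : (δ 1 : G) • a = a)]
  have hsq := sq_mem hS h2 B hrs' (two_lt_card hS h2 T)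
  have hsq1 : ∀ x ∈ Q, (x * x) * (x * x) = 1 := by
    intro x hx
    obtain ⟨y, hy⟩ := hsq x hx
    rw [← hy]
    exact B.rel.mul_self y
  have hsq2 : ∀ x : Q, x * x * (x * x) = 1 := fun x => Subtype.ext (hsq1 x x.2)
  have hp : IsPGroup 2 Q := by
    intro x
    refine ⟨2, ?_⟩
    rw [← hsq2 x, show (2 ^ 2 : ℕ) = 4 by norm_num]
    simp only [pow_succ, pow_zero, one_mul, mul_assoc]
  refine ⟨hsq1, hp, ?_⟩
  by_cases hall : ∀ x ∈ Q, x * x = 1
  · exact Or.inl hall
  right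
  push Not at hall
  obtain ⟨x, hx, hx1⟩ := hall
  have hcomm : ∀ x y : Q, (x⁻¹ * y⁻¹ * x * y) * (x⁻¹ * y⁻¹ * x * y) = 1 := by
    intro x y
    have hc : ∀ z : Q, ∃ u, δ u = z * z := by
      intro z
      obtain ⟨u, hu⟩ := hsq z z.2
      exact ⟨u, Subtype.ext hu⟩
    have h4 : x⁻¹ * x⁻¹ * (x * y⁻¹ * (x * y⁻¹)) * (y * y) = x⁻¹ * y⁻¹ * x * y := by group
    obtain ⟨u, hu⟩ := hc x⁻¹
    obtain ⟨v, hv⟩ := hc (x * y⁻¹)
    obtain ⟨w, hw⟩ := hc y
    rw [← h4, ← hu, ← hv, ← hw, ← T.singer.add, ← T.singer.add]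
    exact (T.singer.inv _).2 ⟨_, rfl⟩
  rcases HigmanCount.card_eq T.singer hp hsq2 hcomm ⟨⟨x, hx⟩, fun h => hx1 (congrArg Subtype.val h)⟩
    with h3 | h3
  · exfalso
    have h4 := card_le hS h2 B hrs' hx (fun y hy => hx1 (by
      rw [← hy]; exact B.rel.mul_self y))
    rw [h3] at h4
    have h5 := two_lt_card hS h2 T
    have h6 : Nat.card F ^ 2 * 1 < Nat.card F ^ 2 * Nat.card F :=
      Nat.mul_lt_mul_of_pos_left (by omega) (by positivity)
    have h7 : Nat.card F ^ 3 = Nat.card F ^ 2 * Nat.card F := by ring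
    omega
  · exact h3

end torus

end Cfsg.Agent.SuzukiRankOne.TranslationMain
end

-- part: SuzukiRankOne/UThreeField
section
set_option autoImplicit false
set_option linter.style.haveILetI false

/-!
The quadratic extension of a finite field of characteristic two given by an irreducible polynomial
`X² + X + c₀`.
-/

namespace Cfsg.Agent.SuzukiRankOne.UThreeField

/-- The field `L = F(ω)`, `ω² = ω + c₀`, with its involution `σ`. -/
theorem exists_quadratic (F : Type) [Field F] [Fintype F] [CharP F 2] (n : ℕ)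
    (hn : Fintype.card F = 2 ^ n) (c0 : F) (hirr : ∀ r : F, r ^ 2 ≠ c0 + 1 * r) :
    ∃ (L : Type) (_ : Field L) (_ : Fintype L) (_ : CharP L 2) (_ : Algebra F L) (σ : L →+* L)
      (_ : Fact (∀ x, σ (σ x) = x)) (ω : L),
      Fintype.card L = (2 ^ n) ^ 2 ∧ (∀ x, σ x = x ^ (2 ^ n)) ∧
      (∀ c, σ (algebraMap F L c) = algebraMap F L c) ∧
      (∀ b, σ b = b → ∃ c, algebraMap F L c = b) ∧
      σ ω = ω + 1 ∧ ω * σ ω = algebraMap F L c0 ∧
      (∀ z : L, ∃ α β : F, z = algebraMap F L α + algebraMap F L β * ω) := by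
  classical
  haveI hF : Fact (∀ r : F, r ^ 2 ≠ c0 + 1 * r) := ⟨hirr⟩
  let L := QuadraticAlgebra F c0 1
  letI fL : Field L := inferInstance
  letI aL : Algebra F L := inferInstance
  letI ftL : Fintype L := Fintype.ofEquiv _ (QuadraticAlgebra.equivProd c0 (1 : F)).symm
  have hcard : Fintype.card L = (2 ^ n) ^ 2 := by
    rw [Fintype.card_congr (QuadraticAlgebra.equivProd c0 (1 : F)), Fintype.card_prod, hn, pow_two]
  haveI hc : CharP L 2 := charP_of_injective_algebraMap (algebraMap F L).injective 2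
  let σ : L →+* L := starRingEnd L
  have hσre : ∀ z : L, (σ z).re = z.re + z.im := fun z => by
    show z.re + 1 * z.im = z.re + z.im
    rw [one_mul]
  have hσim : ∀ z : L, (σ z).im = z.im := fun z => by
    show -z.im = z.im
    rw [CharTwo.neg_eq]
  have hσσ : ∀ x, σ (σ x) = x := fun x => star_star x
  let ω : L := QuadraticAlgebra.omega
  have hωre : ω.re = 0 := rfl
  have hωim : ω.im = 1 := rfl
  have hfix : ∀ c, σ (algebraMap F L c) = algebraMap F L c := fun c => by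
    apply QuadraticAlgebra.ext
    · rw [hσre]
      show c + 0 = c
      rw [add_zero]
    · rw [hσim]
  have hω : σ ω = ω + 1 := by
    apply QuadraticAlgebra.ext
    · rw [hσre]
      show (0 : F) + 1 = 0 + 1
      rfl
    · rw [hσim]
      show (1 : F) = 1 + 0
      rw [add_zero]
  have hωω : ω * ω = algebraMap F L c0 + ω := by
    have h := QuadraticAlgebra.omega_mul_omega_eq_add (R := F) (a := c0) (b := 1)
    rw [one_smul] at h
    have h2 : (c0 • (1 : L)) = algebraMap F L c0 := (Algebra.algebraMap_eq_smul_one c0).symm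
    rw [h2] at h
    exact h
  have hdec : ∀ z : L, ∃ α β : F, z = algebraMap F L α + algebraMap F L β * ω := by
    intro z
    refine ⟨z.re, z.im, ?_⟩
    have h := QuadraticAlgebra.mk_eq_add_smul_omega (R := F) (a := c0) (b := 1) z.re z.im
    rw [Algebra.smul_def] at h
    exact h
  have hN : ω * σ ω = algebraMap F L c0 := by
    rw [hω, mul_add, hωω, mul_one, add_assoc, CharTwo.add_self_eq_zero, add_zero]
  have hfix' : ∀ b, σ b = b → ∃ c, algebraMap F L c = b := by
    intro b hb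
    have h1 : b.im = 0 := by
      have h2 := congrArg QuadraticAlgebra.re hb
      rw [hσre] at h2
      simpa using h2
    refine ⟨b.re, ?_⟩
    apply QuadraticAlgebra.ext
    · rfl
    · rw [h1]; rfl
  refine ⟨L, fL, ftL, hc, aL, σ, ⟨hσσ⟩, ω, hcard, ?_, hfix, hfix', hω, hN, hdec⟩
  -- `σ` is the Frobenius map
  haveI : ExpChar L 2 := ExpChar.prime Nat.prime_two
  let φ : L →+* L := iterateFrobenius L 2 n
  have hφ : ∀ x, φ x = x ^ (2 ^ n) := fun x => iterateFrobenius_def 2 n x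
  have hφF : ∀ c : F, φ (algebraMap F L c) = algebraMap F L c := by
    intro c
    rw [hφ, ← map_pow, ← hn, FiniteField.pow_card]
  have hφω : φ ω = ω ∨ φ ω = ω + 1 := by
    have h1 : φ ω * φ ω = algebraMap F L c0 + φ ω := by
      rw [← map_mul, hωω, map_add, hφF]
    have h9 : ∀ z : L, z + z = 0 := CharTwo.add_self_eq_zero
    have h2 : (φ ω + ω) * (φ ω + (ω + 1)) = 0 := by
      linear_combination h1 + hωω + h9 (algebraMap F L c0) + h9 (ω * φ ω) + h9 ω + h9 (φ ω)
    rcases mul_eq_zero.mp h2 with h3 | h3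
    · exact Or.inl (CharTwo.add_eq_zero.mp h3)
    · exact Or.inr (CharTwo.add_eq_zero.mp h3)
  intro x
  rw [← hφ]
  obtain ⟨α, β, rfl⟩ := hdec x
  rw [map_add, map_mul, hfix, hfix, map_add, map_mul, hφF, hφF, hω]
  rcases hφω with h | h
  · exfalso
    have hall : ∀ x : L, x ^ (2 ^ n) = x := by
      intro x
      rw [← hφ]
      obtain ⟨α, β, rfl⟩ := hdec x
      rw [map_add, map_mul, hφF, hφF, h]
    have hn1 : 1 < 2 ^ n := hn ▸ Fintype.one_lt_card
    have h2 : Fintype.card L - 1 ∣ 2 ^ n - 1 := by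
      rw [← FiniteField.forall_pow_eq_one_iff]
      intro u
      apply Units.ext
      rw [Units.val_pow_eq_pow_val, Units.val_one]
      have h3 := hall (u : L)
      have h4 : (u : L) ^ (2 ^ n - 1) * u = 1 * u := by
        rw [← pow_succ, Nat.sub_add_cancel hn1.le, h3, one_mul]
      exact mul_right_cancel₀ u.ne_zero h4
    rw [hcard] at h2
    have h3 := Nat.le_of_dvd (by omega) h2
    rw [pow_two] at h3
    have h4 : 2 ^ n * 1 < 2 ^ n * 2 ^ n := Nat.mul_lt_mul_of_pos_left hn1 (by omega)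
    rw [mul_one] at h4
    generalize 2 ^ n * 2 ^ n = m at h3 h4
    omega
  · rw [h]

end Cfsg.Agent.SuzukiRankOne.UThreeField
end

-- part: SuzukiRankOne/UThreeAlg
section
set_option autoImplicit false

/-!
The algebra of the recognition of `PSU₃(q)`: a group `Q` with coordinates in `SL₂(F)` satisfying the
key relation is the Hermitian Heisenberg group.
-/

namespace Cfsg.Agent.SuzukiRankOne.UThreeAlg

open Cfsg.Agent.LieRecognition.HermHeis

variable {F : Type*} [Field F] {Q : Type*} [Group Q]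

/-- The determinant of two vectors (characteristic two). -/
def dt (u v : F × F) : F := u.1 * v.2 + u.2 * v.1

/-- Coordinates of `Q`: `T x` and `B x` are the rows of the matrix in `SL₂(F)` attached to `x ∉ E`. -/
structure Coord (δ : F → Q) (sq : Q → F) (T B : Q → F × F) : Prop where
  add : ∀ a b, δ (a + b) = δ a * δ b
  inj : Function.Injective δ
  cen : ∀ a x, δ a * x = x * δ a
  sq_spec : ∀ x, x * x = δ (sq x)
  inv : ∀ x : Q, x * x = 1 → x ∈ Set.range δ
  det : ∀ x, x ∉ Set.range δ → dt (T x) (B x) = 1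
  ext : ∀ x y, x ∉ Set.range δ → y ∉ Set.range δ → T x = T y → B x = B y → x = y
  surj : ∀ u v, dt u v = 1 → ∃ x, x ∉ Set.range δ ∧ T x = u ∧ B x = v
  T_mul : ∀ c x, x ∉ Set.range δ → T (δ c * x) = T x + c • B x
  B_mul : ∀ c x, x ∉ Set.range δ → B (δ c * x) = B x
  hom : ∀ l : F, l ≠ 0 → ∀ x, x ∉ Set.range δ →
    ∃ y, y ∉ Set.range δ ∧ B y = l • B x ∧ l ^ 2 * sq y = sq x
  key : ∀ x y, x ∉ Set.range δ → y ∉ Set.range δ → T y = T x⁻¹ → x * y ≠ 1 →
    x * y ∉ Set.range δ ∧ T (x * y) = T x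

section vec

variable [CharP F 2]

omit [CharP F 2] in
theorem dt_comm (u v : F × F) : dt u v = dt v u := by
  unfold dt; ring

theorem dt_self (u : F × F) : dt u u = 0 := by
  unfold dt
  rw [mul_comm u.2, CharTwo.add_self_eq_zero]

omit [CharP F 2] in
theorem dt_add_left (u v w : F × F) : dt (u + v) w = dt u w + dt v w := by
  unfold dt; simp only [Prod.fst_add, Prod.snd_add]; ring

omit [CharP F 2] in
theorem dt_add_right (u v w : F × F) : dt u (v + w) = dt u v + dt u w := by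
  unfold dt; simp only [Prod.fst_add, Prod.snd_add]; ring

omit [CharP F 2] in
theorem dt_smul_left (c : F) (u v : F × F) : dt (c • u) v = c * dt u v := by
  unfold dt; simp only [Prod.smul_fst, Prod.smul_snd, smul_eq_mul]; ring

omit [CharP F 2] in
theorem dt_smul_right (c : F) (u v : F × F) : dt u (c • v) = c * dt u v := by
  unfold dt; simp only [Prod.smul_fst, Prod.smul_snd, smul_eq_mul]; ring

/-- Cramer's rule. -/
theorem cramer (u v w : F × F) : dt u v • w = dt w v • u + dt u w • v := by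
  have h : ∀ x : F, x + x = 0 := CharTwo.add_self_eq_zero
  unfold dt
  ext
  · simp only [Prod.smul_fst, Prod.fst_add, smul_eq_mul]
    linear_combination -(h (w.2 * v.1 * u.1))
  · simp only [Prod.smul_snd, Prod.snd_add, smul_eq_mul]
    linear_combination -(h (w.1 * v.2 * u.2))

theorem add_self_vec (u : F × F) : u + u = 0 := by
  ext
  · exact CharTwo.add_self_eq_zero _
  · exact CharTwo.add_self_eq_zero _

end vec

section coord

variable [CharP F 2] {δ : F → Q} {sq : Q → F} {T B : Q → F × F}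

omit [CharP F 2] in
theorem Coord.zero (H : Coord δ sq T B) : δ 0 = 1 := by
  have h := H.add 0 0
  rw [add_zero] at h
  exact (mul_eq_left.mp h.symm)

theorem Coord.not_mem (H : Coord δ sq T B) {x : Q} (hx : x ∉ Set.range δ) (c : F) :
    δ c * x ∉ Set.range δ := by
  rintro ⟨d, hd⟩
  apply hx
  refine ⟨c + d, ?_⟩
  rw [H.add, hd, ← mul_assoc, ← H.add, CharTwo.add_self_eq_zero, H.zero, one_mul]

theorem Coord.sq_mul (H : Coord δ sq T B) (c : F) (x : Q) : sq (δ c * x) = sq x := by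
  apply H.inj
  rw [← H.sq_spec, ← H.sq_spec]
  calc δ c * x * (δ c * x) = δ c * (x * δ c) * x := by group
    _ = δ c * (δ c * x) * x := by rw [← H.cen c x]
    _ = (δ c * δ c) * (x * x) := by group
    _ = x * x := by rw [← H.add, CharTwo.add_self_eq_zero, H.zero, one_mul]

omit [CharP F 2] in
theorem Coord.sq_ne (H : Coord δ sq T B) {x : Q} (hx : x ∉ Set.range δ) : sq x ≠ 0 := by
  intro h
  apply hx
  apply H.inv
  rw [H.sq_spec, h, H.zero]

theorem Coord.inv_eq (H : Coord δ sq T B) (x : Q) : x⁻¹ = δ (sq x) * x := by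
  apply inv_eq_of_mul_eq_one_left
  rw [mul_assoc, H.sq_spec, ← H.add, CharTwo.add_self_eq_zero, H.zero]

omit [CharP F 2] in
theorem Coord.one_mem (H : Coord δ sq T B) : (1 : Q) ∈ Set.range δ := ⟨0, H.zero⟩

/-- Two elements with the same bottom row differ by an element of `E`. -/
theorem Coord.exists_eq (H : Coord δ sq T B) {x y : Q} (hx : x ∉ Set.range δ)
    (hy : y ∉ Set.range δ) (h : B x = B y) : ∃ c, y = δ c * x := by
  have h1 := H.det x hx
  have h2 := H.det y hy
  refine ⟨dt (T x) (T y), ?_⟩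
  refine H.ext _ _ hy (H.not_mem hx _) ?_ ?_
  · rw [H.T_mul _ _ hx]
    have h3 := cramer (T x) (B x) (T y)
    rw [h1, h, h2, one_smul, one_smul, ← h] at h3
    exact h3
  · rw [H.B_mul _ _ hx, h]

/-- The product of two elements with independent bottom rows. -/
theorem Coord.mul_formula (H : Coord δ sq T B) {x y : Q} (hx : x ∉ Set.range δ)
    (hy : y ∉ Set.range δ) (hxy : dt (B x) (B y) ≠ 0) :
    x * y ∉ Set.range δ ∧ ∃ c d, T x + (c + sq x) • B x = (dt (B x) (B y))⁻¹ • (B x + B y) ∧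
      T y + d • B y = (dt (B x) (B y))⁻¹ • (B x + B y) ∧
      T (x * y) + (c + d) • B (x * y) = T x + c • B x := by
  set μ := dt (B x) (B y) with hμ
  set W := μ⁻¹ • (B x + B y) with hW
  have hWx : dt W (B x) = 1 := by
    rw [hW, dt_smul_left, dt_add_left, dt_self, zero_add, dt_comm, ← hμ, inv_mul_cancel₀ hxy]
  have hWy : dt W (B y) = 1 := by
    rw [hW, dt_smul_left, dt_add_left, dt_self, add_zero, ← hμ, inv_mul_cancel₀ hxy]
  have h1 : T x + (dt (T x) W) • B x = W := by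
    have h3 := cramer (T x) (B x) W
    rw [H.det x hx, hWx, one_smul, one_smul] at h3
    exact h3.symm
  have h2 : T y + (dt (T y) W) • B y = W := by
    have h3 := cramer (T y) (B y) W
    rw [H.det y hy, hWy, one_smul, one_smul] at h3
    exact h3.symm
  obtain ⟨c, hc⟩ : ∃ c, c + sq x = dt (T x) W := ⟨dt (T x) W + sq x, by
    rw [add_assoc, CharTwo.add_self_eq_zero, add_zero]⟩
  obtain ⟨d, hd⟩ : ∃ d, d = dt (T y) W := ⟨_, rfl⟩
  rw [← hc] at h1
  rw [← hd] at h2
  have hx1 := H.not_mem hx c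
  have hy1 := H.not_mem hy d
  have hT : T (δ d * y) = T (δ c * x)⁻¹ := by
    rw [H.inv_eq, H.T_mul _ _ hx1, H.sq_mul, H.T_mul _ _ hx, H.B_mul _ _ hx, H.T_mul _ _ hy, h2,
      ← h1, add_smul, add_assoc]
  have hne : δ c * x * (δ d * y) ≠ 1 := by
    intro h
    apply hxy
    have h3 : δ d * y = (δ c * x)⁻¹ := eq_inv_of_mul_eq_one_right h
    have h4 : B y = B x := by
      rw [← H.B_mul d y hy, h3, H.inv_eq, H.B_mul _ _ hx1, H.B_mul _ _ hx]
    rw [hμ, h4, dt_self]
  have hprod : δ c * x * (δ d * y) = δ (c + d) * (x * y) := by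
    calc δ c * x * (δ d * y) = δ c * (x * δ d) * y := by group
      _ = δ c * (δ d * x) * y := by rw [← H.cen d x]
      _ = δ (c + d) * (x * y) := by rw [H.add]; group
  obtain ⟨h3, h4⟩ := H.key _ _ hx1 hy1 hT hne
  rw [hprod] at h3 h4
  have hxyR : x * y ∉ Set.range δ := by
    rintro ⟨z, hz⟩
    exact h3 ⟨c + d + z, by rw [H.add, hz]⟩
  refine ⟨hxyR, c, d, h1, h2, ?_⟩
  rw [← H.T_mul _ _ hxyR, h4, H.T_mul _ _ hx]

theorem Coord.B_comm (H : Coord δ sq T B) {x y : Q} (h : x * y ∉ Set.range δ) :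
    B (y * x) = B (x * y) := by
  have h1 : y * x = δ (sq (x * y) + sq x + sq y) * (x * y) := by
    have h2 : y * x = x⁻¹ * (x * y * (x * y)) * y⁻¹ := by group
    rw [h2, H.sq_spec, H.inv_eq x, H.inv_eq y, H.add, H.add]
    calc δ (sq x) * x * δ (sq (x * y)) * (δ (sq y) * y)
        = δ (sq x) * (x * δ (sq (x * y))) * δ (sq y) * y := by group
      _ = δ (sq x) * δ (sq (x * y)) * (x * δ (sq y)) * y := by rw [← H.cen (sq (x * y)) x]; group
      _ = (δ (sq x) * δ (sq (x * y))) * δ (sq y) * x * y := by rw [← H.cen (sq y) x]; group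
      _ = _ := by rw [H.cen (sq x) (δ (sq (x * y)))]; group
  rw [h1, H.B_mul _ _ h]

/-- `(F1)` -/
theorem Coord.B_mul_formula (H : Coord δ sq T B) {x y : Q} (hx : x ∉ Set.range δ)
    (hy : y ∉ Set.range δ) (hxy : dt (B x) (B y) ≠ 0) :
    (sq x + sq y + sq x * sq y * dt (B x) (B y)) • B (x * y) = sq x • B x + sq y • B y := by
  obtain ⟨hR, c, d, h1, h2, h3⟩ := H.mul_formula hx hy hxy
  have hyx : dt (B y) (B x) ≠ 0 := by rwa [dt_comm]
  obtain ⟨hR', c', d', h1', h2', h3'⟩ := H.mul_formula hy hx hyx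
  set μ := dt (B x) (B y) with hμ
  set W := μ⁻¹ • (B x + B y) with hW
  have hW' : (dt (B y) (B x))⁻¹ • (B y + B x) = W := by
    rw [hW, dt_comm, add_comm]
  rw [hW'] at h1' h2'
  have hWx : dt W (B x) = 1 := by
    rw [hW, dt_smul_left, dt_add_left, dt_self, zero_add, dt_comm, ← hμ, inv_mul_cancel₀ hxy]
  have hWy : dt W (B y) = 1 := by
    rw [hW, dt_smul_left, dt_add_left, dt_self, add_zero, ← hμ, inv_mul_cancel₀ hxy]
  set p := B (x * y) with hp
  have e1 : dt (W + sq x • B x) p = 1 := by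
    have h4 : W + sq x • B x = T (x * y) + (c + d) • p := by
      rw [h3, ← h1, add_smul, add_assoc, add_assoc, add_self_vec, add_zero]
    rw [h4, dt_add_left, dt_smul_left, dt_self, mul_zero, add_zero]
    exact H.det _ hR
  have e2 : dt (W + sq y • B y) p = 1 := by
    have hp' : p = B (y * x) := (H.B_comm hR).symm
    have h4 : W + sq y • B y = T (y * x) + (c' + d') • B (y * x) := by
      rw [h3', ← h1', add_smul, add_assoc, add_assoc, add_self_vec, add_zero]
    rw [h4, hp', dt_add_left, dt_smul_left, dt_self, mul_zero, add_zero]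
    exact H.det _ hR'
  have h5 := cramer (W + sq x • B x) (W + sq y • B y) p
  rw [e1, dt_comm p, e2, one_smul, one_smul] at h5
  have h6 : dt (W + sq x • B x) (W + sq y • B y) = sq x + sq y + sq x * sq y * μ := by
    rw [dt_add_left, dt_add_right, dt_add_right, dt_self, dt_smul_right, hWy, dt_smul_left,
      dt_comm (B x) W, hWx, dt_smul_left, dt_smul_right, ← hμ]
    ring
  rw [h6] at h5
  rw [h5]
  have h7 : W + sq x • B x + (W + sq y • B y) = (W + W) + (sq x • B x + sq y • B y) := by abel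
  rw [h7, add_self_vec, zero_add]

/-- `(F2)` -/
theorem Coord.sq_mul_formula (H : Coord δ sq T B) {x y : Q} (hx : x ∉ Set.range δ)
    (hy : y ∉ Set.range δ) (hxy : dt (B x) (B y) ≠ 0) :
    sq (x * y) = sq x + sq y + sq x * sq y * dt (B x) (B y) := by
  have h1 := H.B_mul_formula hx hy hxy
  obtain ⟨hR, -⟩ := H.mul_formula hx hy hxy
  set D := sq x + sq y + sq x * sq y * dt (B x) (B y) with hD
  have h2 : D * dt (B (x * y)) (B y) = sq x * dt (B x) (B y) := by
    have h3 := congrArg (fun v => dt v (B y)) h1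
    simp only [dt_smul_left, dt_add_left, dt_self, mul_zero, add_zero] at h3
    exact h3
  have hX := H.sq_ne hx
  have hY := H.sq_ne hy
  have hμ' : dt (B (x * y)) (B y) ≠ 0 := by
    intro h
    rw [h, mul_zero] at h2
    exact (mul_ne_zero hX hxy) h2.symm
  have hD0 : D ≠ 0 := by
    intro h
    rw [h, zero_mul] at h2
    exact (mul_ne_zero hX hxy) h2.symm
  have h3 := H.B_mul_formula hR hy hμ'
  have h4 : x * y * y = δ (sq y) * x := by
    rw [mul_assoc, H.sq_spec, H.cen]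
  rw [h4, H.B_mul _ _ hx] at h3
  set Z := sq (x * y) with hZ
  set μ' := dt (B (x * y)) (B y) with hμd
  set μ := dt (B x) (B y) with hμ
  have h5 : (Z + sq y + Z * sq y * μ') * μ = Z * μ' := by
    have h3 := congrArg (fun v => dt v (B y)) h3
    simp only [dt_smul_left, dt_add_left, dt_self, mul_zero, add_zero] at h3
    exact h3
  -- multiply by `D`
  have h6 : (Z * D + sq y * D + Z * sq y * (sq x * μ)) * μ = Z * (sq x * μ) := by
    rw [← h2]
    linear_combination D * h5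
  have h7 : Z * D + sq y * D + Z * sq y * (sq x * μ) = Z * sq x := by
    apply mul_right_cancel₀ hxy
    rw [h6]; ring
  have h8 : sq y * Z = sq y * D := by
    have h9 : ∀ z : F, z + z = 0 := CharTwo.add_self_eq_zero
    rw [hD] at h7 ⊢
    linear_combination h7 - h9 (sq y * (sq x + sq y + sq x * sq y * μ)) - h9 (Z * sq x * sq y * μ)
  exact mul_left_cancel₀ hY h8

/-- The inversion `I x = sq x • B x` is additive on independent pairs. -/
theorem Coord.I_mul (H : Coord δ sq T B) {x y : Q} (hx : x ∉ Set.range δ)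
    (hy : y ∉ Set.range δ) (hxy : dt (B x) (B y) ≠ 0) :
    sq (x * y) • B (x * y) = sq x • B x + sq y • B y := by
  rw [H.sq_mul_formula hx hy hxy, H.B_mul_formula hx hy hxy]

theorem Coord.B_inv (H : Coord δ sq T B) {x : Q} (hx : x ∉ Set.range δ) : B x⁻¹ = B x := by
  rw [H.inv_eq, H.B_mul _ _ hx]

theorem Coord.T_inv (H : Coord δ sq T B) {x : Q} (hx : x ∉ Set.range δ) :
    T x⁻¹ = T x + sq x • B x := by
  rw [H.inv_eq, H.T_mul _ _ hx]

theorem Coord.sq_inv (H : Coord δ sq T B) (x : Q) : sq x⁻¹ = sq x := by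
  rw [H.inv_eq, H.sq_mul]

theorem Coord.inv_not_mem (H : Coord δ sq T B) {x : Q} (hx : x ∉ Set.range δ) :
    x⁻¹ ∉ Set.range δ := by
  rw [H.inv_eq]; exact H.not_mem hx _

theorem Coord.sq_eq_of_B (H : Coord δ sq T B) {x y : Q} (hx : x ∉ Set.range δ)
    (hy : y ∉ Set.range δ) (h : B x = B y) : sq x = sq y := by
  obtain ⟨c, rfl⟩ := H.exists_eq hx hy h
  rw [H.sq_mul]

omit [CharP F 2] in
theorem Coord.B_ne (H : Coord δ sq T B) {x : Q} (hx : x ∉ Set.range δ) : B x ≠ 0 := by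
  intro h
  have h1 := H.det x hx
  rw [h] at h1
  simp [dt] at h1

/-- Dependent bottom rows with proportional `I`. -/
theorem Coord.scale (H : Coord δ sq T B) {x y : Q} (hx : x ∉ Set.range δ)
    (hy : y ∉ Set.range δ) {l : F} (hl : l ≠ 0) (h : B y = l • B x) : l ^ 2 * sq y = sq x := by
  obtain ⟨z, hz, hzB, hzs⟩ := H.hom l hl x hx
  rw [H.sq_eq_of_B hy hz (by rw [h, hzB]), hzs]

theorem Coord.sq_eq_of_I (H : Coord δ sq T B) {x y : Q} (hx : x ∉ Set.range δ)
    (hy : y ∉ Set.range δ) (h : sq x • B x = sq y • B y) : sq x = sq y := by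
  have hX := H.sq_ne hx
  have hY := H.sq_ne hy
  have h1 : B y = (sq x / sq y) • B x := by
    rw [div_eq_inv_mul, mul_smul, h, smul_smul, inv_mul_cancel₀ hY, one_smul]
  have h2 := H.scale hx hy (div_ne_zero hX hY) h1
  field_simp at h2
  exact h2

omit [CharP F 2] in
theorem Coord.exists_indep (H : Coord δ sq T B) {x : Q} (hx : x ∉ Set.range δ) :
    ∃ w, w ∉ Set.range δ ∧ dt (B x) (B w) = 1 := by
  obtain ⟨w, hw, -, hwB⟩ := H.surj (B x) (T x) (by rw [dt_comm]; exact H.det x hx)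
  exact ⟨w, hw, by rw [hwB, dt_comm]; exact H.det x hx⟩

end coord

section theta

variable [CharP F 2] {δ : F → Q} {sq : Q → F} {T B : Q → F × F}
  {L : Type*} [Field L] [CharP L 2] [Algebra F L] {σ : L →+* L}

/-- The conditions on the linear map `j : F² → L`. -/
structure Good (δ : F → Q) (sq : Q → F) (B : Q → F × F) (σ : L →+* L) (j : F × F →ₗ[F] L) :
    Prop where
  fix : ∀ c : F, σ (algebraMap F L c) = algebraMap F L c
  nrm : ∀ x, x ∉ Set.range δ → j (B x) * σ (j (B x)) * algebraMap F L (sq x) = 1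
  pol : ∀ u v, j u * σ (j v) + σ (j u) * j v = algebraMap F L (dt u v)

variable {j : F × F →ₗ[F] L}

omit [Group Q] [CharP F 2] [CharP L 2] in
theorem Good.jB_ne (J : Good δ sq B σ j) {x : Q} (hx : x ∉ Set.range δ) :
    j (B x) ≠ 0 := by
  intro h
  have h1 := J.nrm x hx
  rw [h, zero_mul, zero_mul] at h1
  exact zero_ne_one h1

omit [Group Q] [CharP F 2] [CharP L 2] in
/-- `σ(ι(sq x) (j B)) = 1 / j B`. -/
theorem Good.a_eq (J : Good δ sq B σ j) {x : Q} (hx : x ∉ Set.range δ) :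
    σ (algebraMap F L (sq x) * j (B x)) = (j (B x))⁻¹ := by
  have h1 := J.nrm x hx
  rw [map_mul, J.fix]
  apply eq_inv_of_mul_eq_one_left
  linear_combination h1

omit [CharP F 2] [CharP L 2] in
theorem Good.b_eq (J : Good δ sq B σ j) (H : Coord δ sq T B) {x : Q} (hx : x ∉ Set.range δ) :
    j (T x) / j (B x) + σ (j (T x) / j (B x)) = algebraMap F L (sq x) := by
  have h1 := J.nrm x hx
  have h3 := J.jB_ne hx
  have h3' : σ (j (B x)) ≠ 0 := by rw [Ne, map_eq_zero]; exact h3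
  have h4 := J.pol (T x) (B x)
  rw [H.det x hx, map_one] at h4
  rw [map_div₀]
  field_simp
  linear_combination h4 - h1

omit [CharP F 2] in
/-- The map `Q → Heis σ` on elements. -/
theorem Good.exists_theta (J : Good δ sq B σ j) (H : Coord δ sq T B) :
    ∃ Θ : Q → Heis σ, (∀ c, (Θ (δ c)).a = 0 ∧ (Θ (δ c)).b = algebraMap F L c) ∧
      ∀ x, x ∉ Set.range δ → (Θ x).a = algebraMap F L (sq x) * j (B x) ∧
        (Θ x).b = j (T x) / j (B x) := by
  classical
  have key : ∀ x : Q, ∃ h : Heis σ, (∀ c, x = δ c → h.a = 0 ∧ h.b = algebraMap F L c) ∧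
      (x ∉ Set.range δ → h.a = algebraMap F L (sq x) * j (B x) ∧ h.b = j (T x) / j (B x)) := by
    intro x
    by_cases hx : x ∈ Set.range δ
    · obtain ⟨c, rfl⟩ := hx
      refine ⟨⟨0, algebraMap F L c, ?_⟩, fun d hd => ?_, fun h => absurd ⟨c, rfl⟩ h⟩
      · rw [J.fix, CharTwo.add_self_eq_zero, zero_mul]
      · rw [H.inj hd]; exact ⟨rfl, rfl⟩
    · refine ⟨⟨algebraMap F L (sq x) * j (B x), j (T x) / j (B x), ?_⟩,
        fun c hc => absurd ⟨c, hc.symm⟩ hx, fun _ => ⟨rfl, rfl⟩⟩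
      rw [J.b_eq H hx, J.a_eq hx, mul_assoc, mul_inv_cancel₀ (J.jB_ne hx), mul_one]
  choose Θ h1 h2 using key
  exact ⟨Θ, fun c => h1 _ c rfl, h2⟩

variable [hσ : Fact (∀ x, σ (σ x) = x)]

/-- `Θ` is multiplicative. -/
theorem Good.theta_mul (J : Good δ sq B σ j) (H : Coord δ sq T B) {Θ : Q → Heis σ}
    (h0 : ∀ c, (Θ (δ c)).a = 0 ∧ (Θ (δ c)).b = algebraMap F L c)
    (h1 : ∀ x, x ∉ Set.range δ → (Θ x).a = algebraMap F L (sq x) * j (B x) ∧
        (Θ x).b = j (T x) / j (B x)) (x y : Q) : Θ (x * y) = Θ x * Θ y := by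
  -- left multiplication by `E`
  have hE : ∀ c y, Θ (δ c * y) = Θ (δ c) * Θ y := by
    intro c y
    by_cases hy : y ∈ Set.range δ
    · obtain ⟨d, rfl⟩ := hy
      rw [← H.add]
      ext
      · rw [mul_a, (h0 _).1, (h0 _).1, (h0 _).1, add_zero]
      · rw [mul_b, (h0 _).2, (h0 _).2, (h0 _).2, (h0 _).1, zero_mul, add_zero, map_add]
    · have hyc := H.not_mem hy c
      ext
      · rw [mul_a, (h1 _ hyc).1, (h0 _).1, (h1 _ hy).1, H.sq_mul, H.B_mul _ _ hy, zero_add]
      · rw [mul_b, (h1 _ hyc).2, (h0 _).2, (h1 _ hy).2, (h0 _).1, zero_mul, add_zero,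
          H.T_mul _ _ hy, H.B_mul _ _ hy, map_add, map_smul, Algebra.smul_def, add_div,
          mul_div_assoc, div_self (J.jB_ne hy), mul_one, add_comm]
  have hEc : ∀ c (h : Heis σ), Θ (δ c) * h = h * Θ (δ c) := by
    intro c h
    ext
    · rw [mul_a, mul_a, add_comm]
    · rw [mul_b, mul_b, (h0 c).1, zero_mul, map_zero, mul_zero, add_comm (h.b)]
  -- independent pairs
  have hind : ∀ x y, x ∉ Set.range δ → y ∉ Set.range δ → dt (B x) (B y) ≠ 0 →
      Θ (x * y) = Θ x * Θ y := by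
    intro x y hx hy hxy
    obtain ⟨hR, c, d, e1, e2, e3⟩ := H.mul_formula hx hy hxy
    have hI := H.I_mul hx hy hxy
    have hA : (Θ (x * y)).a = (Θ x).a + (Θ y).a := by
      rw [(h1 _ hR).1, (h1 _ hx).1, (h1 _ hy).1, ← Algebra.smul_def, ← Algebra.smul_def,
        ← Algebra.smul_def, ← map_smul, ← map_smul, ← map_smul, hI, map_add]
    have hjx := J.jB_ne hx
    have hjy := J.jB_ne hy
    have hjxy := J.jB_ne hR
    have hinv : (j (B (x * y)))⁻¹ = (j (B x))⁻¹ + (j (B y))⁻¹ := by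
      rw [← J.a_eq hx, ← J.a_eq hy, ← J.a_eq hR, ← map_add, ← (h1 _ hR).1, ← (h1 _ hx).1,
        ← (h1 _ hy).1, hA]
    ext
    · rw [mul_a, hA]
    · have h5 : j (T (x * y)) = j (T x) + algebraMap F L c * j (B x) +
          (algebraMap F L c + algebraMap F L d) * j (B (x * y)) := by
        have h6 : T (x * y) = T x + c • B x + (c + d) • B (x * y) := by
          rw [← e3, add_assoc, add_self_vec, add_zero]
        rw [h6, map_add, map_add, map_smul, map_smul, Algebra.smul_def, Algebra.smul_def, map_add]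
      have h6 : j (T x) + algebraMap F L c * j (B x) + algebraMap F L (sq x) * j (B x) =
          j (T y) + algebraMap F L d * j (B y) := by
        have h7 := congrArg j (e1.trans e2.symm)
        rw [map_add, map_add, map_smul, map_smul, Algebra.smul_def, Algebra.smul_def, map_add,
          add_mul, ← add_assoc] at h7
        exact h7
      have h8 : σ ((Θ y).a) = (j (B y))⁻¹ := by rw [(h1 _ hy).1, J.a_eq hy]
      rw [mul_b, (h1 _ hR).2, h5, h8, (h1 _ hx).2, (h1 _ hy).2, (h1 _ hx).1, add_div,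
        mul_div_assoc, div_self hjxy, mul_one, div_eq_mul_inv _ (j (B (x * y))), hinv]
      have h9 : ∀ z : L, z + z = 0 := CharTwo.add_self_eq_zero
      field_simp
      linear_combination (j (B x)) * h6 + h9 (j (B x) * algebraMap F L d * j (B y)) -
        h9 (j (B x) * algebraMap F L (sq x) * j (B x)) + h9 (algebraMap F L c * j (B x) * j (B y))
  -- all pairs
  by_cases hx : x ∈ Set.range δ
  · obtain ⟨c, rfl⟩ := hx
    exact hE c y
  by_cases hy : y ∈ Set.range δ
  · obtain ⟨d, rfl⟩ := hy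
    rw [← H.cen d x, hE, hEc]
  by_cases hxy : dt (B x) (B y) ≠ 0
  · exact hind x y hx hy hxy
  push Not at hxy
  -- the square
  have hsqΘ : ∀ x, x ∉ Set.range δ → Θ x * Θ x = Θ (δ (sq x)) := by
    intro x hx
    ext
    · rw [mul_a, (h0 _).1, CharTwo.add_self_eq_zero]
    · rw [mul_b, (h0 _).2, CharTwo.add_self_eq_zero, zero_add, (h1 _ hx).1, J.a_eq hx, mul_assoc,
        mul_inv_cancel₀ (J.jB_ne hx), mul_one]
  obtain ⟨w, hw, hxw⟩ := H.exists_indep hx
  -- `B y = l • B x`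
  have hyl : B y = dt (T x) (B y) • B x := by
    have h5 := cramer (T x) (B x) (B y)
    rw [H.det x hx, dt_comm (B y), hxy, zero_smul, zero_add, one_smul] at h5
    exact h5
  obtain ⟨l, hl⟩ : ∃ l, l = dt (T x) (B y) := ⟨_, rfl⟩
  rw [← hl] at hyl
  have hl0 : l ≠ 0 := by
    rintro rfl
    exact H.B_ne hy (by rw [hyl, zero_smul])
  have hwi := H.inv_not_mem hw
  have hxw0 : dt (B x) (B w) ≠ 0 := by rw [hxw]; exact one_ne_zero
  have hwy : dt (B w⁻¹) (B y) = l := by
    rw [H.B_inv hw, hyl, dt_smul_right, dt_comm, hxw, mul_one]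
  have hwy0 : dt (B w⁻¹) (B y) ≠ 0 := by rw [hwy]; exact hl0
  have hΘwi : Θ w⁻¹ = (Θ w)⁻¹ := by
    apply eq_inv_of_mul_eq_one_left
    rw [H.inv_eq, hE, mul_assoc, hsqΘ w hw, ← hE, ← H.add, CharTwo.add_self_eq_zero]
    ext
    · rw [(h0 _).1, one_a]
    · rw [(h0 _).2, one_b, map_zero]
  obtain ⟨hR1, -⟩ := H.mul_formula hx hw hxw0
  obtain ⟨hR2, -⟩ := H.mul_formula hwi hy hwy0
  have hI1 := H.I_mul hx hw hxw0
  have hI2 := H.I_mul hwi hy hwy0
  have hdt : sq (x * w) * (sq (w⁻¹ * y) * dt (B (x * w)) (B (w⁻¹ * y))) =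
      sq w * (sq x + l * sq y) := by
    have h5 : dt (sq (x * w) • B (x * w)) (sq (w⁻¹ * y) • B (w⁻¹ * y)) =
        sq (x * w) * (sq (w⁻¹ * y) * dt (B (x * w)) (B (w⁻¹ * y))) := by
      rw [dt_smul_left, dt_smul_right]
    rw [← h5, hI1, hI2, H.B_inv hw, H.sq_inv, dt_add_left, dt_add_right, dt_add_right]
    simp only [dt_smul_left, dt_smul_right, dt_self, hxy, hxw, mul_zero, add_zero]
    have h6 : dt (B w) (B y) = l := by rw [← hwy, H.B_inv hw]
    rw [h6]
    ring
  by_cases hcase : sq x + l * sq y = 0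
  · -- `y ∈ E x`
    have h5 : sq x = l * sq y := CharTwo.add_eq_zero.mp hcase
    have h6 := H.scale hx hy hl0 hyl
    have h7 : l = 1 := by
      have h8 : l * (l * sq y) = 1 * (l * sq y) := by
        rw [one_mul, ← mul_assoc, ← pow_two, h6, h5]
      exact mul_right_cancel₀ (mul_ne_zero hl0 (H.sq_ne hy)) h8
    rw [h7, one_smul] at hyl
    obtain ⟨c, rfl⟩ := H.exists_eq hx hy hyl.symm
    have h8 : x * (δ c * x) = δ (c + sq x) := by
      rw [← mul_assoc, ← H.cen, mul_assoc, H.sq_spec, H.add]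
    rw [h8, hE, ← mul_assoc, ← hEc c (Θ x), mul_assoc, hsqΘ x hx, ← hE, H.add]
  · have h5 : dt (B (x * w)) (B (w⁻¹ * y)) ≠ 0 := by
      intro h6
      rw [h6, mul_zero, mul_zero] at hdt
      exact (mul_ne_zero (H.sq_ne hw) hcase) hdt.symm
    have h6 := hind _ _ hR1 hR2 h5
    rw [hind x w hx hw hxw0, hind _ _ hwi hy hwy0, hΘwi] at h6
    have h7 : x * w * (w⁻¹ * y) = x * y := by group
    rw [h7] at h6
    rw [h6]; group

omit [CharP F 2] in
/-- `Θ` is injective. -/
theorem Good.theta_inj (J : Good δ sq B σ j) (H : Coord δ sq T B) {Θ : Q → Heis σ}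
    (h0 : ∀ c, (Θ (δ c)).a = 0 ∧ (Θ (δ c)).b = algebraMap F L c)
    (h1 : ∀ x, x ∉ Set.range δ → (Θ x).a = algebraMap F L (sq x) * j (B x) ∧
        (Θ x).b = j (T x) / j (B x)) (x : Q) (hx : Θ x = 1) : x = 1 := by
  by_cases hxR : x ∈ Set.range δ
  · obtain ⟨c, rfl⟩ := hxR
    have h2 := (h0 c).2
    rw [hx, one_b] at h2
    have h3 : c = 0 := by
      apply (algebraMap F L).injective
      rw [← h2, map_zero]
    rw [h3, H.zero]
  · exfalso
    have h2 := (h1 x hxR).1
    rw [hx, one_a] at h2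
    have h3 : algebraMap F L (sq x) ≠ 0 := by rw [Ne, map_eq_zero]; exact H.sq_ne hxR
    exact (mul_ne_zero h3 (J.jB_ne hxR)) h2.symm

omit [CharP F 2] in
/-- `Θ` is surjective. -/
theorem Good.theta_surj (J : Good δ sq B σ j) (H : Coord δ sq T B)
    (hj : Function.Surjective j) (hfix : ∀ b : L, σ b = b → ∃ c : F, algebraMap F L c = b)
    {Θ : Q → Heis σ}
    (h0 : ∀ c, (Θ (δ c)).a = 0 ∧ (Θ (δ c)).b = algebraMap F L c)
    (h1 : ∀ x, x ∉ Set.range δ → (Θ x).a = algebraMap F L (sq x) * j (B x) ∧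
        (Θ x).b = j (T x) / j (B x)) (h : Heis σ) : ∃ x, Θ x = h := by
  by_cases ha : h.a = 0
  · have h2 : σ h.b = h.b := b_fixed_of_a_eq_zero ha
    obtain ⟨c, hc⟩ := hfix _ h2
    refine ⟨δ c, ?_⟩
    ext
    · rw [(h0 c).1, ha]
    · rw [(h0 c).2, hc]
  · have hσa : σ h.a ≠ 0 := by rw [Ne, map_eq_zero]; exact ha
    obtain ⟨v, hv⟩ := hj (σ h.a)⁻¹
    obtain ⟨u, hu⟩ := hj (h.b * (σ h.a)⁻¹)
    have hdt : dt u v = 1 := by
      apply (algebraMap F L).injective
      rw [← J.pol, hu, hv, map_mul, map_inv₀, sig, map_one]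
      have h3 := h.h
      field_simp
      linear_combination h3
    obtain ⟨x, hx, hxT, hxB⟩ := H.surj u v hdt
    refine ⟨x, ?_⟩
    have h3 := J.nrm x hx
    rw [hxB, hv, map_inv₀, sig] at h3
    ext
    · rw [(h1 x hx).1, hxB, hv]
      field_simp at h3 ⊢
      linear_combination h3
    · rw [(h1 x hx).2, hxB, hv, hxT, hu]
      field_simp

/-- The map `f` in coordinates. -/
theorem Good.theta_f (J : Good δ sq B σ j) (H : Coord δ sq T B) {Θ : Q → Heis σ}
    (h1 : ∀ x, x ∉ Set.range δ → (Θ x).a = algebraMap F L (sq x) * j (B x) ∧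
        (Θ x).b = j (T x) / j (B x)) {x y : Q} (hx : x ∉ Set.range δ) (hy : y ∉ Set.range δ)
    (hB : B y = T x + sq x • B x) (hT : T y = B x + sq y • B y) :
    (Θ y).a = (Θ x).a / (Θ x).b ∧ (Θ y).b = ((Θ x).b)⁻¹ := by
  have hjx := J.jB_ne hx
  have hjy := J.jB_ne hy
  have hbx := J.b_eq H hx
  have hby := J.b_eq H hy
  have e1 : j (B y) = σ (j (T x) / j (B x)) * j (B x) := by
    have h3 : σ (j (T x) / j (B x)) = j (T x) / j (B x) + algebraMap F L (sq x) := by
      rw [← hbx, ← add_assoc, CharTwo.add_self_eq_zero, zero_add]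
    rw [h3, hB, map_add, map_smul, Algebra.smul_def]
    field_simp
  have e2 : σ (j (T y) / j (B y)) = j (B x) / j (B y) := by
    have h3 : σ (j (T y) / j (B y)) = j (T y) / j (B y) + algebraMap F L (sq y) := by
      rw [← hby, ← add_assoc, CharTwo.add_self_eq_zero, zero_add]
    have h4 : ∀ z : L, z + z = 0 := CharTwo.add_self_eq_zero
    rw [h3, hT, map_add, map_smul, Algebra.smul_def]
    field_simp
    linear_combination h4 (j (B y) * algebraMap F L (sq y))
  have hb : j (T y) / j (B y) = (j (T x) / j (B x))⁻¹ := by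
    have h3 := congrArg σ e2
    rw [sig, map_div₀, e1, map_mul, sig] at h3
    have h4 : σ (j (B x)) ≠ 0 := by rw [Ne, map_eq_zero]; exact hjx
    have h5 : j (T x) / j (B x) ≠ 0 := by
      intro h6
      rw [h6, map_zero, zero_mul] at e1
      exact hjy e1
    rw [← e1] at h3
    rw [h3, div_mul_eq_div_div_swap, div_self h4, one_div]
  refine ⟨?_, by rw [(h1 y hy).2, (h1 x hx).2, hb]⟩
  have h3 : σ ((Θ y).a) = σ ((Θ x).a / (Θ x).b) := by
    rw [map_div₀, (h1 y hy).1, (h1 x hx).1, (h1 x hx).2, J.a_eq hy, J.a_eq hx, e1, mul_inv, mul_comm]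
    exact (div_eq_mul_inv _ _).symm
  have h4 := congrArg σ h3
  rwa [sig, sig] at h4

end theta

section field

variable {F : Type} [Field F] [CharP F 2] {δ : F → Q} {sq : Q → F} {T B : Q → F × F}

omit [CharP F 2] in
/-- An element with prescribed `I x = sq x • B x` proportional to a given one. -/
theorem Coord.exists_I (H : Coord δ sq T B) {x : Q} (hx : x ∉ Set.range δ) {l : F} (hl : l ≠ 0) :
    ∃ y, y ∉ Set.range δ ∧ sq y • B y = l • (sq x • B x) ∧ sq y = l ^ 2 * sq x := by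
  obtain ⟨y, hy, hyB, hys⟩ := H.hom l⁻¹ (inv_ne_zero hl) x hx
  have h1 : sq y = l ^ 2 * sq x := by
    rw [← hys]
    field_simp
  refine ⟨y, hy, ?_, h1⟩
  rw [hyB, h1, smul_smul, smul_smul]
  congr 1
  field_simp

/-- A normalised basis. -/
theorem Coord.exists_basis [Finite F] (H : Coord δ sq T B) : ∃ x w, x ∉ Set.range δ ∧
    w ∉ Set.range δ ∧ sq x = 1 ∧ dt (sq x • B x) (sq w • B w) = 1 := by
  obtain ⟨x0, hx0, -⟩ := H.surj (1, 0) (0, 1) (by simp [dt])
  have hs := H.sq_ne hx0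
  obtain ⟨m, hm⟩ := FiniteField.isSquare_of_char_two (F := F) (ringChar.eq_iff.2 inferInstance)
    (sq x0)⁻¹
  have hm0 : m ≠ 0 := by
    rintro rfl
    rw [mul_zero] at hm
    exact inv_ne_zero hs hm
  obtain ⟨x, hx, -, hxs⟩ := H.exists_I hx0 hm0
  have hxs1 : sq x = 1 := by
    rw [hxs, pow_two, ← hm, inv_mul_cancel₀ hs]
  obtain ⟨w0, hw0, hxw0⟩ := H.exists_indep hx
  obtain ⟨w, hw, hwI, -⟩ := H.exists_I hw0 (inv_ne_zero (H.sq_ne hw0))
  refine ⟨x, w, hx, hw, hxs1, ?_⟩
  rw [hwI, dt_smul_left, dt_smul_right, dt_smul_right, hxw0, hxs1, one_mul, mul_one,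
    inv_mul_cancel₀ (H.sq_ne hw0)]

/-- The quadratic form. -/
theorem Coord.form (H : Coord δ sq T B) {x w : Q} (hx : x ∉ Set.range δ)
    (hw : w ∉ Set.range δ) (hsx : sq x = 1) (hxw : dt (sq x • B x) (sq w • B w) = 1)
    {z : Q} (hz : z ∉ Set.range δ) :
    sq z = dt (sq z • B z) (sq w • B w) ^ 2 + dt (sq z • B z) (sq w • B w) *
      dt (sq x • B x) (sq z • B z) + sq w * dt (sq x • B x) (sq z • B z) ^ 2 := by
  set v := sq x • B x with hv
  set w' := sq w • B w with hw'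
  set I := sq z • B z with hI
  set α := dt I w' with hα
  set β := dt v I with hβ
  have hexp : I = α • v + β • w' := by
    have h1 := cramer v w' I
    rw [hxw, one_smul] at h1
    exact h1
  have hI0 : I ≠ 0 := smul_ne_zero (H.sq_ne hz) (H.B_ne hz)
  by_cases hα0 : α = 0
  · have hβ0 : β ≠ 0 := by
      intro h
      rw [h, hα0, zero_smul, zero_smul, add_zero] at hexp
      exact hI0 hexp
    obtain ⟨y, hy, hyI, hys⟩ := H.exists_I hw hβ0
    have h1 : sq z • B z = sq y • B y := by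
      rw [← hI, hexp, hα0, zero_smul, zero_add, hyI]
    rw [H.sq_eq_of_I hz hy h1, hys, hα0]
    ring
  by_cases hβ0 : β = 0
  · obtain ⟨y, hy, hyI, hys⟩ := H.exists_I hx hα0
    have h1 : sq z • B z = sq y • B y := by
      rw [← hI, hexp, hβ0, zero_smul, add_zero, hyI]
    rw [H.sq_eq_of_I hz hy h1, hys, hβ0, hsx]
    ring
  · obtain ⟨y1, hy1, hyI1, hys1⟩ := H.exists_I hx hα0
    obtain ⟨y2, hy2, hyI2, hys2⟩ := H.exists_I hw hβ0
    have hd : sq y1 * (sq y2 * dt (B y1) (B y2)) = α * β := by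
      rw [← dt_smul_right, ← dt_smul_left, hyI1, hyI2, dt_smul_left, dt_smul_right]
      rw [hxw, mul_one]
    have hd0 : dt (B y1) (B y2) ≠ 0 := by
      intro h
      rw [h, mul_zero, mul_zero] at hd
      exact (mul_ne_zero hα0 hβ0) hd.symm
    obtain ⟨hR, -⟩ := H.mul_formula hy1 hy2 hd0
    have h1 : sq z • B z = sq (y1 * y2) • B (y1 * y2) := by
      rw [← hI, hexp, H.I_mul hy1 hy2 hd0, hyI1, hyI2]
    rw [H.sq_eq_of_I hz hR h1, H.sq_mul_formula hy1 hy2 hd0, mul_assoc (sq y1), hd, hys1, hys2,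
      hsx]
    ring

/-- Main algebraic theorem: `Q` is the Hermitian Heisenberg group. -/
theorem exists_heis [Fintype F] (H : Coord δ sq T B) (n : ℕ) (hn : Fintype.card F = 2 ^ n) :
    ∃ (L : Type) (_ : Field L) (_ : Fintype L) (_ : CharP L 2) (σ : L →+* L)
      (_ : Fact (∀ x, σ (σ x) = x)),
      Fintype.card L = (2 ^ n) ^ 2 ∧ (∀ x, σ x = x ^ (2 ^ n)) ∧
      ∃ φ : Q ≃* Heis σ,
        (∀ c : F, (φ (δ c)).a = 0) ∧ (∀ c : F, (φ (δ c⁻¹)).b = ((φ (δ c)).b)⁻¹) ∧
        ∀ x y, x ∉ Set.range δ → y ∉ Set.range δ → B y = T x + sq x • B x →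
          T y = B x + sq y • B y →
          (φ y).a = (φ x).a / (φ x).b ∧ (φ y).b = ((φ x).b)⁻¹ := by
  obtain ⟨x0, w0, hx0, hw0, hsx0, hxw0⟩ := H.exists_basis
  have hform := fun z (hz : z ∉ Set.range δ) => H.form hx0 hw0 hsx0 hxw0 hz
  obtain ⟨v, hv⟩ : ∃ v, v = sq x0 • B x0 := ⟨_, rfl⟩
  obtain ⟨w, hw⟩ : ∃ w, w = sq w0 • B w0 := ⟨_, rfl⟩
  rw [← hv, ← hw] at hxw0
  rw [← hv, ← hw] at hform
  obtain ⟨c0, hc0⟩ : ∃ c0, c0 = sq w0 := ⟨_, rfl⟩
  rw [← hc0] at hform
  -- irreducibility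
  have hirr : ∀ r : F, r ^ 2 ≠ c0 + 1 * r := by
    intro r hr
    by_cases hr0 : r = 0
    · rw [hr0] at hr
      apply H.sq_ne hw0
      rw [← hc0]
      simpa using hr.symm
    · obtain ⟨y, hy, hyI, hys⟩ := H.exists_I hx0 hr0
      have hd : sq y * (sq w0 * dt (B y) (B w0)) = r := by
        rw [← dt_smul_right, ← dt_smul_left, hyI, ← hv, ← hw, dt_smul_left, hxw0, mul_one]
      have hd0 : dt (B y) (B w0) ≠ 0 := by
        intro h
        rw [h, mul_zero, mul_zero] at hd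
        exact hr0 hd.symm
      obtain ⟨hR, -⟩ := H.mul_formula hy hw0 hd0
      apply H.sq_ne hR
      rw [H.sq_mul_formula hy hw0 hd0, mul_assoc (sq y), hd, hys, hsx0, mul_one, hr, ← hc0, one_mul]
      have h9 : ∀ z : F, z + z = 0 := CharTwo.add_self_eq_zero
      linear_combination h9 c0 + h9 r
  obtain ⟨L, iF, iFt, iC, iA, σ, iσ, ω, hcard, hfrob, hfix, hfix', hω, hN, hdec⟩ :=
    UThreeField.exists_quadratic F n hn c0 hirr
  have h9 : ∀ z : L, z + z = 0 := CharTwo.add_self_eq_zero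
  -- the linear map
  let j : F × F →ₗ[F] L :=
    { toFun := fun u => algebraMap F L (dt u w) + algebraMap F L (dt v u) * ω
      map_add' := fun u u' => by
        rw [dt_add_left, dt_add_right, map_add, map_add]; ring
      map_smul' := fun c u => by
        rw [dt_smul_left, dt_smul_right, map_mul, map_mul, RingHom.id_apply, Algebra.smul_def]
        ring }
  have hj : ∀ u, j u = algebraMap F L (dt u w) + algebraMap F L (dt v u) * ω := fun u => rfl
  have hσj : ∀ u, σ (j u) = algebraMap F L (dt u w) + algebraMap F L (dt v u) * (ω + 1) := by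
    intro u
    rw [hj, map_add, map_mul, hfix, hfix, hω]
  have hexp : ∀ u, u = dt u w • v + dt v u • w := by
    intro u
    have h1 := cramer v w u
    rw [hxw0, one_smul] at h1
    exact h1
  have hNj : ∀ u, j u * σ (j u) =
      algebraMap F L (dt u w ^ 2 + dt u w * dt v u + c0 * dt v u ^ 2) := by
    intro u
    rw [hω] at hN
    rw [hσj, hj]
    simp only [map_add, map_mul, map_pow]
    linear_combination (algebraMap F L (dt v u)) ^ 2 * hN +
      h9 (algebraMap F L (dt u w) * algebraMap F L (dt v u) * ω)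
  have J : Good δ sq B σ j :=
    { fix := hfix
      nrm := fun x hx => by
        have h1 := hNj (sq x • B x)
        rw [← hform x hx, map_smul, Algebra.smul_def, map_mul, hfix] at h1
        have h2 : algebraMap F L (sq x) ≠ 0 := by rw [Ne, map_eq_zero]; exact H.sq_ne hx
        apply mul_left_cancel₀ h2
        rw [mul_one]
        linear_combination h1
      pol := fun u u' => by
        have h1 : dt u u' = dt u w * dt v u' + dt v u * dt u' w := by
          conv_lhs => rw [hexp u, hexp u']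
          rw [dt_add_left, dt_add_right, dt_add_right]
          simp only [dt_smul_left, dt_smul_right, dt_self, hxw0, dt_comm w v]
          ring
        rw [hσj, hσj, hj, hj, h1]
        simp only [map_add, map_mul]
        linear_combination h9 (algebraMap F L (dt u w) * algebraMap F L (dt u' w)) +
          h9 (algebraMap F L (dt u w) * algebraMap F L (dt v u') * ω) +
          h9 (algebraMap F L (dt u' w) * algebraMap F L (dt v u) * ω) +
          h9 (algebraMap F L (dt v u) * algebraMap F L (dt v u') * ω * (ω + 1)) }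
  have hjs : Function.Surjective j := by
    intro z
    obtain ⟨α, β, rfl⟩ := hdec z
    refine ⟨α • v + β • w, ?_⟩
    rw [hj, dt_add_left, dt_add_right]
    simp only [dt_smul_left, dt_smul_right, dt_self, hxw0]
    rw [mul_one, mul_zero, mul_one, mul_zero, add_zero, zero_add]
  obtain ⟨Θ, h0, h1⟩ := J.exists_theta H
  have hmul := J.theta_mul H h0 h1
  let Θh : Q →* Heis σ := MonoidHom.mk' Θ hmul
  have hbij : Function.Bijective Θh := by
    constructor
    · rw [injective_iff_map_eq_one]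
      intro x hx
      exact J.theta_inj H h0 h1 x hx
    · intro h
      exact J.theta_surj H hjs hfix' h0 h1 h
  refine ⟨L, iF, iFt, iC, σ, iσ, hcard, hfrob, MulEquiv.ofBijective Θh hbij, ?_, ?_, ?_⟩
  · intro c
    exact (h0 c).1
  · intro c
    show (Θ (δ c⁻¹)).b = ((Θ (δ c)).b)⁻¹
    rw [(h0 _).2, (h0 _).2, map_inv₀]
  · intro x y hx hy hB hT
    exact J.theta_f H h1 hx hy hB hT

end field

end Cfsg.Agent.SuzukiRankOne.UThreeAlg
end

-- part: SuzukiRankOne/UThreeCoord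
section
set_option autoImplicit false

/-!
The coordinates in `SL₂(F)` of the elements of `Q` in the rank one set-up with `t s t = s t s` and
`|Q| = q³`.
-/

namespace Cfsg.Agent.SuzukiRankOne.UThreeCoord

open MulAction Matrix SLTwoRel SingerField UThreeReg UThreeAlg
open Cfsg.Agent.LieRecognition

section rows

variable {F : Type} [Field F]

/-- The top row. -/
def top (A : SpecialLinearGroup (Fin 2) F) : F × F := (mat A 0 0, mat A 0 1)

/-- The bottom row. -/
def bot (A : SpecialLinearGroup (Fin 2) F) : F × F := (mat A 1 0, mat A 1 1)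

theorem top_mk (a b c d : F) (h : a * d - b * c = 1) : top (mk a b c d h) = (a, b) := rfl

theorem bot_mk (a b c d : F) (h : a * d - b * c = 1) : bot (mk a b c d h) = (c, d) := rfl

theorem eq_of_rows {A B : SpecialLinearGroup (Fin 2) F} (h1 : top A = top B) (h2 : bot A = bot B) :
    A = B := by
  obtain ⟨a, b, c, d, h, rfl⟩ := exists_mk A
  obtain ⟨a', b', c', d', h', rfl⟩ := exists_mk B
  simp only [top_mk, bot_mk, Prod.mk.injEq] at h1 h2
  obtain ⟨rfl, rfl⟩ := h1
  obtain ⟨rfl, rfl⟩ := h2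
  rfl

theorem U_mk (x a b c d : F) (h : a * d - b * c = 1) :
    U x * mk a b c d h = mk (a + x * c) (b + x * d) c d (by linear_combination h) := by
  apply mat_ext
  rw [mat_mul, U_mat, mat_mk, mat_mk, Matrix.mul_fin_two]
  simp

theorem Dg_mk (x : Fˣ) (a b c d : F) (h : a * d - b * c = 1) :
    Dg x * mk a b c d h = mk (x * a) (x * b) (((x⁻¹ : Fˣ) : F) * c) (((x⁻¹ : Fˣ) : F) * d) (by
      have h1 : (x : F) * ((x⁻¹ : Fˣ) : F) = 1 := by rw [← Units.val_mul, mul_inv_cancel, Units.val_one]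
      linear_combination h + (a * d - b * c) * h1) := by
  apply mat_ext
  rw [mat_mul, Dg_mat, mat_mk, mat_mk, Matrix.mul_fin_two]
  simp

theorem Tm_mk [CharP F 2] (a b c d : F) (h : a * d - b * c = 1) :
    Tm F * mk a b c d h = mk c d a b (by
      have h1 : (c * b - d * a) = -1 := by linear_combination -h
      rw [h1, CharTwo.neg_eq]) := by
  apply mat_ext
  rw [mat_mul, Tm_mat, mat_mk, mat_mk, Matrix.mul_fin_two]
  simp

theorem top_U (x : F) (A : SpecialLinearGroup (Fin 2) F) : top (U x * A) = top A + x • bot A := by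
  obtain ⟨a, b, c, d, h, rfl⟩ := exists_mk A
  rw [U_mk, top_mk, top_mk, bot_mk]
  rfl

theorem bot_U (x : F) (A : SpecialLinearGroup (Fin 2) F) : bot (U x * A) = bot A := by
  obtain ⟨a, b, c, d, h, rfl⟩ := exists_mk A
  rw [U_mk, bot_mk, bot_mk]

theorem bot_Dg (x : Fˣ) (A : SpecialLinearGroup (Fin 2) F) :
    bot (Dg x * A) = ((x⁻¹ : Fˣ) : F) • bot A := by
  obtain ⟨a, b, c, d, h, rfl⟩ := exists_mk A
  rw [Dg_mk, bot_mk, bot_mk]
  rfl

variable [CharP F 2]

theorem top_Tm (A : SpecialLinearGroup (Fin 2) F) : top (Tm F * A) = bot A := by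
  obtain ⟨a, b, c, d, h, rfl⟩ := exists_mk A
  rw [Tm_mk, top_mk, bot_mk]

theorem bot_Tm (A : SpecialLinearGroup (Fin 2) F) : bot (Tm F * A) = top A := by
  obtain ⟨a, b, c, d, h, rfl⟩ := exists_mk A
  rw [Tm_mk, top_mk, bot_mk]

theorem dt_rows (A : SpecialLinearGroup (Fin 2) F) : dt (top A) (bot A) = 1 := by
  obtain ⟨a, b, c, d, h, rfl⟩ := exists_mk A
  rw [top_mk, bot_mk]
  unfold dt
  rw [← h, CharTwo.sub_eq_add]

theorem exists_rows (u v : F × F) (h : dt u v = 1) :
    ∃ A : SpecialLinearGroup (Fin 2) F, top A = u ∧ bot A = v :=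
  ⟨mk u.1 u.2 v.1 v.2 (by rw [← h, CharTwo.sub_eq_add]; rfl), rfl, rfl⟩

/-- Two matrices with the same bottom row differ by a root element. -/
theorem eq_U_mul {A B : SpecialLinearGroup (Fin 2) F} (h : bot A = bot B) : ∃ x, B = U x * A := by
  refine ⟨dt (top A) (top B), eq_of_rows ?_ ?_⟩
  · rw [top_U]
    have h3 := cramer (top A) (bot A) (top B)
    rw [dt_rows, h, dt_rows, one_smul, one_smul, ← h] at h3
    exact h3
  · rw [bot_U, h]

end rows

variable {G Ω : Type*} [Group G] [MulAction G Ω] {a : Ω} {t : G} {Q : Subgroup G}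
  {F : Type} [Field F] [Fintype F] [CharP F 2] [MulDistribMulAction Fˣ Q] {κ : Fˣ →* G} {δ : F → Q}

/-- The coordinates. -/
theorem exists_coord [Finite G] [FaithfulSMul G Ω] (hS : Cfsg.IsRankOneSetup G Ω a t Q)
    (h2 : ∃ x y : G, x ≠ 1 ∧ y ≠ 1 ∧ x ≠ y ∧ x * x = 1 ∧ y * y = 1 ∧ x * y = y * x)
    (T : Torus a t Q F κ δ) (hrs : t * δ 1 * t = δ 1 * t * δ 1)
    (hcard : Nat.card Q = Nat.card F ^ 3) (hsq : ∀ x : Q, x * x ∈ Set.range δ) :
    ∃ (sq : Q → F) (Tp Bt : Q → F × F), Coord δ sq Tp Bt ∧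
      ∀ x y : Q, x ∉ Set.range δ → y ∉ Set.range δ →
        t • (x : G) • t • a = (y : G) • t • a → Tp y = Bt x ∧ Bt y = Tp x := by
  classical
  set e : F → G := fun x => ((δ x : Q) : G) with he
  set k : Fˣ →* G := κ.comp (powMonoidHom 2) with hk
  have B : Blk a t Q e k := blk_of_torus hS T hrs
  obtain ⟨θ, h1, hθk, ht⟩ := B.rel.exists_hom
  obtain ⟨ω0, hω0⟩ := exists_not_mem_del hS B hcard
  -- the involution `t` fixes `s t a`
  have hfix : t • e 1 • t • a = e 1 • t • a := by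
    have h3 : t • e 1 • t • a = (t * e 1 * t) • a := by rw [mul_smul, mul_smul]
    rw [h3, show t * e 1 * t = e 1 * t * e 1 from hrs, mul_smul, mul_smul, B.e_a hS]
  have hbij := B.bijective hS h2 hfix h1 hθk ht hcard hω0
  have hinj : ∀ A A' : SpecialLinearGroup (Fin 2) F, θ A • ω0 = θ A' • ω0 → A = A' :=
    fun A A' h => hbij.1 (Subtype.ext h)
  have hsurj : ∀ ω, ω ∉ Del a t e → ∃ A, θ A • ω0 = ω := by
    intro ω hω
    obtain ⟨A, hA⟩ := hbij.2 ⟨ω, hω⟩
    exact ⟨A, congrArg Subtype.val hA⟩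
  -- points and elements of `Q`
  have hpt : ∀ x : Q, x ∉ Set.range δ → (x : G) • t • a ∉ Del a t e := by
    rintro x hx (h | ⟨y, h⟩)
    · exact RankOneBasic.smul_ne_of_mem (hS.le x.2) (RankOneBasic.t_smul_ne hS) h
    · have h3 := RankOneBasic.eq_of_smul_eq_smul hS x.2 (B.memQ y) (RankOneBasic.t_smul_ne hS) h
      exact hx ⟨y, Subtype.ext h3.symm⟩
  have hpt' : ∀ ω, ω ∉ Del a t e → ∃ x : Q, x ∉ Set.range δ ∧ (x : G) • t • a = ω := by
    intro ω hω
    obtain ⟨x, hx, rfl⟩ := RankOneBasic.exists_smul_t_smul hS (c := ω) (fun h => hω (Or.inl h))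
    refine ⟨⟨x, hx⟩, ?_, rfl⟩
    rintro ⟨y, hy⟩
    apply hω
    right
    exact ⟨y, by rw [he]; simp only; rw [hy]⟩
  have hm : ∀ x : Q, ∃ A : SpecialLinearGroup (Fin 2) F,
      x ∉ Set.range δ → θ A • ω0 = (x : G) • t • a := by
    intro x
    by_cases hx : x ∈ Set.range δ
    · exact ⟨1, fun h => absurd hx h⟩
    · obtain ⟨A, hA⟩ := hsurj _ (hpt x hx)
      exact ⟨A, fun _ => hA⟩
  choose m hm using hm
  choose sq hsq using hsq
  have huniq : ∀ x : Q, x ∉ Set.range δ → ∀ A, θ A • ω0 = (x : G) • t • a → m x = A := by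
    intro x hx A hA
    apply hinj
    rw [hm x hx, hA]
  have hS0 := T.singer
  have hδ0 : δ 0 = 1 := by
    have h := hS0.add 0 0
    rw [add_zero] at h
    exact (mul_eq_left.mp h.symm)
  have hnm : ∀ (x : Q), x ∉ Set.range δ → ∀ c, δ c * x ∉ Set.range δ := by
    rintro x hx c ⟨d, hd⟩
    apply hx
    refine ⟨c + d, ?_⟩
    rw [hS0.add, hd, ← mul_assoc, ← hS0.add, CharTwo.add_self_eq_zero, hδ0, one_mul]
  have hinvnm : ∀ (x : Q), x ∉ Set.range δ → x⁻¹ ∉ Set.range δ := by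
    rintro x hx ⟨d, hd⟩
    apply hx
    refine ⟨d, ?_⟩
    have h3 : δ d * δ d = 1 := by rw [← hS0.add, CharTwo.add_self_eq_zero, hδ0]
    have h4 : (δ d)⁻¹ = δ d := inv_eq_of_mul_eq_one_right h3
    rw [← h4, hd, inv_inv]
  -- the map `g`
  have hg : ∀ x y : Q, x ∉ Set.range δ → y ∉ Set.range δ →
      t • (x : G) • t • a = (y : G) • t • a → m y = Tm F * m x := by
    intro x y hx hy hxy
    apply huniq y hy
    rw [map_mul, ht, mul_smul, hm x hx, hxy]
  have hEmul : ∀ c x, x ∉ Set.range δ → m (δ c * x) = U c * m x := by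
    intro c x hx
    apply huniq _ (hnm x hx c)
    rw [map_mul, h1, mul_smul, hm x hx, Subgroup.coe_mul, mul_smul]
  refine ⟨sq, fun x => top (m x), fun x => bot (m x), ?_, ?_⟩
  · refine
      { add := hS0.add
        inj := hS0.inj
        cen := hS0.central
        sq_spec := fun x => (hsq x).symm
        inv := fun x hx => (hS0.inv x).1 hx
        det := fun x hx => dt_rows _
        ext := ?_
        surj := ?_
        T_mul := fun c x hx => ?_
        B_mul := fun c x hx => ?_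
        hom := ?_
        key := ?_ }
    · intro x y hx hy hT hB
      have h3 : m x = m y := eq_of_rows hT hB
      have h4 : (x : G) • t • a = (y : G) • t • a := by rw [← hm x hx, ← hm y hy, h3]
      exact Subtype.ext (RankOneBasic.eq_of_smul_eq_smul hS x.2 y.2 (RankOneBasic.t_smul_ne hS) h4)
    · intro u v huv
      obtain ⟨A, hAu, hAv⟩ := exists_rows u v huv
      obtain ⟨x, hx, hxA⟩ := hpt' (θ A • ω0) (fun h => hω0 ((B.theta_del_iff hS h1 hθk ht A).1 h))
      have h3 := huniq x hx A hxA.symm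
      exact ⟨x, hx, by rw [h3, hAu], by rw [h3, hAv]⟩
    · rw [hEmul c x hx, top_U]
    · rw [hEmul c x hx, bot_U]
    · -- homogeneity
      intro l hl x hx
      obtain ⟨c, hc⟩ : ∃ c : Fˣ, c = (Units.mk0 l hl)⁻¹ := ⟨_, rfl⟩
      have hyn : (c ^ 2) • x ∉ Set.range δ := by
        rintro ⟨z, hz⟩
        apply hx
        refine ⟨(((c ^ 2)⁻¹ : Fˣ) : F) * z, ?_⟩
        rw [← hS0.smul, hz, inv_smul_smul]
      refine ⟨(c ^ 2) • x, hyn, ?_, ?_⟩
      · have h3 : m ((c ^ 2) • x) = Dg c * m x := by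
          apply huniq _ hyn
          rw [map_mul, hθk, mul_smul, hm x hx, T.smul, mul_smul, mul_smul]
          have h4 : (κ (c ^ 2))⁻¹ • t • a = t • a := by
            rw [inv_smul_eq_iff]
            exact (B.k_ta c).symm
          rw [h4]
          rfl
        show bot (m _) = _
        rw [h3, bot_Dg, hc, inv_inv, Units.val_mk0]
      · have h3 : sq ((c ^ 2) • x) = (c : F) ^ 2 * sq x := by
          apply hS0.inj
          rw [hsq, ← smul_mul', ← hsq x, hS0.smul, Units.val_pow_eq_pow_val]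
        rw [h3, hc, Units.val_inv_eq_inv_val, Units.val_mk0]
        field_simp
    · -- key
      intro x y hx hy hTT hne
      have hTT : top (m y) = top (m x⁻¹) := hTT
      have hxi := hinvnm x hx
      -- `t y t a` and `t x⁻¹ t a` lie in the same `E`-orbit
      obtain ⟨gy, hgyR, hgy⟩ := hpt' (t • (y : G) • t • a) (fun h => hpt y hy (by
        have h3 := B.t_del hS h
        rwa [RankOneBasic.t_smul_t_smul hS] at h3))
      obtain ⟨gi, hgiR, hgi⟩ := hpt' (t • ((x⁻¹ : Q) : G) • t • a) (fun h => hpt _ hxi (by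
        have h3 := B.t_del hS h
        rwa [RankOneBasic.t_smul_t_smul hS] at h3))
      have h3 := hg y gy hy hgyR hgy.symm
      have h4 := hg _ gi hxi hgiR hgi.symm
      obtain ⟨c, hc⟩ := eq_U_mul (A := m gi) (B := m gy) (by
        rw [h3, h4, bot_Tm, bot_Tm, hTT])
      have h5 : t • (y : G) • t • a = e c • t • ((x⁻¹ : Q) : G) • t • a := by
        rw [← hgy, ← hgi, ← hm gy hgyR, ← hm gi hgiR, hc, map_mul, h1, mul_smul]
      have hc0 : c ≠ 0 := by
        rintro rfl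
        rw [B.rel.zero, one_smul] at h5
        have h6 := smul_left_cancel t h5
        have h7 := RankOneBasic.eq_of_smul_eq_smul hS y.2 (x⁻¹).2 (RankOneBasic.t_smul_ne hS) h6
        apply hne
        rw [Subtype.ext h7, mul_inv_cancel]
      obtain ⟨u, hu⟩ : ∃ u : Fˣ, (u : F) = c := ⟨Units.mk0 c hc0, rfl⟩
      -- the canonical form of `t x t`
      have hx1 : (x : G) ≠ 1 := fun h => hx ⟨0, by rw [hδ0]; exact (Subtype.ext h).symm⟩
      have hw : t * (x : G) * t ∉ stabilizer G a := fun h =>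
        hx1 (RankOneForm.eq_one_of_conj_mem hS x.2 h)
      obtain ⟨⟨w, f⟩, ⟨hwa, hfQ, hwf⟩, -⟩ := Cfsg.Agent.S1119.canonical hS _ hw
      simp only at hwa hfQ hwf
      have hwa' : w • a = a := hwa
      have h6 : t • ((x * y : Q) : G) • t • a = w • e ((u⁻¹ : Fˣ) : F) • t • a := by
        have e1 : t • ((x * y : Q) : G) • t • a =
            (t * (x : G) * t) • t • (y : G) • t • a := by
          rw [Subgroup.coe_mul, mul_smul (x : G), mul_smul, mul_smul,
            RankOneBasic.t_smul_t_smul hS]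
        have e2 : t • ((x⁻¹ : Q) : G) • t • a = (t * (x : G) * t)⁻¹ • a := by
          rw [_root_.mul_inv_rev, _root_.mul_inv_rev, RankOneBasic.t_inv hS, mul_smul, mul_smul,
            Subgroup.coe_inv]
        have e3 : (w * t * f)⁻¹ • a = f⁻¹ • t • a := by
          rw [_root_.mul_inv_rev, _root_.mul_inv_rev, RankOneBasic.t_inv hS, mul_smul, mul_smul]
          congr 2
          rw [inv_smul_eq_iff, hwa']
        have e4 : f * e c * f⁻¹ = e c := by
          rw [← B.central c f hfQ]; group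
        rw [e1, h5, e2, hwf, e3, mul_smul, mul_smul]
        have e5 : f • e c • f⁻¹ • t • a = e c • t • a := by
          rw [← mul_smul, ← mul_smul, e4]
        rw [e5, ← hu]
        congr 1
        rw [smul_smul, smul_smul, B.rel.te, mul_smul, B.e_a hS, mul_smul, mul_smul, B.k_ta]
      have hwe : w * e ((u⁻¹ : Fˣ) : F) * w⁻¹ ∈ Q := hS.conj_mem w hwa _ (B.memQ _)
      obtain ⟨c', hc'⟩ := B.inv_mem _ hwe (by
        calc w * e ((u⁻¹ : Fˣ) : F) * w⁻¹ * (w * e ((u⁻¹ : Fˣ) : F) * w⁻¹)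
            = w * (e ((u⁻¹ : Fˣ) : F) * e ((u⁻¹ : Fˣ) : F)) * w⁻¹ := by group
          _ = 1 := by rw [B.rel.mul_self]; group)
      have h7 : t • ((x * y : Q) : G) • t • a = e c' • t • (x : G) • t • a := by
        have e1 : t • (x : G) • t • a = w • t • a := by
          have e2 : t • (x : G) • t • a = (t * (x : G) * t) • a := by rw [mul_smul, mul_smul]
          rw [e2, hwf, mul_smul, mul_smul]
          congr 2
          exact hS.le hfQ
        rw [h6, e1, hc', mul_smul, mul_smul, inv_smul_smul]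
      have hxyR : x * y ∉ Set.range δ := by
        rintro ⟨z, hz⟩
        have h8 : e c' • t • (x : G) • t • a ∈ Del a t e := by
          rw [← h7]
          apply B.t_del hS
          rw [← hz]
          exact e_mem a t e z
        have h9 := B.e_del hS c' h8
        rw [smul_smul, B.rel.mul_self, one_smul] at h9
        have h10 := B.t_del hS h9
        rw [RankOneBasic.t_smul_t_smul hS] at h10
        exact hpt x hx h10
      refine ⟨hxyR, ?_⟩
      have h8 : Tm F * m (x * y) = U c' * (Tm F * m x) := by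
        apply hinj
        rw [map_mul, map_mul, map_mul, h1, ht, mul_smul, mul_smul, mul_smul, hm _ hxyR, hm x hx, h7]
      have h9 := congrArg bot h8
      rw [bot_Tm, bot_U, bot_Tm] at h9
      exact h9
  · intro x y hx hy hxy
    have h3 := hg x y hx hy hxy
    exact ⟨by show top (m y) = bot (m x); rw [h3, top_Tm], by show bot (m y) = top (m x); rw [h3, bot_Tm]⟩

end Cfsg.Agent.SuzukiRankOne.UThreeCoord
end

-- part: SuzukiRankOne/UThreeMain
section
set_option autoImplicit false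

/-!
Recognition of `PSU₃(q)`, `q = 2^n`: the rank one set-up with `t s t = s t s`, `|Q| = q³`, all squares
of elements of `Q` in `E`.
-/

namespace Cfsg.Agent.SuzukiRankOne.UThreeMain

open MulAction Matrix SLTwoRel SingerField UThreeReg UThreeAlg UThreeCoord
open Cfsg.Agent.LieRecognition Cfsg.Agent.LieRecognition.HermHeis

variable {G Ω : Type*} [Group G] [MulAction G Ω] {a : Ω} {t : G} {Q : Subgroup G}
  {F : Type} [Field F] [Fintype F] [CharP F 2] [MulDistribMulAction Fˣ Q] {κ : Fˣ →* G} {δ : F → Q}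

omit [CharP F 2] in
/-- The order of `F` is at least four. -/
theorem two_le [Finite G] (hS : Cfsg.IsRankOneSetup G Ω a t Q)
    (h2 : ∃ x y : G, x ≠ 1 ∧ y ≠ 1 ∧ x ≠ y ∧ x * x = 1 ∧ y * y = 1 ∧ x * y = y * x)
    (T : Torus a t Q F κ δ) {n : ℕ} (hn : Fintype.card F = 2 ^ n) : 2 ≤ n := by
  classical
  obtain ⟨x, y, hx, hy, hx1, hy1, hxy, hxx, hyy, -⟩ := Reduction.exists_two_involutions_Q hS h2
  obtain ⟨u, hu⟩ := (T.singer.inv ⟨x, hx⟩).1 (Subtype.ext hxx)
  obtain ⟨v, hv⟩ := (T.singer.inv ⟨y, hy⟩).1 (Subtype.ext hyy)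
  have hδ0 : δ 0 = 1 := by
    have h := T.singer.add 0 0
    rw [add_zero] at h
    exact (mul_eq_left.mp h.symm)
  have hu0 : u ≠ 0 := by
    rintro rfl
    rw [hδ0] at hu
    exact hx1 (congrArg Subtype.val hu).symm
  have hv0 : v ≠ 0 := by
    rintro rfl
    rw [hδ0] at hv
    exact hy1 (congrArg Subtype.val hv).symm
  have huv : u ≠ v := by
    rintro rfl
    exact hxy (congrArg Subtype.val (hu.symm.trans hv))
  have h3 : ({0, u, v} : Finset F).card = 3 := by
    rw [Finset.card_eq_three]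
    exact ⟨0, u, v, hu0.symm, hv0.symm, huv, rfl⟩
  have h4 : 3 ≤ Fintype.card F := by
    rw [← h3]; exact Finset.card_le_univ _
  by_contra hcon
  have h5 : n ≤ 1 := by omega
  have h6 : 2 ^ n ≤ 2 ^ 1 := Nat.pow_le_pow_right (by norm_num) h5
  omega

/-- **Recognition of `PSU₃(q)`** from the Singer torus. -/
theorem nonempty_mulEquiv_of_torus [Finite G] [FaithfulSMul G Ω]
    (hS : Cfsg.IsRankOneSetup G Ω a t Q)
    (h2 : ∃ x y : G, x ≠ 1 ∧ y ≠ 1 ∧ x ≠ y ∧ x * x = 1 ∧ y * y = 1 ∧ x * y = y * x)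
    (T : Torus a t Q F κ δ) (hrs : t * δ 1 * t = δ 1 * t * δ 1)
    (hcard : Nat.card Q = Nat.card F ^ 3) (hsq : ∀ x : Q, x * x ∈ Set.range δ)
    (hgen : Subgroup.closure ((Q : Set G) ∪ {t}) = ⊤) :
    ∃ (L : Type) (_ : Field L) (_ : Fintype L) (n : ℕ), 2 ≤ n ∧ Fintype.card L = (2 ^ n) ^ 2 ∧
      Nonempty (G ≃* Cfsg.PSU 3 L (2 ^ n)) := by
  classical
  have : Fact (Nat.Prime 2) := ⟨Nat.prime_two⟩
  obtain ⟨n, -, hn⟩ := FiniteField.card F 2
  have hn2 := two_le hS h2 T hn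
  obtain ⟨sq, Tp, Bt, H, Hg⟩ := exists_coord hS h2 T hrs hcard hsq
  obtain ⟨L, iF, iFt, iC, σ, iσ, hcardL, hfrob, φ, hφa, hφb, hφ⟩ := exists_heis H n hn
  refine ⟨L, iF, iFt, n, hn2, hcardL, ?_⟩
  have B := blk_of_torus hS T hrs
  refine PSUModel.nonempty_mulEquiv_PSU (σ := σ) hS hgen (by omega) hfrob
    (by rw [Nat.card_eq_fintype_card, hcardL]) φ ?_
  intro x hx1
  by_cases hx : x ∈ Set.range δ
  · obtain ⟨c, rfl⟩ := hx
    have hc : c ≠ 0 := by
      rintro rfl
      exact hx1 H.zero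
    obtain ⟨u, hu⟩ : ∃ u : Fˣ, (u : F) = c := ⟨Units.mk0 c hc, rfl⟩
    have hinv : ((u⁻¹ : Fˣ) : F) = c⁻¹ := by rw [Units.val_inv_eq_inv_val, hu]
    have h3 := B.rel.te u
    simp only [hu, hinv] at h3
    refine ⟨_, ?_, δ c⁻¹, h3, ?_, hφb c⟩
    · exact Subgroup.mul_mem _ (hS.le (δ c⁻¹).2) (B.k_mem _).1
    · rw [hφa, hφa, zero_div]
  · -- the general case
    have hx1' : (x : G) ≠ 1 := fun h => hx1 (Subtype.ext h)
    have hw : t * (x : G) * t ∉ stabilizer G a := fun h =>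
      hx1' (RankOneForm.eq_one_of_conj_mem hS x.2 h)
    obtain ⟨⟨w, f⟩, ⟨hwa, hfQ, hwf⟩, -⟩ := Cfsg.Agent.S1119.canonical hS _ hw
    simp only at hwa hfQ hwf
    obtain ⟨y, hy⟩ : ∃ y : Q, (y : G) = f := ⟨⟨f, hfQ⟩, rfl⟩
    rw [← hy] at hwf
    refine ⟨w, hwa, y, hwf, ?_⟩
    have hxi : x⁻¹ ∉ Set.range δ := H.inv_not_mem hx
    have h3 : t • ((x⁻¹ : Q) : G) • t • a = ((y⁻¹ : Q) : G) • t • a := by
      have e2 : t • ((x⁻¹ : Q) : G) • t • a = (t * (x : G) * t)⁻¹ • a := by
        rw [_root_.mul_inv_rev, _root_.mul_inv_rev, RankOneBasic.t_inv hS, mul_smul, mul_smul,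
          Subgroup.coe_inv]
      rw [e2, hwf, _root_.mul_inv_rev, _root_.mul_inv_rev, RankOneBasic.t_inv hS, mul_smul, mul_smul,
        Subgroup.coe_inv]
      congr 2
      rw [inv_smul_eq_iff]
      exact hwa.symm
    have hyi : y⁻¹ ∉ Set.range δ := by
      rintro ⟨z, hz⟩
      -- `t x⁻¹ t a` lies outside the block
      have h4 : ((x⁻¹ : Q) : G) • t • a ∈ Del a t (fun x => ((δ x : Q) : G)) := by
        have h5 : t • ((x⁻¹ : Q) : G) • t • a ∈ Del a t (fun x => ((δ x : Q) : G)) := by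
          rw [h3, ← hz]
          exact e_mem a t _ z
        have h6 := B.t_del hS h5
        rwa [RankOneBasic.t_smul_t_smul hS] at h6
      rcases h4 with h4 | ⟨z', h4⟩
      · exact RankOneBasic.smul_ne_of_mem (hS.le (x⁻¹).2) (RankOneBasic.t_smul_ne hS) h4
      · have h5 := RankOneBasic.eq_of_smul_eq_smul hS (x⁻¹).2 (δ z').2
          (RankOneBasic.t_smul_ne hS) h4
        exact hxi ⟨z', Subtype.ext h5.symm⟩
    have hyR : y ∉ Set.range δ := by
      have h4 := H.inv_not_mem hyi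
      rwa [inv_inv] at h4
    obtain ⟨h4, h5⟩ := Hg _ _ hxi hyi h3
    have hB : Bt y = Tp x + sq x • Bt x := by
      rw [← H.B_inv hyR, h5, H.T_inv hx]
    have hT : Tp y = Bt x + sq y • Bt y := by
      have h6 := H.T_inv hyi
      rw [inv_inv, H.sq_inv, H.B_inv hyR, h4, H.B_inv hx] at h6
      exact h6
    exact hφ x y hx hyR hB hT

omit [Fintype F] [CharP F 2] in
/-- The elements of `E`. -/
theorem mem_range_iff [Finite G] (hS : Cfsg.IsRankOneSetup G Ω a t Q) (T : Torus a t Q F κ δ)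
    (x : Q) : x ∈ Set.range δ ↔
      (x : G) = 1 ∨ (x : G) ∈ Cfsg.involutionsIn (stabilizer G a : Set G) := by
  constructor
  · rintro ⟨c, rfl⟩
    by_cases h : ((δ c : Q) : G) = 1
    · exact Or.inl h
    · exact Or.inr ⟨hS.le (δ c).2, h, congrArg Subtype.val ((T.singer.inv (δ c)).2 ⟨c, rfl⟩)⟩
  · rintro (h | h)
    · exact (T.singer.inv x).1 (Subtype.ext (by rw [Subgroup.coe_mul, h, mul_one]; rfl))
    · exact (T.singer.inv x).1 (Subtype.ext h.2.2)

omit [Fintype F] [CharP F 2] in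
/-- `|F|` is the number of involutions of `G_a` plus one. -/
theorem card_field [Finite G] (hS : Cfsg.IsRankOneSetup G Ω a t Q) (T : Torus a t Q F κ δ) :
    Nat.card F = Nat.card (Cfsg.involutionsIn (stabilizer G a : Set G)) + 1 := by
  classical
  have hδ0 : δ 0 = 1 := by
    have h := T.singer.add 0 0
    rw [add_zero] at h
    exact (mul_eq_left.mp h.symm)
  have hF : Finite F := Finite.of_injective δ T.singer.inj
  rw [← Nat.card_congr (Equiv.optionSubtypeNe (0 : F)), Finite.card_option]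
  congr 1
  refine Nat.card_congr (Equiv.ofBijective (fun c : {c : F // c ≠ 0} =>
    (⟨((δ c.1 : Q) : G), ?_⟩ : Cfsg.involutionsIn (stabilizer G a : Set G))) ⟨?_, ?_⟩)
  · refine ⟨hS.le (δ c.1).2, fun h => c.2 (T.singer.inj ?_),
      congrArg Subtype.val ((T.singer.inv (δ c.1)).2 ⟨_, rfl⟩)⟩
    rw [hδ0]; exact Subtype.ext h
  · intro c d h
    have h1 : ((δ c.1 : Q) : G) = ((δ d.1 : Q) : G) := Subtype.mk.inj h
    exact Subtype.ext (T.singer.inj (Subtype.ext h1))
  · rintro ⟨x, hx⟩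
    have hxQ : x ∈ Q := RankOneBasic.mem_of_mul_self hS hx.1 hx.2.2
    obtain ⟨c, hc⟩ := (T.singer.inv ⟨x, hxQ⟩).1 (Subtype.ext hx.2.2)
    have h1 : ((δ c : Q) : G) = x := congrArg Subtype.val hc
    refine ⟨⟨c, ?_⟩, Subtype.ext h1⟩
    rintro rfl
    rw [hδ0] at hc
    exact hx.2.1 (congrArg Subtype.val hc).symm

/-- **Recognition of `PSU₃(q)`** (M4 of S1136), in terms of the set-up only.  `C` is the subgroup given
by S1131, `hcen` the first part of S1130. -/
theorem nonempty_mulEquiv {G Ω : Type*} [Group G] [Finite G] [MulAction G Ω] [FaithfulSMul G Ω]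
    {a : Ω} {t : G} {Q : Subgroup G} (hS : Cfsg.IsRankOneSetup G Ω a t Q)
    (h2 : ∃ x y : G, x ≠ 1 ∧ y ≠ 1 ∧ x ≠ y ∧ x * x = 1 ∧ y * y = 1 ∧ x * y = y * x)
    (hcen : ∀ s ∈ Cfsg.involutionsIn (stabilizer G a : Set G), s ∈ Q ∧ ∀ x ∈ Q, s * x = x * s)
    (C : Subgroup G)
    (hC : (C : Set G) = Cfsg.invertedBy (stabilizer G a ⊓ stabilizer G (t • a)) t)
    (hCc : IsCyclic C) (s : G) (hs : s ∈ Cfsg.involutionsIn (stabilizer G a : Set G))
    (hrs : t * s * t = s * t * s)
    (hcard : Nat.card Q = (Nat.card (Cfsg.involutionsIn (stabilizer G a : Set G)) + 1) ^ 3)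
    (hsq : ∀ x ∈ Q, x * x = 1 ∨ x * x ∈ Cfsg.involutionsIn (stabilizer G a : Set G))
    (hgen : Subgroup.closure ((Q : Set G) ∪ {t}) = ⊤) :
    ∃ (L : Type) (_ : Field L) (_ : Fintype L) (n : ℕ), 2 ≤ n ∧ Fintype.card L = (2 ^ n) ^ 2 ∧
      Nonempty (G ≃* Cfsg.PSU 3 L (2 ^ n)) := by
  obtain ⟨F, iF, iFt, iC, κ, iA, δ, T, hδ1⟩ := exists_torus hS hcen C hC hCc s hs
  refine nonempty_mulEquiv_of_torus hS h2 T (by rw [hδ1]; exact hrs) ?_ ?_ hgen
  · rw [card_field hS T]; exact hcard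
  · intro x
    rw [mem_range_iff hS T]
    exact hsq x x.2

end Cfsg.Agent.SuzukiRankOne.UThreeMain
end

-- part: SuzukiRankOne/OrderFive
section
/-!
Rank-one set-up with structure equation `t s t = r⁻¹ t r`, in the case `r ≠ s`, `r ^ 4 = 1`:
`r ^ 2 = s`, `t s` has order five, `q = 2 ^ n` with `n` odd, `t s` acts freely on `Ω`, so `5` divides
`|Ω| = |Q| + 1` and `|Q| ≠ q ^ 3` (S1136).
-/

set_option autoImplicit false

namespace Cfsg.Agent.SuzukiRankOne.OrderFive

open MulAction Cfsg.Agent.LieRecognition.RankOneBasic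

variable {G Ω : Type*} [Group G] [MulAction G Ω] {a : Ω} {t : G} {Q : Subgroup G}

/-- `r⁻¹ (t s) r = (t s)²`. -/
theorem conj_ts {s r : G} (hsr : s * r = r * s)
    (h : t * s * t = r⁻¹ * t * r) : r⁻¹ * (t * s) * r = (t * s) ^ 2 := by
  have h1 : r⁻¹ * (t * s) * r = (r⁻¹ * t * r) * s := by
    rw [mul_assoc r⁻¹ t r, mul_assoc, mul_assoc r⁻¹, mul_assoc t, mul_assoc t, hsr]
  rw [h1, ← h, pow_two]
  group

theorem s_conj_ts {s : G} (ht : t * t = 1) (hs2 : s * s = 1) : s * (t * s) * s = (t * s)⁻¹ := by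
  have hti : t⁻¹ = t := inv_eq_of_mul_eq_one_left ht
  have hsi : s⁻¹ = s := inv_eq_of_mul_eq_one_left hs2
  rw [mul_inv_rev, hti, hsi, mul_assoc, mul_assoc, hs2, mul_one]

/-- `y³ = 1` for `y = t s` forces `r = s`. -/
theorem eq_of_pow_three [Finite G] (hS : Cfsg.IsRankOneSetup G Ω a t Q)
    (hcen : ∀ s ∈ Cfsg.involutionsIn (stabilizer G a : Set G), s ∈ Q ∧ ∀ x ∈ Q, s * x = x * s)
    {s r : G} (hs : s ∈ Cfsg.involutionsIn (stabilizer G a : Set G)) (hr : r ∈ Q)
    (h : t * s * t = r⁻¹ * t * r) (h3 : (t * s) ^ 3 = 1) : r = s := by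
  have hti : t⁻¹ = t := inv_eq_of_mul_eq_one_left hS.mul_self
  have hsi : s⁻¹ = s := inv_eq_of_mul_eq_one_left hs.2.2
  have h1 : t * s * t = s⁻¹ * t * s := by
    rw [hsi]
    have h2 : (t * s * t) * (s * t * s) = 1 := by
      rw [← h3, pow_succ, pow_two]; simp only [mul_assoc]
    have h3' : t * s * t = (s * t * s)⁻¹ := eq_inv_of_mul_eq_one_left h2
    rw [h3', mul_inv_rev, mul_inv_rev, hti, hsi, mul_assoc]
  have hu := S1123.result hS
  have e := hu.unique (y₁ := (s, r)) (y₂ := (s, s)) ⟨hs, hr, h⟩ ⟨hs, (hcen s hs).1, h1⟩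
  exact congrArg Prod.snd e

/-- If an element `w ≠ 1` of `Q` with `w² = 1` commutes with `z` (of odd order, inverted by the
involution `s` of `G_a`), then `z ^ 2 = 1`. -/
theorem sq_eq_one_of_comm [Finite G] (hS : Cfsg.IsRankOneSetup G Ω a t Q)
    (hclosed : ∀ s ∈ Cfsg.involutionsIn (stabilizer G a : Set G),
      ∀ s' ∈ Cfsg.involutionsIn (stabilizer G a : Set G),
        s * s' = 1 ∨ s * s' ∈ Cfsg.involutionsIn (stabilizer G a : Set G))
    {s w z : G} (hs : s ∈ Cfsg.involutionsIn (stabilizer G a : Set G)) (hwa : w • a = a)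
    (hw1 : w ≠ 1) (hw2 : w * w = 1) (hwz : w * z = z * w) (hsz : s * z * s = z⁻¹) :
    z * z = 1 := by
  -- z fixes a
  have hza : z • a = a := by
    have h1 : w • (z • a) = z • a := by rw [smul_smul, hwz, mul_smul, hwa]
    exact fixed_unique hS hw1 hw2 h1 hwa
  have hsi : s⁻¹ = s := inv_eq_of_mul_eq_one_left hs.2.2
  have hsz2 : (s * z) * (s * z) = 1 := by
    have : (s * z) * (s * z) = (s * z * s) * z := by group
    rw [this, hsz, inv_mul_cancel]
  by_cases h1 : s * z = 1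
  · have : z = s := by
      have := eq_inv_of_mul_eq_one_right h1
      rw [this, hsi]
    rw [this]; exact hs.2.2
  · have hm : s * z ∈ Cfsg.involutionsIn (stabilizer G a : Set G) := by
      refine ⟨mul_mem hs.1 (mem_stabilizer_iff.2 hza), h1, hsz2⟩
    have hz : z = s * (s * z) := by rw [← mul_assoc, hs.2.2, one_mul]
    rcases hclosed s hs (s * z) hm with h | h
    · rw [hz, h, one_mul]
    · rw [hz]; exact h.2.2

/-- `r ≠ s`, `r⁴ = 1` imply `r² = s`. -/
theorem sq_eq [Finite G] (hS : Cfsg.IsRankOneSetup G Ω a t Q)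
    (hcen : ∀ s ∈ Cfsg.involutionsIn (stabilizer G a : Set G), s ∈ Q ∧ ∀ x ∈ Q, s * x = x * s)
    (hclosed : ∀ s ∈ Cfsg.involutionsIn (stabilizer G a : Set G),
      ∀ s' ∈ Cfsg.involutionsIn (stabilizer G a : Set G),
        s * s' = 1 ∨ s * s' ∈ Cfsg.involutionsIn (stabilizer G a : Set G))
    {s r : G} (hs : s ∈ Cfsg.involutionsIn (stabilizer G a : Set G)) (hr : r ∈ Q)
    (h : t * s * t = r⁻¹ * t * r) (hrs : r ≠ s) (hr4 : (r * r) * (r * r) = 1) : r * r = s := by
  by_contra hne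
  have hsr : s * r = r * s := (hcen s hs).2 r hr
  have hsi : s⁻¹ = s := inv_eq_of_mul_eq_one_left hs.2.2
  set y := t * s with hy
  have hy2 : r⁻¹ * y * r = y ^ 2 := conj_ts hsr h
  have hc : ∀ n : ℕ, r⁻¹ * y ^ n * r = y ^ (2 * n) := by
    intro n
    have := conj_pow (a := r⁻¹) (b := y) (i := n)
    rw [inv_inv] at this
    rw [← this, hy2, ← pow_mul]
  have hy4 : (r * r)⁻¹ * y * (r * r) = y ^ 4 := by
    have : (r * r)⁻¹ * y * (r * r) = r⁻¹ * (r⁻¹ * y * r) * r := by group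
    rw [this, hy2, hc]
  have hc4 : ∀ n : ℕ, (r * r)⁻¹ * y ^ n * (r * r) = y ^ (4 * n) := by
    intro n
    have : (r * r)⁻¹ * y ^ n * (r * r) = r⁻¹ * (r⁻¹ * y ^ n * r) * r := by group
    rw [this, hc, hc]; congr 1; ring
  have hy16 : y ^ 16 = y := by
    have h1 : (r * r)⁻¹ * ((r * r)⁻¹ * y * (r * r)) * (r * r) = y ^ 16 := by
      rw [hy4, hc4]
    have h2 : (r * r)⁻¹ * ((r * r)⁻¹ * y * (r * r)) * (r * r) =
        ((r * r) * (r * r))⁻¹ * y * ((r * r) * (r * r)) := by group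
    rw [h2, hr4] at h1
    rw [← h1]; group
  have hy15 : y ^ 15 = 1 := by
    have : y ^ 15 * y = 1 * y := by rw [← pow_succ, hy16, one_mul]
    exact mul_right_cancel this
  have hsy : s * y * s = y⁻¹ := s_conj_ts hS.mul_self hs.2.2
  have hsyn : ∀ n : ℕ, s * y ^ n * s = (y ^ n)⁻¹ := by
    intro n
    have := conj_pow (a := s) (b := y) (i := n)
    rw [hsi] at this
    rw [← this, hsy, inv_pow]
  -- w
  set w := r * r * s with hw
  have hrrs : r * r * s = s * (r * r) := by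
    rw [← mul_assoc, hsr, mul_assoc r s r, hsr, ← mul_assoc]
  have hw1 : w ≠ 1 := by
    intro hw1
    apply hne
    have := eq_inv_of_mul_eq_one_left hw1
    rw [this, hsi]
  have hw2 : w * w = 1 := by
    have : w * w = (r * r) * (s * (r * r)) * s := by rw [hw]; group
    rw [this, ← hrrs]
    have : r * r * (r * r * s) * s = (r * r) * (r * r) * (s * s) := by group
    rw [this, hr4, hs.2.2, mul_one]
  have hra : r • a = a := mem_stabilizer_iff.1 (hS.le hr)
  have hsa : s • a = a := mem_stabilizer_iff.1 hs.1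
  have hwa : w • a = a := by rw [hw, mul_smul, mul_smul, hsa, hra, hra]
  have hwz : w * y ^ 3 = y ^ 3 * w := by
    have h1 : (r * r)⁻¹ * y ^ 3 * (r * r) = y ^ 12 := hc4 3
    have h2 : y ^ 12 = (y ^ 3)⁻¹ := by
      rw [eq_inv_iff_mul_eq_one, ← pow_add]; exact hy15
    have h3 : y ^ 3 * (r * r) = (r * r) * (y ^ 3)⁻¹ := by
      rw [← h2, ← h1]; group
    have h4 : (y ^ 3)⁻¹ * s = s * y ^ 3 := by
      rw [← hsyn 3, mul_assoc, hs.2.2, mul_one]
    calc w * y ^ 3 = (r * r) * (s * y ^ 3) := by rw [hw]; group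
      _ = (r * r) * ((y ^ 3)⁻¹ * s) := by rw [h4]
      _ = ((r * r) * (y ^ 3)⁻¹) * s := by group
      _ = (y ^ 3 * (r * r)) * s := by rw [h3]
      _ = y ^ 3 * w := by rw [hw]; group
  have hz := sq_eq_one_of_comm hS hclosed hs hwa hw1 hw2 hwz (hsyn 3)
  have hy3 : y ^ 3 = 1 := by
    have h6 : y ^ 6 = 1 := by
      rw [show 6 = 3 + 3 from rfl, pow_add, hz]
    have h12 : y ^ 12 = 1 := by
      rw [show 12 = 6 + 6 from rfl, pow_add, h6, one_mul]
    calc y ^ 3 = y ^ 12 * y ^ 3 := by rw [h12, one_mul]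
      _ = y ^ 15 := by rw [← pow_add]
      _ = 1 := hy15
  exact hrs (eq_of_pow_three hS hcen hs hr h hy3)

/-- `r² = s` implies that `t s` has order five. -/
theorem orderOf_ts (hS : Cfsg.IsRankOneSetup G Ω a t Q)
    {s r : G} (hs : s ∈ Cfsg.involutionsIn (stabilizer G a : Set G)) (hsr : s * r = r * s)
    (h : t * s * t = r⁻¹ * t * r) (hr2 : r * r = s) : orderOf (t * s) = 5 := by
  have hsi : s⁻¹ = s := inv_eq_of_mul_eq_one_left hs.2.2
  set y := t * s with hy
  have hy2 : r⁻¹ * y * r = y ^ 2 := conj_ts hsr h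
  have hc : ∀ n : ℕ, r⁻¹ * y ^ n * r = y ^ (2 * n) := by
    intro n
    have := conj_pow (a := r⁻¹) (b := y) (i := n)
    rw [inv_inv] at this
    rw [← this, hy2, ← pow_mul]
  have hy4 : (r * r)⁻¹ * y * (r * r) = y ^ 4 := by
    have : (r * r)⁻¹ * y * (r * r) = r⁻¹ * (r⁻¹ * y * r) * r := by group
    rw [this, hy2, hc]
  have hsy : s * y * s = y⁻¹ := s_conj_ts hS.mul_self hs.2.2
  rw [hr2, hsi, hsy] at hy4
  have h5 : y ^ 5 = 1 := by
    rw [pow_succ', ← hy4, mul_inv_cancel]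
  have h1 : y ≠ 1 := by
    intro h1
    apply hS.not_mem
    have h2 : t = s := by
      have := eq_inv_of_mul_eq_one_left h1
      rw [this, hsi]
    rw [h2]; exact hs.1
  have : Fact (Nat.Prime 5) := ⟨by norm_num⟩
  exact orderOf_eq_prime h5 h1

/-- Functional equation on points. -/
theorem func_eq (hS : Cfsg.IsRankOneSetup G Ω a t Q)
    {s r k : G} (hs : s ∈ Cfsg.involutionsIn (stabilizer G a : Set G))
    (h : t * s * t = r⁻¹ * t * r) (hr2 : r * r = s)
    (hra : r • a = a)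
    (hka : k • a = a) (hkt : t * k * t = k⁻¹)
    (hkr : r * (k * s * k⁻¹) = (k * s * k⁻¹) * r) :
    k • t • (k * s * k⁻¹) • r⁻¹ • t • a =
      r⁻¹ • t • (s * (k * s * k⁻¹)) • r⁻¹ • t • a := by
  have htt : t * t = 1 := hS.mul_self
  have hsi : s⁻¹ = s := inv_eq_of_mul_eq_one_left hs.2.2
  have hka' : k⁻¹ • a = a := by rw [inv_smul_eq_iff, hka]
  have hrho : r⁻¹ • t • a = (t * s * t) • a := by
    rw [h, mul_smul, mul_smul, hra]
  -- k t = t k⁻¹
  have hkt' : k * t = t * k⁻¹ := by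
    rw [← hkt, ← mul_assoc, ← mul_assoc, htt, one_mul]
  have hkt'' : k⁻¹ * t = t * k := by
    rw [← hkt, mul_assoc, mul_assoc, htt, mul_one]
  have hri : r = r⁻¹ * s := by rw [← hr2]; group
  calc k • t • (k * s * k⁻¹) • r⁻¹ • t • a
      = (k * t * (k * s * k⁻¹) * (t * s * t)) • a := by
        rw [hrho]; simp only [mul_smul]
    _ = (t * s * (k⁻¹ * t) * s * t) • a := by
        congr 1; rw [hkt']; group
    _ = ((t * s * t) * k * s * t) • a := by
        congr 1; rw [hkt'']; group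
    _ = (r⁻¹ * t * r * k * s * t) • a := by rw [h]
    _ = (r⁻¹ * t * r * (k * s * k⁻¹) * (k * t)) • a := by
        congr 1; group
    _ = (r⁻¹ * t * r * (k * s * k⁻¹) * t) • (k⁻¹ • a) := by
        rw [hkt', smul_smul]; congr 1; group
    _ = (r⁻¹ * t * (r * (k * s * k⁻¹)) * t) • a := by
        rw [hka']; congr 1; group
    _ = (r⁻¹ * t * ((k * s * k⁻¹) * r) * t) • a := by rw [hkr]
    _ = (r⁻¹ * t * ((k * s * k⁻¹) * (r⁻¹ * s)) * t) • a := by rw [← hri]
    _ = r⁻¹ • t • (s * (k * s * k⁻¹)) • r⁻¹ • t • a := by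
        have e1 : (k * s * k⁻¹) * (r⁻¹ * s) = (s * (k * s * k⁻¹)) * r⁻¹ := by
          have hrs : r⁻¹ * s = s * r⁻¹ := by rw [← hr2]; group
          have hkr' : (k * s * k⁻¹) * r⁻¹ = r⁻¹ * (k * s * k⁻¹) := by
            rw [eq_inv_mul_iff_mul_eq, ← mul_assoc, hkr, mul_assoc, mul_inv_cancel, mul_one]
          have hss : (k * s * k⁻¹) * s = s * (k * s * k⁻¹) := by
            have : (k * s * k⁻¹) * (r * r) = (r * r) * (k * s * k⁻¹) := by
              rw [← mul_assoc, ← hkr, mul_assoc, ← hkr, ← mul_assoc]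
            rwa [hr2] at this
          rw [hrs, ← mul_assoc, hss]
        rw [e1]; simp only [mul_smul]

/-- `K` acts freely on the involutions of `G_a`. -/
theorem eq_one_of_comm [Finite G] (hS : Cfsg.IsRankOneSetup G Ω a t Q) {C : Subgroup G}
    (hC : (C : Set G) = Cfsg.invertedBy (stabilizer G a ⊓ stabilizer G (t • a)) t)
    {s k : G} (hs : s ∈ Cfsg.involutionsIn (stabilizer G a : Set G)) (hk : k ∈ C)
    (hks : k * s * k⁻¹ = s) : k = 1 := by
  classical
  obtain ⟨hcard, htr⟩ := S1122.result hS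
  set I := Cfsg.involutionsIn (stabilizer G a : Set G) with hI
  have hcI : Nat.card C = Nat.card I := by
    rw [← hcard, ← hC]; rfl
  have hmem : ∀ c : C, (c : G)⁻¹ * s * c ∈ I := by
    rintro ⟨c, hc⟩
    have hcD : c ∈ stabilizer G a := by
      have : c ∈ (C : Set G) := hc
      rw [hC] at this
      exact this.1.1
    refine ⟨mul_mem (mul_mem (inv_mem hcD) hs.1) hcD, ?_, ?_⟩
    · intro h1
      apply hs.2.1
      have : c⁻¹ * s * c = 1 := h1
      calc s = c * (c⁻¹ * s * c) * c⁻¹ := by group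
        _ = 1 := by rw [this]; group
    · change (c⁻¹ * s * c) * (c⁻¹ * s * c) = 1
      calc (c⁻¹ * s * c) * (c⁻¹ * s * c) = c⁻¹ * (s * s) * c := by group
        _ = 1 := by rw [hs.2.2]; group
  let f : C → I := fun c => ⟨(c : G)⁻¹ * s * c, hmem c⟩
  have hsurj : Function.Surjective f := by
    rintro ⟨s', hs'⟩
    obtain ⟨c, hc, hcs⟩ := htr s hs s' hs'
    rw [← hC] at hc
    exact ⟨⟨c, hc⟩, Subtype.ext hcs⟩
  have hbij : Function.Bijective f := (Nat.bijective_iff_surjective_and_card f).2 ⟨hsurj, hcI⟩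
  have h1 : f ⟨k, hk⟩ = f 1 := by
    apply Subtype.ext
    change k⁻¹ * s * k = (1 : G)⁻¹ * s * 1
    calc k⁻¹ * s * k = k⁻¹ * (k * s * k⁻¹) * k := by rw [hks]
      _ = (1 : G)⁻¹ * s * 1 := by group
  have := hbij.1 h1
  exact congrArg Subtype.val this

/-- `r² = s` implies that `n` is odd. -/
theorem odd_n [Finite G] (hS : Cfsg.IsRankOneSetup G Ω a t Q)
    (hcen : ∀ s ∈ Cfsg.involutionsIn (stabilizer G a : Set G), s ∈ Q ∧ ∀ x ∈ Q, s * x = x * s)
    {C : Subgroup G}
    (hC : (C : Set G) = Cfsg.invertedBy (stabilizer G a ⊓ stabilizer G (t • a)) t)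
    {s r : G} (hs : s ∈ Cfsg.involutionsIn (stabilizer G a : Set G)) (hr : r ∈ Q)
    (h : t * s * t = r⁻¹ * t * r) (hr2 : r * r = s) {n : ℕ}
    (hn : Nat.card (Cfsg.involutionsIn (stabilizer G a : Set G)) + 1 = 2 ^ n) : Odd n := by
  by_contra hodd
  rw [Nat.not_odd_iff_even] at hodd
  obtain ⟨m, hm⟩ := hodd
  have hcC : Nat.card C + 1 = 2 ^ n := by
    rw [← hn, ← (S1122.result hS).1, ← hC]; rfl
  have h3 : 3 ∣ Nat.card C := by
    have h4 : 2 ^ n % 3 = 1 := by
      rw [hm, ← two_mul, pow_mul, Nat.pow_mod]; norm_num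
    omega
  have : Fact (Nat.Prime 3) := ⟨by norm_num⟩
  obtain ⟨⟨k, hk⟩, hko⟩ := exists_prime_orderOf_dvd_card' 3 h3
  have hk3 : k * k * k = 1 := by
    have := pow_orderOf_eq_one (⟨k, hk⟩ : C)
    rw [hko] at this
    have h1 := congrArg Subtype.val this
    simpa [pow_succ] using h1
  have hk1 : k ≠ 1 := by
    intro h1
    have : (⟨k, hk⟩ : C) = 1 := Subtype.ext h1
    rw [this, orderOf_one] at hko
    omega
  have hkC : k ∈ Cfsg.invertedBy (stabilizer G a ⊓ stabilizer G (t • a)) t := by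
    rw [← hC]; exact hk
  have hti : t⁻¹ = t := t_inv hS
  have htt : t * t = 1 := hS.mul_self
  have hsi : s⁻¹ = s := inv_eq_of_mul_eq_one_left hs.2.2
  have hka : k ∈ stabilizer G a := hkC.1.1
  have hka' : k • a = a := mem_stabilizer_iff.1 hka
  have hkt : t * k * t = k⁻¹ := by
    have := hkC.2; rwa [hti] at this
  have hkia' : k⁻¹ • a = a := by rw [inv_smul_eq_iff, hka']
  have hkit : t * k⁻¹ * t = k⁻¹⁻¹ := by
    have h1 : (t * k * t)⁻¹ = k⁻¹⁻¹ := by rw [hkt]
    rw [← h1, mul_inv_rev, mul_inv_rev, hti, mul_assoc]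
  have hsQ : s ∈ Q := (hcen s hs).1
  -- involutions conjugates
  have hconj : ∀ g ∈ stabilizer G a, g * s * g⁻¹ ∈ Cfsg.involutionsIn (stabilizer G a : Set G) := by
    intro g hg
    refine ⟨mul_mem (mul_mem hg hs.1) (inv_mem hg), ?_, ?_⟩
    · intro h1
      apply hs.2.1
      calc s = g⁻¹ * (g * s * g⁻¹) * g := by group
        _ = 1 := by rw [h1]; group
    · calc (g * s * g⁻¹) * (g * s * g⁻¹) = g * (s * s) * g⁻¹ := by group
        _ = 1 := by rw [hs.2.2]; group
  have hu := hconj k hka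
  have hv := hconj k⁻¹ (inv_mem hka)
  rw [inv_inv] at hv
  set u := k * s * k⁻¹ with hu_def
  set v := k⁻¹ * s * k with hv_def
  have huQ : u ∈ Q := (hcen u hu).1
  have hvQ : v ∈ Q := (hcen v hv).1
  have hcs : ∀ x ∈ Q, s * x = x * s := (hcen s hs).2
  have hcu : ∀ x ∈ Q, u * x = x * u := (hcen u hu).2
  have hcv : ∀ x ∈ Q, v * x = x * v := (hcen v hv).2
  -- s * u * v = 1
  have hkk : k * k = k⁻¹ := eq_inv_of_mul_eq_one_left hk3
  have hprod : s * u * v = 1 := by
    by_contra hne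
    have he : s * u * v ∈ Cfsg.involutionsIn (stabilizer G a : Set G) := by
      refine ⟨mul_mem (mul_mem hs.1 hu.1) hv.1, hne, ?_⟩
      have e1 : (s * u * v) * (s * u * v) = (s * s) * (u * u) * (v * v) := by
        have h1 := hcs u huQ
        have h2 := hcs v hvQ
        have h3 := hcu v hvQ
        calc (s * u * v) * (s * u * v) = s * u * (v * s) * u * v := by group
          _ = s * (u * s) * (v * u) * v := by rw [← h2]; group
          _ = s * (s * u) * (u * v) * v := by rw [← h1, ← h3]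
          _ = (s * s) * (u * u) * (v * v) := by group
      rw [e1, hs.2.2, hu.2.2, hv.2.2]; group
    apply hk1
    refine eq_one_of_comm hS hC he hk ?_
    have e1 : k * (s * u * v) * k⁻¹ = u * v * s := by
      have h1 : k * v * k⁻¹ = s := by rw [hv_def]; group
      have h2 : k * u * k⁻¹ = v := by
        have hki : k⁻¹ * k⁻¹ = k := by rw [← hkk]; rw [← mul_assoc, hkk]; group
        calc k * u * k⁻¹ = (k * k) * s * (k⁻¹ * k⁻¹) := by rw [hu_def]; group
          _ = v := by rw [hkk, hki]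
      calc k * (s * u * v) * k⁻¹ = (k * s * k⁻¹) * (k * u * k⁻¹) * (k * v * k⁻¹) := by group
        _ = u * v * s := by rw [h1, h2]
    rw [e1, ← hcs (u * v) (mul_mem huQ hvQ)]
    exact (mul_assoc s u v).symm
  have hv' : v = s * u := by
    have := eq_inv_of_mul_eq_one_right hprod
    rw [this, mul_inv_rev, hsi]
    have : u⁻¹ = u := inv_eq_of_mul_eq_one_left hu.2.2
    rw [this, hcs u huQ]
  have hu' : u = s * v := by rw [hv', ← mul_assoc, hs.2.2, one_mul]
  have hra : r • a = a := mem_stabilizer_iff.1 (hS.le hr)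
  have e1 := func_eq hS hs h hr2 hra hka' hkt (by rw [← hu_def]; exact (hcu r hr).symm)
  have e2 := func_eq (k := k⁻¹) hS hs h hr2 hra hkia' hkit
    (by rw [inv_inv, ← hv_def]; exact (hcv r hr).symm)
  rw [← hu_def, ← hv'] at e1
  rw [inv_inv, ← hv_def, ← hu'] at e2
  set P := t • u • r⁻¹ • t • a with hP
  set P' := t • v • r⁻¹ • t • a with hP'
  have e3 : (r * k⁻¹ * r * k) • P = P := by
    have h1 : (r * k) • P = P' := by rw [mul_smul, e1, smul_inv_smul]
    have h2 : (r * k⁻¹) • P' = P := by rw [mul_smul, e2, smul_inv_smul]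
    calc (r * k⁻¹ * r * k) • P = (r * k⁻¹) • (r * k) • P := by
          rw [← mul_smul (r * k⁻¹) (r * k) P]; simp only [mul_assoc]
      _ = P := by rw [h1, h2]
  have hPa : P ≠ a := by
    intro h1
    have h2 : (u * r⁻¹) • t • a = t • a := by
      have : t • P = t • a := by rw [h1]
      rw [hP, t_smul_t_smul hS] at this
      rw [mul_smul]; exact this
    have h3 := eq_one_of_smul_t_smul hS (mul_mem huQ (inv_mem hr)) h2
    have h4 : u = r := by rw [mul_inv_eq_one] at h3; exact h3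
    apply hs.2.1
    rw [← hr2, ← h4]; exact hu.2.2
  have hmemQ : r * k⁻¹ * r * k ∈ Q := by
    have h1 : k⁻¹ * r * k ∈ Q := by
      have := hS.conj_mem k⁻¹ (inv_mem hka) r hr
      rwa [inv_inv] at this
    have : r * k⁻¹ * r * k = r * (k⁻¹ * r * k) := by group
    rw [this]; exact mul_mem hr h1
  have e4 : r * k⁻¹ * r * k = 1 := eq_one_of_smul_eq hS hmemQ hPa e3
  have e5 : k⁻¹ * r * k = r⁻¹ := by
    rw [eq_inv_iff_mul_eq_one]
    calc k⁻¹ * r * k * r = r⁻¹ * (r * k⁻¹ * r * k) * r := by group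
      _ = 1 := by rw [e4]; group
  apply hk1
  refine eq_one_of_comm hS hC hs hk ?_
  have e6 : k⁻¹ * s * k = s := by
    calc k⁻¹ * s * k = (k⁻¹ * r * k) * (k⁻¹ * r * k) := by rw [← hr2]; group
      _ = (r * r)⁻¹ := by rw [e5]; group
      _ = s := by rw [hr2, hsi]
  calc k * s * k⁻¹ = k * (k⁻¹ * s * k) * k⁻¹ := by rw [e6]
    _ = s := by group

/-- A fixed point of `t s` gives an element of `K` conjugate to `t s`. -/
theorem exists_mem_of_fixed [Finite G] (hS : Cfsg.IsRankOneSetup G Ω a t Q)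
    {C : Subgroup G}
    (hC : (C : Set G) = Cfsg.invertedBy (stabilizer G a ⊓ stabilizer G (t • a)) t)
    {s : G} (hs : s ∈ Cfsg.involutionsIn (stabilizer G a : Set G)) {x : Ω}
    (hx : (t * s) • x = x) : ∃ g : G, g * (t * s) * g⁻¹ ∈ C := by
  have htt : t * t = 1 := hS.mul_self
  have hti : t⁻¹ = t := t_inv hS
  have hsi : s⁻¹ = s := inv_eq_of_mul_eq_one_left hs.2.2
  -- t swaps x and s x
  have h1 : s • x = t • x := by
    have : t • (s • x) = x := by rw [smul_smul]; exact hx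
    calc s • x = t • t • (s • x) := by rw [t_smul_t_smul hS]
      _ = t • x := by rw [this]
  have hne : x ≠ t • x := by
    intro h2
    have h3 : s • x = x := by rw [h1, ← h2]
    have h4 : x = a := fixed_unique hS hs.2.1 hs.2.2 h3 (mem_stabilizer_iff.1 hs.1)
    apply t_smul_ne hS
    rw [← h4, ← h2]
  obtain ⟨g, hg1, hg2⟩ := exists_smul_pair hS hne (t_smul_ne hS).symm
  -- t₁, s₁
  set t₁ := g * t * g⁻¹ with ht₁
  set s₁ := g * s * g⁻¹ with hs₁
  have hgi1 : g⁻¹ • a = x := by rw [inv_smul_eq_iff, hg1]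
  have hgi2 : g⁻¹ • t • a = t • x := by rw [inv_smul_eq_iff, hg2]
  have ht1a : t₁ • a = t • a := by rw [ht₁, mul_smul, mul_smul, hgi1, hg2]
  have ht1b : t₁ • t • a = a := by
    rw [ht₁, mul_smul, mul_smul, hgi2, t_smul_t_smul hS, hg1]
  have ht1sq : t₁ * t₁ = 1 := by
    calc t₁ * t₁ = g * (t * t) * g⁻¹ := by rw [ht₁]; group
      _ = 1 := by rw [htt]; group
  have hs1a : s₁ • a = t • a := by rw [hs₁, mul_smul, mul_smul, hgi1, h1, hg2]
  have hs1b : s₁ • t • a = a := by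
    have h5 : s • t • x = x := by rw [← h1, smul_smul, hs.2.2, one_smul]
    rw [hs₁, mul_smul, mul_smul, hgi2, h5, hg1]
  have hs1sq : s₁ * s₁ = 1 := by
    calc s₁ * s₁ = g * (s * s) * g⁻¹ := by rw [hs₁]; group
      _ = 1 := by rw [hs.2.2]; group
  -- w = t₁ t
  have hwD : t₁ * t ∈ stabilizer G a ⊓ stabilizer G (t • a) := by
    refine Subgroup.mem_inf.2 ⟨?_, ?_⟩
    · rw [mem_stabilizer_iff, mul_smul, ht1b]
    · rw [mem_stabilizer_iff, mul_smul, t_smul_t_smul hS, ht1a]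
  have hodd : Odd (orderOf (t₁ * t)) := by
    have hd : orderOf (t₁ * t) ∣
        Nat.card ↥(stabilizer G a ⊓ stabilizer G (t • a)) := by
      have := orderOf_dvd_natCard (⟨t₁ * t, hwD⟩ : ↥(stabilizer G a ⊓ stabilizer G (t • a)))
      rwa [Subgroup.orderOf_mk] at this
    exact Odd.of_dvd_nat hS.odd_card hd
  obtain ⟨j, hj⟩ := hodd
  set w := t₁ * t with hw
  have hw1 : w ^ (2 * j + 1) = 1 := by rw [← hj]; exact pow_orderOf_eq_one w
  have htwi : t * w * t = w⁻¹ := by
    rw [hw, mul_inv_rev, hti, inv_eq_of_mul_eq_one_left ht1sq]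
    calc t * (t₁ * t) * t = t * t₁ * (t * t) := by group
      _ = t * t₁ := by rw [htt, mul_one]
  have htwn : ∀ i : ℕ, t * w ^ i * t = (w ^ i)⁻¹ := by
    intro i
    have := conj_pow (a := t) (b := w) (i := i)
    rw [hti] at this
    rw [← this, htwi, inv_pow]
  have hdt : w ^ j * t₁ * (w ^ j)⁻¹ = t := by
    have e1 : t₁ = w * t := by rw [hw, mul_assoc, htt, mul_one]
    have e2 : (w ^ j)⁻¹ = t * w ^ j * t := (htwn j).symm
    calc w ^ j * t₁ * (w ^ j)⁻¹ = w ^ j * (w * t) * (t * w ^ j * t) := by rw [← e1, ← e2]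
      _ = w ^ j * w * (t * t) * w ^ j * t := by group
      _ = w ^ (2 * j + 1) * t := by
        rw [htt, mul_one, two_mul, add_assoc, add_comm j 1, pow_add, pow_add, pow_one, mul_assoc (w ^ j)]
      _ = t := by rw [hw1, one_mul]
  have hwjD : w ^ j ∈ stabilizer G a ⊓ stabilizer G (t • a) := pow_mem hwD j
  set d := w ^ j with hd
  have hda : d • a = a := mem_stabilizer_iff.1 hwjD.1
  have hdb : d • t • a = t • a := mem_stabilizer_iff.1 hwjD.2
  have hdia : d⁻¹ • a = a := by rw [inv_smul_eq_iff, hda]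
  have hdib : d⁻¹ • t • a = t • a := by rw [inv_smul_eq_iff, hdb]
  set s₂ := d * s₁ * d⁻¹ with hs₂
  have hs2sq : s₂ * s₂ = 1 := by
    calc s₂ * s₂ = d * (s₁ * s₁) * d⁻¹ := by rw [hs₂]; group
      _ = 1 := by rw [hs1sq]; group
  have hs2a : s₂ • a = t • a := by rw [hs₂, mul_smul, mul_smul, hdia, hs1a, hdb]
  have hs2b : s₂ • t • a = a := by rw [hs₂, mul_smul, mul_smul, hdib, hs1b, hda]
  refine ⟨d * g, ?_⟩
  have e : (d * g) * (t * s) * (d * g)⁻¹ = t * s₂ := by
    calc (d * g) * (t * s) * (d * g)⁻¹ = (d * t₁ * d⁻¹) * s₂ := by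
          rw [hs₂, hs₁, ht₁]; group
      _ = t * s₂ := by rw [hdt]
  rw [e]
  have : t * s₂ ∈ (C : Set G) := by
    rw [hC]
    refine ⟨Subgroup.mem_inf.2 ⟨?_, ?_⟩, ?_⟩
    · rw [mem_stabilizer_iff, mul_smul, hs2a, t_smul_t_smul hS]
    · rw [mem_stabilizer_iff, mul_smul, hs2b]
    · rw [hti, mul_inv_rev, hti, inv_eq_of_mul_eq_one_left hs2sq]
      calc t * (t * s₂) * t = (t * t) * s₂ * t := by group
        _ = s₂ * t := by rw [htt, one_mul]
  exact this

/-- With `r² = s`, `5 ∣ |Q| + 1`. -/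
theorem five_dvd [Finite G] (hS : Cfsg.IsRankOneSetup G Ω a t Q)
    (hcen : ∀ s ∈ Cfsg.involutionsIn (stabilizer G a : Set G), s ∈ Q ∧ ∀ x ∈ Q, s * x = x * s)
    {C : Subgroup G}
    (hC : (C : Set G) = Cfsg.invertedBy (stabilizer G a ⊓ stabilizer G (t • a)) t)
    {s r : G} (hs : s ∈ Cfsg.involutionsIn (stabilizer G a : Set G)) (hr : r ∈ Q)
    (h : t * s * t = r⁻¹ * t * r) (hr2 : r * r = s) {n : ℕ}
    (hn : Nat.card (Cfsg.involutionsIn (stabilizer G a : Set G)) + 1 = 2 ^ n) :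
    5 ∣ Nat.card Q + 1 := by
  have hodd : Odd n := odd_n hS hcen hC hs hr h hr2 hn
  have hcC : Nat.card C + 1 = 2 ^ n := by
    rw [← hn, ← (S1122.result hS).1, ← hC]; rfl
  have h5 : orderOf (t * s) = 5 := orderOf_ts hS hs ((hcen s hs).2 r hr) h hr2
  have hfree : ∀ x : Ω, (t * s) • x ≠ x := by
    intro x hx
    obtain ⟨g, hg⟩ := exists_mem_of_fixed hS hC hs hx
    have h6 : orderOf (g * (t * s) * g⁻¹) = 5 := by
      rw [← h5]
      exact orderOf_injective (MulAut.conj g).toMonoidHom (MulAut.conj g).injective (t * s)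
    have h7 : 5 ∣ Nat.card C := by
      have := orderOf_dvd_natCard (⟨g * (t * s) * g⁻¹, hg⟩ : C)
      rwa [Subgroup.orderOf_mk, h6] at this
    have h8 : 2 ^ n % 5 = 2 ∨ 2 ^ n % 5 = 3 := by
      obtain ⟨m, hm⟩ := hodd
      rw [hm, pow_succ, pow_mul]
      have : ((2 ^ 2) ^ m) % 5 = 1 ∨ ((2 ^ 2) ^ m) % 5 = 4 := by
        clear * -
        induction m with
        | zero => left; rfl
        | succ m ih => rw [pow_succ]; omega
      omega
    omega
  have : Fact (Nat.Prime 5) := ⟨by norm_num⟩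
  have hfin : Finite Ω := finite_points hS
  have hp : IsPGroup 5 (Subgroup.zpowers (t * s)) := by
    apply IsPGroup.of_card (n := 1)
    rw [Nat.card_zpowers, h5, pow_one]
  have hmod := hp.card_modEq_card_fixedPoints Ω
  have hempty : Nat.card (fixedPoints (Subgroup.zpowers (t * s)) Ω) = 0 := by
    rw [Nat.card_eq_zero]
    left
    constructor
    rintro ⟨x, hx⟩
    exact hfree x (hx ⟨t * s, Subgroup.mem_zpowers _⟩)
  rw [hempty] at hmod
  rw [← card_points hS]
  exact (Nat.modEq_zero_iff_dvd).1 hmod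

/-- With `r² = s`, `|Q| = 2 ^ m` forces `m` even. -/
theorem even_of_card [Finite G] (hS : Cfsg.IsRankOneSetup G Ω a t Q)
    (hcen : ∀ s ∈ Cfsg.involutionsIn (stabilizer G a : Set G), s ∈ Q ∧ ∀ x ∈ Q, s * x = x * s)
    {C : Subgroup G}
    (hC : (C : Set G) = Cfsg.invertedBy (stabilizer G a ⊓ stabilizer G (t • a)) t)
    {s r : G} (hs : s ∈ Cfsg.involutionsIn (stabilizer G a : Set G)) (hr : r ∈ Q)
    (h : t * s * t = r⁻¹ * t * r) (hr2 : r * r = s) {n m : ℕ}
    (hn : Nat.card (Cfsg.involutionsIn (stabilizer G a : Set G)) + 1 = 2 ^ n)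
    (hQ : Nat.card Q = 2 ^ m) : Even m := by
  by_contra hodd
  rw [Nat.not_even_iff_odd] at hodd
  obtain ⟨j, hj⟩ := hodd
  have h5 := five_dvd hS hcen hC hs hr h hr2 hn
  rw [hQ, hj, pow_succ, pow_mul] at h5
  have : ((2 ^ 2) ^ j) % 5 = 1 ∨ ((2 ^ 2) ^ j) % 5 = 4 := by
    clear * -
    induction j with
    | zero => left; rfl
    | succ m ih => rw [pow_succ]; omega
  omega

/-- If `r ≠ s` and `r⁴ = 1` then `|Q| ≠ q³`, where `q = 2 ^ n` and `q - 1` is the number of
involutions of `G_a`. -/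
theorem card_ne_cube [Finite G] (hS : Cfsg.IsRankOneSetup G Ω a t Q)
    (hcen : ∀ s ∈ Cfsg.involutionsIn (stabilizer G a : Set G), s ∈ Q ∧ ∀ x ∈ Q, s * x = x * s)
    (hclosed : ∀ s ∈ Cfsg.involutionsIn (stabilizer G a : Set G),
      ∀ s' ∈ Cfsg.involutionsIn (stabilizer G a : Set G),
        s * s' = 1 ∨ s * s' ∈ Cfsg.involutionsIn (stabilizer G a : Set G))
    {C : Subgroup G}
    (hC : (C : Set G) = Cfsg.invertedBy (stabilizer G a ⊓ stabilizer G (t • a)) t)
    {s r : G} (hs : s ∈ Cfsg.involutionsIn (stabilizer G a : Set G)) (hr : r ∈ Q)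
    (h : t * s * t = r⁻¹ * t * r) (hrs : r ≠ s) (hr4 : (r * r) * (r * r) = 1) {n : ℕ}
    (hn : Nat.card (Cfsg.involutionsIn (stabilizer G a : Set G)) + 1 = 2 ^ n) :
    Nat.card Q ≠ (2 ^ n) ^ 3 := by
  intro hQ
  have hr2 := sq_eq hS hcen hclosed hs hr h hrs hr4
  have hodd : Odd n := odd_n hS hcen hC hs hr h hr2 hn
  rw [← pow_mul] at hQ
  have heven := even_of_card hS hcen hC hs hr h hr2 hn hQ
  have : Odd (n * 3) := hodd.mul (by decide)
  exact (Nat.not_even_iff_odd.2 this) heven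

end Cfsg.Agent.SuzukiRankOne.OrderFive
end

-- part: SuzukiRankOne/AbelianCase
section
/-!
# The case of a commutative `Q` in the rank-one set-up: `r = s`

In the rank-one set-up with 2-rank at least 2, let `K` be the set of elements of `D` inverted by `t` (assumed to be a
subgroup, cf. S1131) and let `s`, `r` be the structure pair, `t s t = r⁻¹ t r`.
If `Q` is a commutative 2-group, then `r = s`.
-/

set_option autoImplicit false

namespace Cfsg.Agent.SuzukiRankOne.AbelianCase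

open MulAction

variable {G Ω : Type*} [Group G] [Finite G] [MulAction G Ω] [FaithfulSMul G Ω] {a : Ω} {t : G} {Q : Subgroup G}

/-- In the rank-one set-up with 2-rank at least 2 and `Q` a commutative 2-group, the structure pair satisfies `r = s`.
`K` is the subgroup of the elements of `D` inverted by `t` (see S1131). -/
theorem r_eq_s (hS : Cfsg.IsRankOneSetup G Ω a t Q)
    (h2 : ∃ x y : G, x ≠ 1 ∧ y ≠ 1 ∧ x ≠ y ∧ x * x = 1 ∧ y * y = 1 ∧ x * y = y * x)
    (K : Subgroup G)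
    (hK : (K : Set G) = Cfsg.invertedBy (stabilizer G a ⊓ stabilizer G (t • a)) t)
    (hQ2 : IsPGroup 2 Q) (hQc : ∀ x ∈ Q, ∀ y ∈ Q, x * y = y * x)
    (s r : G) (hs : s ∈ Cfsg.involutionsIn (stabilizer G a : Set G)) (hr : r ∈ Q)
    (hsr : t * s * t = r⁻¹ * t * r) : r = s := by
  classical
  obtain ⟨b, hb⟩ : ∃ b, t • a = b := ⟨_, rfl⟩
  have hv2 := hS.mul_self
  have hba : b ≠ a := by rw [← hb]; exact fun h => hS.not_mem (mem_stabilizer_iff.2 h)
  have hvb : t • b = a := by rw [← hb, smul_smul, hv2, one_smul]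
  have hvinv : t⁻¹ = t := inv_eq_of_mul_eq_one_left hv2
  have hvv : ∀ x : Ω, t • t • x = x := fun x => by rw [smul_smul, hv2, one_smul]
  have hUa : ∀ u ∈ Q, u • a = a := fun u hu => hS.le hu
  have hUn : ∀ h : G, h • a = a → ∀ u ∈ Q, h * u * h⁻¹ ∈ Q := fun h hh => hS.conj_mem h hh
  have hreg := (Cfsg.Agent.S1119.result hS).1
  have hreg1 : ∀ u ∈ Q, ∀ w ∈ Q, ∀ c : Ω, c ≠ a → u • c = w • c → u = w := by
    intro u hu w hw c hc huw
    have hwc : w • c ≠ a := by
      intro h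
      apply hc
      have : w • c = w • a := by rw [h, hUa w hw]
      exact smul_left_cancel w this
    obtain ⟨x, -, hx'⟩ := hreg c (w • c) hc hwc
    have e1 := hx' ⟨u, hu⟩ huw
    have e2 := hx' ⟨w, hw⟩ rfl
    exact congrArg Subtype.val (e1.trans e2.symm)
  -- the subgroup K
  have hKm : ∀ k : G, k ∈ K ↔ k • a = a ∧ k • b = b ∧ t * k * t = k⁻¹ := by
    intro k
    have : k ∈ K ↔ k ∈ (K : Set G) := Iff.rfl
    rw [this, hK]
    constructor
    · rintro ⟨⟨h1, h2⟩, h3⟩
      rw [hvinv] at h3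
      rw [hb] at h2
      exact ⟨h1, h2, h3⟩
    · rintro ⟨h1, h2, h3⟩
      refine ⟨⟨h1, ?_⟩, ?_⟩
      · rw [hb]; exact h2
      · rw [hvinv]; exact h3
  have hinv' : ∀ h ∈ K, t * h = h⁻¹ * t := by
    intro h hh
    rw [← ((hKm h).1 hh).2.2]
    rw [mul_assoc, hv2, mul_one]
  have hinvp : ∀ h ∈ K, ∀ x : Ω, t • h • x = h⁻¹ • t • x := by
    intro h hh x
    rw [← mul_smul, hinv' h hh, mul_smul]
  have hKa : ∀ k ∈ K, k • a = a := fun k hk => ((hKm k).1 hk).1
  have hKb : ∀ k ∈ K, k • b = b := fun k hk => ((hKm k).1 hk).2.1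
  have hcomm : ∀ h ∈ K, ∀ k ∈ K, h * k = k * h := by
    intro h hh k hk
    have e1 := ((hKm _).1 (K.mul_mem hh hk)).2.2
    have e2 : t * (h * k) * t = (t * h * t) * (t * k * t) := by
      have : (t * h * t) * (t * k * t) = t * h * (t * t) * k * t := by group
      rw [this, hv2]; group
    rw [e2, ((hKm _).1 hh).2.2, ((hKm _).1 hk).2.2] at e1
    have := congrArg (fun t => t⁻¹) e1
    simpa using this.symm
  -- the involutions of G_a
  obtain ⟨hE1, hE2⟩ := Cfsg.Agent.S1130.result hS h2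
  have hinvmem : ∀ x ∈ Q, x ≠ 1 → x * x = 1 → x ∈ Cfsg.involutionsIn (stabilizer G a : Set G) :=
    fun x hx hx1 hx2 => ⟨hS.le hx, hx1, hx2⟩
  obtain ⟨hsU, hsZ⟩ := hE1 s hs
  obtain ⟨-, hs1, hss⟩ := hs
  have hs' := hinvmem s hsU hs1 hss
  have hsinv : s⁻¹ = s := inv_eq_of_mul_eq_one_left hss
  have hr1 : r ≠ 1 := by
    intro h
    rw [h, inv_one, one_mul, mul_one] at hsr
    have h1 : s = t := by
      have := congrArg (fun x => t * x * t) hsr
      have e : t * (t * s * t) * t = (t * t) * s * (t * t) := by group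
      simp only [e, hv2, one_mul, mul_one] at this
      exact this
    apply hba
    rw [← hb, ← h1, hUa s hsU]
  -- transitivity of K on the involutions
  have htrans : ∀ T ∈ Q, T ≠ 1 → T * T = 1 → ∃ k ∈ K, T = k * s * k⁻¹ := by
    intro T hT hT1 hTT
    obtain ⟨k, hk, hk'⟩ := (Cfsg.Agent.S1122.result hS).2 s hs' T (hinvmem T hT hT1 hTT)
    rw [← hK] at hk
    exact ⟨k⁻¹, K.inv_mem hk, by rw [inv_inv, hk']⟩
  -- K acts fixed-point-freely
  have hfree : ∀ k ∈ K, k ≠ 1 → ∀ u ∈ Q, k * u * k⁻¹ = u → u = 1 := by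
    intro k hk hk1 u hu hku
    have hk' : k ∈ Cfsg.invertedBy (stabilizer G a ⊓ stabilizer G (t • a)) t := by
      rw [← hK]; exact hk
    have h := Cfsg.Agent.S1128.result hS h2 k hk' hk1
    have hmem : u ∈ Q ⊓ Subgroup.centralizer {k} := by
      refine ⟨hu, Subgroup.mem_centralizer_iff.2 ?_⟩
      intro x hx
      rw [Set.mem_singleton_iff] at hx
      subst hx
      calc x * u = x * u * x⁻¹ * x := by group
        _ = u * x := by rw [hku]
    rw [h] at hmem
    exact Subgroup.mem_bot.1 hmem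
  -- a non-trivial element of K
  obtain ⟨k, hkK, hk1⟩ : ∃ k ∈ K, k ≠ 1 := by
    by_contra hcon
    push Not at hcon
    obtain ⟨x, y, hx1, hy1, hxy, hxx, hyy, hxyc⟩ := h2
    -- conjugate x to s
    obtain ⟨g, hg⟩ := (Cfsg.Agent.S1121.result hS).2 x s hx1 hxx hs1 hss
    have hall : ∀ T ∈ Q, T ≠ 1 → T * T = 1 → T = s := by
      intro T hT hT1 hTT
      obtain ⟨k, hk, hk'⟩ := htrans T hT hT1 hTT
      rw [hk', hcon k hk]; group
    -- the element g y g⁻¹ commutes with s, so lies in G_a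
    obtain ⟨y', hy'⟩ : ∃ y', y' = g * y * g⁻¹ := ⟨_, rfl⟩
    have hy'1 : y' ≠ 1 := by
      intro h
      apply hy1
      rw [hy'] at h
      have := congrArg (fun t => g⁻¹ * t * g) h
      simpa [mul_assoc] using this
    have hy'2 : y' * y' = 1 := by
      rw [hy']
      have : g * y * g⁻¹ * (g * y * g⁻¹) = g * (y * y) * g⁻¹ := by group
      rw [this, hyy]; group
    have hy's : s * y' = y' * s := by
      rw [← hg, hy']
      calc g * x * g⁻¹ * (g * y * g⁻¹) = g * (x * y) * g⁻¹ := by group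
        _ = g * (y * x) * g⁻¹ := by rw [hxyc]
        _ = _ := by group
    have hy'a : y' • a = a := by
      by_contra hne
      have h3 : s • (y' • a) = y' • a := by
        rw [← mul_smul, hy's, mul_smul, hUa s hsU]
      exact hs1 (hreg1 s hsU 1 Q.one_mem (y' • a) hne (by rw [h3, one_smul]))
    have hy'Q := (hE1 y' ⟨hy'a, hy'1, hy'2⟩).1
    have h4 := hall y' hy'Q hy'1 hy'2
    rw [← hg] at h4
    rw [hy'] at h4
    have h5 := mul_right_cancel h4
    exact hxy (mul_left_cancel h5).symm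
  -- the relations
  have hvrv : t * r * t = r * t * s := by
    have : t * r * t = r * (r⁻¹ * t * r) * t := by group
    rw [this, ← hsr]
    have : r * (t * s * t) * t = r * t * s * (t * t) := by group
    rw [this, hv2, mul_one]
  have hvriv : t * r⁻¹ * t = s * t * r⁻¹ := by
    have := congrArg (fun t => t⁻¹) hvrv
    simp only [mul_inv_rev, hvinv, hsinv] at this
    rw [← mul_assoc, ← mul_assoc] at this
    exact this
  have hvsb : t • s • b = r⁻¹ • b := by
    calc t • s • b = (t * s * t) • a := by rw [mul_smul, mul_smul, hb]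
      _ = r⁻¹ • b := by rw [hsr, mul_smul, mul_smul, hUa r hr, hb]
  have hvrib : t • r⁻¹ • b = s • b := by
    calc t • r⁻¹ • b = (t * r⁻¹ * t) • a := by rw [mul_smul, mul_smul, hb]
      _ = s • b := by rw [hvriv, mul_smul, mul_smul, hUa r⁻¹ (Q.inv_mem hr), hb]
  have hvrb : t • r • b = r • b := by
    calc t • r • b = (t * r * t) • a := by rw [mul_smul, mul_smul, hb]
      _ = r • b := by rw [hvrv, mul_smul, mul_smul, hUa s hsU, hb]
  have hA1 : ∀ x : Ω, t • r • x = r • t • s • t • x := by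
    intro x
    calc t • r • x = (t * r * t) • t • x := by rw [mul_smul, mul_smul, hvv]
      _ = _ := by rw [hvrv, mul_smul, mul_smul]
  have hA2 : ∀ x : Ω, t • r⁻¹ • x = s • t • r⁻¹ • t • x := by
    intro x
    calc t • r⁻¹ • x = (t * r⁻¹ * t) • t • x := by rw [mul_smul, mul_smul, hvv]
      _ = _ := by rw [hvriv, mul_smul, mul_smul]
  have hP1 : ∀ k ∈ K, ∀ q ∈ K,
      k * s * k⁻¹ * s = q * s * q⁻¹ → t • r • k • r⁻¹ • b = r • k • q⁻¹ • r⁻¹ • b := by
    intro k hk q hq hkq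
    have e1 : s • k⁻¹ • s • b = k⁻¹ • q • s • b := by
      have : s • k⁻¹ • s • b = k⁻¹ • (k * s * k⁻¹ * s) • b := by
        simp only [mul_smul, inv_smul_smul]
      rw [this, hkq, mul_smul, mul_smul, hKb _ (K.inv_mem hq)]
    calc t • r • k • r⁻¹ • b = r • t • s • k⁻¹ • t • r⁻¹ • b := by
          rw [hA1, hinvp k hk]
      _ = r • t • k⁻¹ • q • s • b := by rw [hvrib, e1]
      _ = r • k • q⁻¹ • t • s • b := by
          rw [hinvp k⁻¹ (K.inv_mem hk), inv_inv, hinvp q hq]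
      _ = r • k • q⁻¹ • r⁻¹ • b := by rw [hvsb]
  have hka := hKa k hkK
  have hkb := hKb k hkK
  have hkK' := K.inv_mem hkK
  have hka' := hKa _ hkK'
  have hkb' := hKb _ hkK'
  have hksU : k * s * k⁻¹ ∈ Q := hUn k hka s hsU
  obtain ⟨q, hqK, hkq⟩ : ∃ q ∈ K, k * s * k⁻¹ * s = q * s * q⁻¹ := by
    apply htrans _ (Q.mul_mem hksU hsU)
    · intro h
      apply hs1
      apply hfree k hkK hk1 s hsU
      exact eq_inv_of_mul_eq_one_left h |>.trans hsinv
    · have e1 := hQc _ hksU _ hsU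
      have : k * s * k⁻¹ * s * (k * s * k⁻¹ * s) = k * s * k⁻¹ * (s * (k * s * k⁻¹)) * s := by group
      rw [this, ← e1]
      have : k * s * k⁻¹ * (k * s * k⁻¹ * s) * s = k * (s * s) * k⁻¹ * (s * s) := by group
      rw [this, hss]; group
  have hqa := hKa q hqK
  have hqb := hKb q hqK
  have hqb' := hKb _ (K.inv_mem hqK)
  have hkqc : k * q = q * k := hcomm k hkK q hqK
  -- relation for `k⁻¹`
  have hkp : k⁻¹ * s * k⁻¹⁻¹ * s = (k⁻¹ * q) * s * (k⁻¹ * q)⁻¹ := by
    have e1 : (k⁻¹ * q) * s * (k⁻¹ * q)⁻¹ = k⁻¹ * (q * s * q⁻¹) * k := by group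
    rw [e1, ← hkq]
    have e2 : k⁻¹ * (k * s * k⁻¹ * s) * k = s * (k⁻¹ * s * k) := by group
    rw [e2, inv_inv]
    refine hQc _ ?_ _ hsU
    have := hUn k⁻¹ hka' s hsU
    simpa using this
  have hC1 : r⁻¹ * (k * r * k⁻¹) = (k * r * k⁻¹) * r⁻¹ :=
    hQc _ (Q.inv_mem hr) _ (hUn k hka r hr)
  have hC2 : r⁻¹ * (k⁻¹ * r * k) = (k⁻¹ * r * k) * r⁻¹ := by
    refine hQc _ (Q.inv_mem hr) _ ?_
    have := hUn k⁻¹ hka' r hr
    simpa using this
  have hL : t • r⁻¹ • k • r • b = s • k • r • k • q⁻¹ • r⁻¹ • b := by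
    have e1 : r⁻¹ • k⁻¹ • r • b = k⁻¹ • r • k • r⁻¹ • b := by
      have := congrArg (fun t => t • b) hC2
      simp only [mul_smul, hkb] at this
      exact this
    rw [hA2, hinvp k hkK, hvrb, e1, hinvp k⁻¹ hkK', inv_inv, hP1 k hkK q hqK hkq]
  have hR : t • r⁻¹ • k • r • b = k⁻¹ • r • q⁻¹ • r⁻¹ • b := by
    have e1 : r⁻¹ • k • r • b = k • r • k⁻¹ • r⁻¹ • b := by
      have := congrArg (fun t => t • b) hC1
      simp only [mul_smul, hkb'] at this
      exact this
    rw [e1, hinvp k hkK, hP1 k⁻¹ hkK' (k⁻¹ * q) (K.mul_mem hkK' hqK) hkp]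
    have : ∀ x : Ω, k⁻¹ • (k⁻¹ * q)⁻¹ • x = q⁻¹ • x := by
      intro x
      rw [← mul_smul]
      congr 1
      have : k⁻¹ * (k⁻¹ * q)⁻¹ = (q * (k⁻¹ * k)) ⁻¹ := by
        rw [← mul_inv_rev]
        congr 1
        rw [mul_assoc, ← hkqc]; group
      rw [this]; group
    rw [this]
  have hmain : k • q • s • k • r • k • q⁻¹ • r⁻¹ • b = q • r • q⁻¹ • r⁻¹ • b := by
    have e2 : k • q • s • k • r • k • q⁻¹ • r⁻¹ • b = k • q • k⁻¹ • r • q⁻¹ • r⁻¹ • b :=
      congrArg (fun t => k • q • t) (hL.symm.trans hR)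
    have e3 : k • q • k⁻¹ • r • q⁻¹ • r⁻¹ • b = q • k • k⁻¹ • r • q⁻¹ • r⁻¹ • b := by
      rw [← mul_smul, hkqc, mul_smul]
    rw [e2, e3, smul_inv_smul]
  have hqrU : q * r * q⁻¹ ∈ Q := hUn q hqa r hr
  have hqsU : q * s * q⁻¹ ∈ Q := hUn q hqa s hsU
  have hstar : (q * r * q⁻¹) * r⁻¹ = (k * (q * s * q⁻¹) * k⁻¹) * (k * (k * (q * r * q⁻¹) * k⁻¹) * k⁻¹)
      * (k * (k * (k * r * k⁻¹) * k⁻¹) * k⁻¹)⁻¹ := by
    refine hreg1 _ (Q.mul_mem hqrU (Q.inv_mem hr)) _ ?_ b hba ?_
    · exact Q.mul_mem (Q.mul_mem (hUn k hka _ hqsU) (hUn k hka _ (hUn k hka _ hqrU)))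
        (Q.inv_mem (hUn k hka _ (hUn k hka _ (hUn k hka _ hr))))
    · have e1 : ∀ x : Ω, q⁻¹ • k • x = k • q⁻¹ • x := by
        intro x
        rw [← mul_smul, ← mul_smul]
        congr 1
        calc q⁻¹ * k = q⁻¹ * (k * q) * q⁻¹ := by group
          _ = k * q⁻¹ := by rw [hkqc]; group
      simp only [mul_smul, mul_inv_rev, inv_inv, inv_smul_smul, hkb', e1]
      rw [hmain]
  -- apply the abstract lemma
  let _ : CommGroup Q :=
    { (inferInstance : Group Q) with
      mul_comm := fun x y => Subtype.ext (hQc x x.2 y y.2) }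
  let cj : ∀ h : G, h • a = a → (Q →* Q) := fun h hh =>
    { toFun := fun u => ⟨h * u * h⁻¹, hUn h hh u u.2⟩
      map_one' := by ext; simp
      map_mul' := by
        intro x y
        ext
        show h * (x * y : G) * h⁻¹ = h * x * h⁻¹ * (h * y * h⁻¹)
        group }
  have hcjinj : ∀ (h : G) (hh : h • a = a), Function.Injective (cj h hh) := by
    intro h hh x y hxy
    have h1 : h * (x : G) * h⁻¹ = h * y * h⁻¹ := congrArg Subtype.val hxy
    ext
    exact mul_left_cancel (mul_right_cancel h1)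
  obtain ⟨j, hj⟩ := hQ2 ⟨r, hr⟩
  have key := LieRecognition.ZassEven.abs_key (A := Additive Q)
    (MonoidHom.toAdditive (cj k hka)) (MonoidHom.toAdditive (cj q hqa))
    (fun x y h => hcjinj k hka h) (fun x y h => hcjinj q hqa h)
    (Additive.ofMul ⟨r, hr⟩) (Additive.ofMul ⟨s, hsU⟩) ?_ j ?_ ?_ ?_ ?_ ?_
  · exact congrArg Subtype.val key
  · intro h
    exact hr1 (congrArg Subtype.val h)
  · exact hj
  · exact Subtype.ext hss
  · apply Subtype.ext
    show (q * r * q⁻¹) / r = (k * (q * s * q⁻¹) * k⁻¹) * (k * (k * (q * r * q⁻¹) * k⁻¹) * k⁻¹)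
      / (k * (k * (k * r * k⁻¹) * k⁻¹) * k⁻¹)
    rw [div_eq_mul_inv, div_eq_mul_inv]
    exact hstar
  · rintro ⟨T, hTU⟩ hT
    apply Subtype.ext
    show q * T * q⁻¹ = k * T * k⁻¹ * T
    have hTT : T * T = 1 := congrArg Subtype.val hT
    by_cases hT1 : T = 1
    · rw [hT1]; group
    · obtain ⟨l, hl', hl⟩ := htrans T hTU hT1 hTT
      have e1 : q * T * q⁻¹ = l * (q * s * q⁻¹) * l⁻¹ := by
        have := hcomm q hqK l hl'
        calc q * T * q⁻¹ = (q * l) * s * (q * l)⁻¹ := by rw [hl]; group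
          _ = _ := by rw [this]; group
      have e2 : k * T * k⁻¹ * T = l * (k * s * k⁻¹ * s) * l⁻¹ := by
        have := hcomm k hkK l hl'
        calc k * T * k⁻¹ * T = (k * l) * s * (k * l)⁻¹ * (l * s * l⁻¹) := by rw [hl]; group
          _ = _ := by rw [this]; group
      rw [e1, e2, hkq]
  · rintro ⟨T, hTU⟩ hT
    have hTT : k * T * k⁻¹ = T := congrArg Subtype.val hT
    exact Subtype.ext (hfree k hkK hk1 T hTU hTT)

end Cfsg.Agent.SuzukiRankOne.AbelianCase
end

-- part: SuzukiRankOne/Assembly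
section
/-!
# Assembly of Suzuki's theorem S1136: the simple case

`simple_case` : a simple faithful rank-one set-up of `2`-rank at least two is `PSL₂(2ⁿ)`, a Suzuki group
or `PSU₃(2ⁿ)`.
-/

set_option autoImplicit false

open Cfsg

namespace Cfsg.Agent.SuzukiRankOne.Assembly

open MulAction

variable {G Ω : Type*} [Group G] [Finite G] [MulAction G Ω] {a : Ω} {t : G} {Q : Subgroup G}

/-- Consequences of Higman's theorem for `Q` when its Sylow `2`-subgroup `Q` is a Suzuki `2`-group. -/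
theorem of_suzuki (hS : IsRankOneSetup G Ω a t Q)
    (hcen : ∀ s ∈ involutionsIn (stabilizer G a : Set G), s ∈ Q ∧ ∀ x ∈ Q, s * x = x * s)
    (S : Sylow 2 Q) (hST : (S : Subgroup Q) = ⊤) (hSuz : IsSuzukiTwoGroup ↥(S : Subgroup Q)) :
    (∀ x ∈ Q, (x * x) * (x * x) = 1) ∧
      (Nat.card Q = (Nat.card (involutionsIn (stabilizer G a : Set G)) + 1) ^ 2 ∨
        Nat.card Q = (Nat.card (involutionsIn (stabilizer G a : Set G)) + 1) ^ 3) ∧
      ∃ n : ℕ, Nat.card (involutionsIn (stabilizer G a : Set G)) + 1 = 2 ^ n := by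
  have hmem : ∀ x : Q, x ∈ (S : Subgroup Q) := fun x => by rw [hST]; exact Subgroup.mem_top x
  have hcardS : Nat.card (S : Subgroup Q) = Nat.card Q := by rw [hST, Subgroup.card_top]
  obtain ⟨-, -, hcard, hexp⟩ := S1138.result hSuz
  have h37 := (S1137.result hSuz).1
  -- the centre
  let φ : ↥(S : Subgroup Q) → G := fun x => ((x : Q) : G)
  have hφ : Function.Injective φ := fun x y h => Subtype.ext (Subtype.ext h)
  have himg : φ '' (Subgroup.center (S : Subgroup Q) : Set (S : Subgroup Q)) =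
      insert 1 (involutionsIn (stabilizer G a : Set G)) := by
    ext g
    constructor
    · rintro ⟨x, hx, rfl⟩
      by_cases hx1 : x = 1
      · left
        rw [hx1]
        rfl
      · right
        obtain ⟨h1, h2⟩ := (h37 x).2 ⟨hx, hx1⟩
        exact ⟨hS.le (x : Q).2, fun h => h1 (hφ h), congrArg φ h2⟩
    · rintro (rfl | ⟨hg, hg1, hg2⟩)
      · exact ⟨1, Subgroup.one_mem _, rfl⟩
      · have hgQ : g ∈ Q := (hcen g ⟨hg, hg1, hg2⟩).1
        refine ⟨⟨⟨g, hgQ⟩, hmem _⟩, ?_, rfl⟩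
        refine ((h37 ⟨⟨g, hgQ⟩, hmem _⟩).1 ⟨fun h => hg1 (congrArg φ h), ?_⟩).1
        exact hφ hg2
  have hZ : Nat.card (Subgroup.center (S : Subgroup Q)) =
      Nat.card (involutionsIn (stabilizer G a : Set G)) + 1 := by
    have h1 : Nat.card (Subgroup.center (S : Subgroup Q)) =
        (Subgroup.center (S : Subgroup Q) : Set (S : Subgroup Q)).ncard :=
      Nat.card_coe_set_eq _
    rw [h1, ← Set.ncard_image_of_injective _ hφ, himg, Set.ncard_insert_of_notMem,
      ← Nat.card_coe_set_eq]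
    · rintro ⟨-, h, -⟩
      exact h rfl
  rw [hZ, hcardS] at hcard
  refine ⟨?_, hcard, ?_⟩
  · intro x hx
    have h1 : ((⟨⟨x, hx⟩, hmem _⟩ : (S : Subgroup Q))) ^ 4 = 1 := by
      rw [← hexp]
      exact Monoid.pow_exponent_eq_one _
    have h2 : x ^ 4 = 1 := congrArg φ h1
    calc x * x * (x * x) = x ^ 4 := by
          rw [← pow_two, ← pow_two, ← pow_mul]
      _ = 1 := h2
  · have : Fact (Nat.Prime 2) := ⟨Nat.prime_two⟩
    obtain ⟨n, hn⟩ := IsPGroup.iff_card.1 (S.isPGroup'.to_subgroup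
      (Subgroup.center (S : Subgroup Q)))
    exact ⟨n, by rw [← hZ, hn]⟩

/-- **The simple case of S1136.** -/
theorem simple_case [FaithfulSMul G Ω] [IsSimpleGroup G] (hS : IsRankOneSetup G Ω a t Q)
    (h2 : ∃ x y : G, x ≠ 1 ∧ y ≠ 1 ∧ x ≠ y ∧ x * x = 1 ∧ y * y = 1 ∧ x * y = y * x) :
    (∃ (F : Type) (_ : Field F) (_ : Fintype F), (∃ n : ℕ, 2 ≤ n ∧ Fintype.card F = 2 ^ n) ∧
        Nonempty (G ≃* Matrix.ProjectiveSpecialLinearGroup (Fin 2) F)) ∨
      Lie.IsoSuzuki G ∨
      (∃ (F : Type) (_ : Field F) (_ : Fintype F) (n : ℕ), 2 ≤ n ∧ Fintype.card F = (2 ^ n) ^ 2 ∧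
        Nonempty (G ≃* PSU 3 F (2 ^ n))) := by
  obtain ⟨hcen, hclosed⟩ := S1130.result hS h2
  have hK := S1131.result hS h2
  obtain ⟨C, hC, hCc, -⟩ := id hK
  obtain ⟨⟨s, r⟩, ⟨hs, hr, hsr⟩, -⟩ := S1123.result hS
  simp only at hs hr hsr
  have hgen := Generate.closure_eq_top hS
  have hQ2 := M1.isPGroup_Q hS h2
  by_cases hall : ∀ x ∈ Q, x * x = 1
  · exact Or.inl (PSLTwoCase.main hS h2 hgen hcen C hC hCc hall)
  right
  by_cases hrs : r = s
  · -- `r = s` : unitary groups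
    right
    subst hrs
    have hinv : r⁻¹ = r := inv_eq_of_mul_eq_one_left hs.2.2
    rw [hinv] at hsr
    obtain ⟨F, iF, iFt, iFc, κ, iA, δ, T, hδ1⟩ :=
      SingerField.exists_torus hS hcen C hC hCc r hs
    obtain ⟨hsq, -, hcard⟩ := TranslationMain.main hS h2 T (by rw [hδ1]; exact hsr)
    have hcard' := hcard.resolve_left hall
    rw [UThreeMain.card_field hS T] at hcard'
    refine UThreeMain.nonempty_mulEquiv hS h2 hcen C hC hCc r hs hsr hcard' ?_ hgen
    intro x hx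
    by_cases h1 : x * x = 1
    · exact Or.inl h1
    · exact Or.inr ⟨hS.le (Q.mul_mem hx hx), h1, hsq x hx⟩
  · -- `r ≠ s` : Suzuki groups
    left
    have : Fact (Nat.Prime 2) := ⟨Nat.prime_two⟩
    have hnab : ¬ ∀ x ∈ Q, ∀ y ∈ Q, x * y = y * x := fun h =>
      hrs (AbelianCase.r_eq_s hS h2 C hC hQ2 h s r hs hr hsr)
    let S : Sylow 2 Q := default
    have hST : (S : Subgroup Q) = ⊤ :=
      (S.is_maximal' (hQ2.of_equiv Subgroup.topEquiv.symm) le_top).symm
    have hSuz : IsSuzukiTwoGroup ↥(S : Subgroup Q) := by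
      rcases S1132.result hS h2 S with h | h
      · exfalso
        apply hnab
        intro x hx y hy
        have hmem : ∀ x : Q, x ∈ (S : Subgroup Q) := fun x => by
          rw [hST]
          exact Subgroup.mem_top x
        have h3 := h.is_comm.comm (⟨⟨x, hx⟩, hmem _⟩ : (S : Subgroup Q)) ⟨⟨y, hy⟩, hmem _⟩
        exact congrArg (fun z : (S : Subgroup Q) => ((z : Q) : G)) h3
      · exact h
    obtain ⟨h4, hcard, n, hn⟩ := of_suzuki hS hcen S hST hSuz
    have hr2 : r * r = s := OrderFive.sq_eq hS hcen hclosed hs hr hsr hrs (h4 r hr)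
    have hcard' : Nat.card Q = (Nat.card (involutionsIn (stabilizer G a : Set G)) + 1) ^ 2 := by
      refine hcard.resolve_right ?_
      rw [hn]
      exact OrderFive.card_ne_cube hS hcen hclosed hC hs hr hsr hrs (h4 r hr) hn
    exact SzCase.isoSuzuki hS h2 hK hs hr hsr hr2 hcard'

end Cfsg.Agent.SuzukiRankOne.Assembly
end
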